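import Cfsg.Agent.Mrg.Omega.IId.ThmCQ.NsTor
import Cfsg.Agent.Mrg.Omega.NOThreeL.RA.Base
import Mathlib

section


/-!
# NO-3L, `R ∩ (A)`, `k = 1`, fields (`NsF`): the level of `V = V_P`

`M : NatK F S P V D 1`, `V = zl S P`, `D = cv S P`, `4 ≤ |F|` (`q : Sit F S P 1`), split or nonsplit.  `S₀ = LS M` = the elements
of `S` acting as an element of `SL₂(F)` on `V / D` (no field automorphism), `x_i(v) = M.e v 0 i`.

* `Zp M` = `Z⁺ = {v ∈ V | x₁(v) = 0} = C_V(S₀)` (`Zp_eq`); `D, Z ≤ Z⁺`; `S`, `N_P(S₀)` normalise `Z⁺`;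
* `Rt M = R` = the torus part of `Z⁺`: `Z⁺ = R × D` (`exists_rd`, `R_inf_D`), `R` covers the line (`exists_R`, `R_inj`);
* `eps M` = the projection of `Z⁺` onto `D` along `R` (`eps_*`), `S`-equivariant, constant under the torus;
* `tor` : `diag(t, t⁻¹)` is induced by an element of `P ∩ N(S₀)`, which centralises `D` and normalises `R`;
* `bet M s` : `s ∈ S₀` acts as `up (bet M s)` (`bet_act`, `bet_mul`, `bet_surj`, `bet_eq_zero`);
* **`exists_isG`** : there is an additive `g : F → D` with `[v, s] = (x₁(v) β(s), g(x₁(v)² β(s)))` (`IsG M g`).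
-/

set_option autoImplicit false
set_option linter.unusedSectionVars false
set_option linter.unusedVariables false

namespace Cfsg.Agent.Omega.NOThreeL.RF

open Subgroup Cfsg Cfsg.Agent.Omega.MinPar
open Cfsg.Agent.ZN (zc zl o2)
open Cfsg.Agent.Omega.Frame
open Cfsg.Agent.Omega.NoFF.Basic (conj_conj mem_conj conj_le_iff conj_le_centralizer comm_symm comm_mono)
open Cfsg.Agent.MinSimple.VModule (zl_le zc_le_zl le_normalizer_zl zc_le o2_isPGroup le_normalizer_o2 le_o2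
  normalizer_le_normalizer_zc mem_zc)
open Cfsg.Agent.Omega.NOThreeL (mem_normalizer_of_conj_eq le_normalizer_of)
open Cfsg.Agent.Omega.NOThreeL.RTools (cm cm_def conj_mem_of_mem)
open Cfsg.Agent.Omega.FFThm (NatK ActsSL)
open Cfsg.Agent.Omega.FrameFF (cv)
open Cfsg.Agent.Omega.HOne (cv_le conj_mem_zl conj_mem_cv)
open Cfsg.Agent.Omega.IId.Ns (Al Mv one1 one1_same one1_ne exists_omega)
open Cfsg.Agent.Omega.IId.ThmCQ.Nsp
open Cfsg.Agent.Lib.SL2Mat
open Cfsg.Agent.Omega.NatPair (ap ap_mul ap_one ap_inv_ap)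
open scoped Pointwise

universe u

variable {G : Type u} [Group G] [Finite G] {F : Type} [Field F] [Finite F] [CharP F 2] {S : Sylow 2 G} {P : Subgroup G}

section defs

variable (M : NatK F (S : Subgroup G) P (zl (S : Subgroup G) P) (cv (S : Subgroup G) P) 1)

/-- `Z⁺` = the vectors on the line -/
def Zp : Subgroup G where
  carrier := {v | v ∈ zl (S : Subgroup G) P ∧ M.e v 0 1 = 0}
  one_mem' := ⟨one_mem _, by rw [IId.Cv.e_one M]; rfl⟩
  mul_mem' := by
    rintro a b ⟨ha, h1⟩ ⟨hb, h2⟩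
    refine ⟨mul_mem ha hb, ?_⟩
    rw [M.mul a ha b hb, Pi.add_apply, Pi.add_apply, h1, h2, add_zero]
  inv_mem' := by
    rintro a ⟨ha, h1⟩
    refine ⟨inv_mem ha, ?_⟩
    rw [IId.Cv.e_inv M ha, Pi.neg_apply, Pi.neg_apply, h1, neg_zero]

/-- `R`: the torus part of `Z⁺` -/
def Rt : Subgroup G := Zf M 0

/-- the projection of `Z⁺` onto `D` along `R` -/
noncomputable def eps (z : G) : G := by
  classical
  exact if h : ∃ d ∈ cv (S : Subgroup G) P, z * d ∈ Rt M then h.choose else 1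

/-- `s ∈ S₀` acts as `up (bet M s)` -/
noncomputable def bet (s : G) : F := by
  classical
  exact if h : ∃ b : F, ActsSL M.e (zl (S : Subgroup G) P) (cv (S : Subgroup G) P) s fun _ => up b then h.choose else 0

/-- `[v, s] = (x₁(v) β(s), g(x₁(v)² β(s)))` -/
structure IsG (g : F → G) : Prop where
  mem : ∀ x, g x ∈ cv (S : Subgroup G) P
  add : ∀ x y, g (x + y) = g x * g y
  br : ∀ v ∈ zl (S : Subgroup G) P, ∀ s ∈ LS M, eps M (cm v s) = g ((M.e v 0 1) ^ 2 * bet M s)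

end defs

section alg

variable {M : NatK F (S : Subgroup G) P (zl (S : Subgroup G) P) (cv (S : Subgroup G) P) 1}

theorem mem_Zp {v : G} : v ∈ Zp M ↔ v ∈ zl (S : Subgroup G) P ∧ M.e v 0 1 = 0 := Iff.rfl

theorem Zp_le : Zp M ≤ zl (S : Subgroup G) P := fun _ h => h.1

theorem LV_iff {v : G} : v ∈ LV M ↔ v ∈ Zp M :=
  ⟨fun h => ⟨h.1, h.2 0⟩, fun h => ⟨h.1, fun l => by rw [Fin.eq_zero l]; exact h.2⟩⟩

theorem two_eq (x : F) : x + x = 0 := CharTwo.add_self_eq_zero x

theorem e_add {v w : G} (hv : v ∈ zl (S : Subgroup G) P) (hw : w ∈ zl (S : Subgroup G) P) (i : Fin 2) :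
    M.e (v * w) 0 i = M.e v 0 i + M.e w 0 i := by rw [M.mul v hv w hw]; rfl

theorem e_inv' {v : G} (hv : v ∈ zl (S : Subgroup G) P) (i : Fin 2) : M.e v⁻¹ 0 i = M.e v 0 i := by
  rw [IId.Cv.e_inv M hv, Pi.neg_apply, Pi.neg_apply, CharTwo.neg_eq]

theorem mem_D {v : G} (hv : v ∈ zl (S : Subgroup G) P) :
    v ∈ cv (S : Subgroup G) P ↔ M.e v 0 0 = 0 ∧ M.e v 0 1 = 0 := by
  rw [← M.ker v hv]
  constructor
  · intro h
    rw [h]
    exact ⟨rfl, rfl⟩
  · rintro ⟨h0, h1⟩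
    funext l
    rw [Fin.eq_zero l]
    exact NatPair.ext2 h0 h1

theorem e_D {d : G} (hd : d ∈ cv (S : Subgroup G) P) (i : Fin 2) : M.e d 0 i = 0 := by
  rw [IId.Cv.e_cv M hd]; rfl

theorem D_le_Zp : cv (S : Subgroup G) P ≤ Zp M := fun d hd => ⟨cv_le _ _ hd, e_D hd 1⟩

theorem one1_eq (B : Matrix.SpecialLinearGroup (Fin 2) F) : one1 (0 : Fin 1) B = fun _ => B := by
  funext l
  rw [Fin.eq_zero l, one1_same]

theorem Al_iff {x : G} {B : Matrix.SpecialLinearGroup (Fin 2) F} : Al M 0 x B ↔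
    x ∈ P ∧ ActsSL M.e (zl (S : Subgroup G) P) (cv (S : Subgroup G) P) x fun _ => B := by
  rw [Al, one1_eq]

theorem bet_act {s : G} (h : ∃ b : F, ActsSL M.e (zl (S : Subgroup G) P) (cv (S : Subgroup G) P) s fun _ => up b) :
    ActsSL M.e (zl (S : Subgroup G) P) (cv (S : Subgroup G) P) s fun _ => up (bet M s) := by
  classical
  rw [bet, dif_pos h]
  exact h.choose_spec

theorem up_inj' {b c : F} (h : (up b : Matrix.SpecialLinearGroup (Fin 2) F) = up c) : b = c := by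
  have := congrArg (fun A => ent A 0 1) h
  simpa using this

theorem bet_eq {s : G} {b : F} (h : ActsSL M.e (zl (S : Subgroup G) P) (cv (S : Subgroup G) P) s fun _ => up b) :
    bet M s = b := by
  have h1 := acts_unique (M := M) (bet_act ⟨b, h⟩) h
  exact up_inj' (congrFun h1 0)

end alg

section main

variable {M : NatK F (S : Subgroup G) P (zl (S : Subgroup G) P) (cv (S : Subgroup G) P) 1} (q : Sit F S P 1)
include q

theorem Zp_zc : Zp M ≤ zc (LS M) := fun v hv => LV_le_zc q (LV_iff.2 hv)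

theorem Zp_comm {z s : G} (hz : z ∈ Zp M) (hs : s ∈ LS M) : s * z = z * s := (mem_zc.1 (Zp_zc q hz)).2.1 s hs

theorem Zp_eq : Zp M = zl (S : Subgroup G) P ⊓ centralizer (LS M : Set G) := by
  apply le_antisymm
  · intro z hz
    exact mem_inf.2 ⟨hz.1, mem_centralizer_iff.2 fun s hs => Zp_comm q hz hs⟩
  · intro z hz
    exact LV_iff.1 (mem_LV_of_cent q (mem_inf.1 hz).1 fun s hs => mem_centralizer_iff.1 (mem_inf.1 hz).2 s hs)

theorem Z_le_Zp : zc (S : Subgroup G) ≤ Zp M := fun z hz => LV_iff.1 (zc_S_le q hz)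

theorem R_le_Zp : Rt M ≤ Zp M := fun z hz => LV_iff.1 (Zf_LV q hz)

theorem R_le_V : Rt M ≤ zl (S : Subgroup G) P := (R_le_Zp q).trans Zp_le

theorem sqV' {v : G} (hv : v ∈ zl (S : Subgroup G) P) : v * v = 1 := V_sq q hv

theorem invV {v : G} (hv : v ∈ zl (S : Subgroup G) P) : v⁻¹ = v := inv_eq_of_mul_eq_one_left (V_sq q hv)

theorem P_norm_V : P ≤ normalizer (zl (S : Subgroup G) P : Set G) := le_normalizer_zl _ _

theorem norm_Zp {x : G} (hx : x ∈ P) (hxN : x ∈ normalizer (LS M : Set G)) {z : G} (hz : z ∈ Zp M) :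
    x * z * x⁻¹ ∈ Zp M := LV_iff.1 (norm_LV q hx hxN (LV_iff.2 hz))

theorem S_norm_Zp : (S : Subgroup G) ≤ normalizer (Zp M : Set G) :=
  le_normalizer_of fun s hs z hz => norm_Zp q (q.h.le hs) (S_le_normalizer_LS q.h.le hs) hz

theorem Mv0 {g : G} (hg : g ∈ P) : Mv M g 0 0 := by
  obtain ⟨j, hj⟩ := IId.Ns.exists_Mv (M := M) hg 0
  rwa [Fin.eq_zero j] at hj

theorem S_norm_R : (S : Subgroup G) ≤ normalizer (Rt M : Set G) :=
  le_normalizer_of fun s hs z hz => (conj_Zf_S q hs (Mv0 q (q.h.le hs))).1 hz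

/-- upper triangular elements normalise `R` -/
theorem tri_norm_R {x : G} (hx : x ∈ P) {B : Matrix.SpecialLinearGroup (Fin 2) F} (hB : ent B 1 0 = 0)
    (hA : ActsSL M.e (zl (S : Subgroup G) P) (cv (S : Subgroup G) P) x fun _ => B) {z : G} (hz : z ∈ Rt M) :
    x * z * x⁻¹ ∈ Rt M := conj_Zf_Al q (Al_iff.2 ⟨hx, hA⟩) hB hz

theorem R_inf_D {z : G} (hz : z ∈ Rt M) (hD : z ∈ cv (S : Subgroup G) P) : z = 1 :=
  eq_one_of_Zf q hz (e_D hD 0)

theorem R_eq_one {z : G} (hz : z ∈ Rt M) (h0 : M.e z 0 0 = 0) : z = 1 := eq_one_of_Zf q hz h0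

theorem R_inj {z w : G} (hz : z ∈ Rt M) (hw : w ∈ Rt M) (h0 : M.e z 0 0 = M.e w 0 0) : z = w := Zf_inj q hz hw h0

theorem exists_R (c : F) : ∃ z ∈ Rt M, M.e z 0 0 = c := by
  obtain ⟨z, hz, h⟩ := exists_Zf q (M := M) 0 c
  exact ⟨z, hz, by rw [h]; rfl⟩

/-- `Z⁺ = R × D` -/
theorem exists_rd {z : G} (hz : z ∈ Zp M) : ∃ r ∈ Rt M, ∃ d ∈ cv (S : Subgroup G) P, z = r * d := by
  obtain ⟨r, hr, h⟩ := exists_R (M := M) q (M.e z 0 0)
  refine ⟨r, hr, r⁻¹ * z, ?_, by group⟩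
  have hrV := R_le_V q hr
  rw [mem_D (M := M) (mul_mem (inv_mem hrV) hz.1), e_add (inv_mem hrV) hz.1, e_add (inv_mem hrV) hz.1, e_inv' hrV,
    e_inv' hrV, h, two_eq, hz.2, (R_le_Zp q hr).2, two_eq]
  exact ⟨rfl, rfl⟩

/-! ### the projection -/

theorem eps_spec {z : G} (hz : z ∈ Zp M) : eps M z ∈ cv (S : Subgroup G) P ∧ z * eps M z ∈ Rt M := by
  classical
  have h : ∃ d ∈ cv (S : Subgroup G) P, z * d ∈ Rt M := by
    obtain ⟨r, hr, d, hd, h⟩ := exists_rd q hz
    refine ⟨d, hd, ?_⟩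
    rw [h, mul_assoc, V_sq q (cv_le _ _ hd), mul_one]
    exact hr
  rw [eps, dif_pos h]
  exact h.choose_spec

theorem eps_mem {z : G} (hz : z ∈ Zp M) : eps M z ∈ cv (S : Subgroup G) P := (eps_spec q hz).1

theorem mul_eps {z : G} (hz : z ∈ Zp M) : z * eps M z ∈ Rt M := (eps_spec q hz).2

theorem eps_eq {z d : G} (hz : z ∈ Zp M) (hd : d ∈ cv (S : Subgroup G) P) (h : z * d ∈ Rt M) : eps M z = d := by
  have h1 := mul_eps q hz
  have h2 := eps_mem q hz
  have h3 : (z * eps M z)⁻¹ * (z * d) = (eps M z)⁻¹ * d := by group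
  have h4 : (eps M z)⁻¹ * d = 1 := R_inf_D q (h3 ▸ mul_mem (inv_mem h1) h) (mul_mem (inv_mem h2) hd)
  exact inv_mul_eq_one.1 h4

theorem eps_D {d : G} (hd : d ∈ cv (S : Subgroup G) P) : eps M d = d :=
  eps_eq q (D_le_Zp hd) hd (by rw [V_sq q (cv_le _ _ hd)]; exact one_mem _)

theorem eps_R {r : G} (hr : r ∈ Rt M) : eps M r = 1 :=
  eps_eq q (R_le_Zp q hr) (one_mem _) (by rwa [mul_one])

theorem eps_one : eps M 1 = 1 := eps_R q (one_mem _)

theorem eps_mul {z w : G} (hz : z ∈ Zp M) (hw : w ∈ Zp M) : eps M (z * w) = eps M z * eps M w := by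
  refine eps_eq q (mul_mem hz hw) (mul_mem (eps_mem q hz) (eps_mem q hw)) ?_
  have h1 : w * eps M z = eps M z * w := V_comm q hw.1 (cv_le _ _ (eps_mem q hz))
  have h2 : z * w * (eps M z * eps M w) = (z * eps M z) * (w * eps M w) := by
    calc z * w * (eps M z * eps M w) = z * (w * eps M z) * eps M w := by group
      _ = z * (eps M z * w) * eps M w := by rw [h1]
      _ = _ := by group
  rw [h2]
  exact mul_mem (mul_eps q hz) (mul_eps q hw)

theorem eps_eq_one {z : G} (hz : z ∈ Zp M) : eps M z = 1 ↔ z ∈ Rt M := by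
  refine ⟨fun h => ?_, fun h => eps_R q h⟩
  have := mul_eps q hz
  rwa [h, mul_one] at this

/-- elements of `Z⁺` are determined by `x₀` and `ε` -/
theorem eq_of_coord {z w : G} (hz : z ∈ Zp M) (hw : w ∈ Zp M) (h0 : M.e z 0 0 = M.e w 0 0) (h1 : eps M z = eps M w) :
    z = w := by
  have hzD := cv_le _ _ (eps_mem q hz)
  have h2 : z * eps M z = w * eps M w := by
    refine R_inj q (mul_eps q hz) (mul_eps q hw) ?_
    rw [e_add hz.1 hzD, e_add hw.1 (cv_le _ _ (eps_mem q hw)), h0, h1]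
  rw [h1] at h2
  exact mul_right_cancel h2

/-- equivariance -/
theorem eps_conj {g : G} (hg : g ∈ P) (hgR : ∀ r ∈ Rt M, g * r * g⁻¹ ∈ Rt M) {z : G} (hz : z ∈ Zp M)
    (hz' : g * z * g⁻¹ ∈ Zp M) : eps M (g * z * g⁻¹) = g * eps M z * g⁻¹ := by
  refine eps_eq q hz' (conj_mem_cv hg (eps_mem q hz)) ?_
  have h2 : g * z * g⁻¹ * (g * eps M z * g⁻¹) = g * (z * eps M z) * g⁻¹ := by group
  rw [h2]
  exact hgR _ (mul_eps q hz)

theorem eps_S {s : G} (hs : s ∈ (S : Subgroup G)) {z : G} (hz : z ∈ Zp M) :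
    eps M (s * z * s⁻¹) = s * eps M z * s⁻¹ :=
  eps_conj q (q.h.le hs) (fun r hr => (conj_Zf_S q hs (Mv0 q (q.h.le hs))).1 hr) hz
    (conj_mem_of_mem (S_norm_Zp q hs) hz)

/-! ### the torus -/

/-- the torus elements -/
theorem tor {t : F} (ht : t ≠ 0) : ∃ x ∈ P, x ∈ normalizer (LS M : Set G) ∧
    ActsSL M.e (zl (S : Subgroup G) P) (cv (S : Subgroup G) P) x fun _ => dg t ht :=
  exists_norm q (fun _ => dg t ht) fun _ => by simp

/-- elements of `SL₂(F)` type normalising `Z⁺` do not change `ε` -/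
theorem eps_tri {x : G} (hx : x ∈ P) (hxN : x ∈ normalizer (LS M : Set G))
    {B : Matrix.SpecialLinearGroup (Fin 2) F}
    (hA : ActsSL M.e (zl (S : Subgroup G) P) (cv (S : Subgroup G) P) x fun _ => B) {z : G} (hz : z ∈ Zp M) :
    eps M (x * z * x⁻¹) = eps M z := by
  have hB := tri_of_norm q hx hxN hA 0
  rw [eps_conj q hx (fun r hr => tri_norm_R q hx hB hA hr) hz (norm_Zp q hx hxN hz), hA.2 _ (eps_mem q hz)]
  group

/-! ### `β` -/

theorem bet_LS {s : G} (hs : s ∈ LS M) :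
    ActsSL M.e (zl (S : Subgroup G) P) (cv (S : Subgroup G) P) s fun _ => up (bet M s) := by
  obtain ⟨b, hb⟩ := exists_b q.h.le hs
  refine bet_act ⟨b 0, ?_⟩
  have h1 : (fun i => up (b i)) = fun _ : Fin 1 => (up (b 0) : Matrix.SpecialLinearGroup (Fin 2) F) := by
    funext i
    rw [Fin.eq_zero i]
  rwa [h1] at hb

theorem bet_mul {s t : G} (hs : s ∈ LS M) (ht : t ∈ LS M) : bet M (s * t) = bet M s + bet M t := by
  refine bet_eq ?_
  have h1 := IId.Ns.acts_mul M (q.h.le hs.1) (q.h.le ht.1) (bet_LS q hs) (bet_LS q ht)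
  rwa [show (fun _ : Fin 1 => up (bet M s) * up (bet M t)) = fun _ => up (bet M s + bet M t) from
    funext fun _ => up_mul _ _] at h1

theorem bet_one : bet M 1 = 0 := by
  refine bet_eq ?_
  rw [up_zero]
  exact IId.Ns.acts_one M

theorem bet_surj (b : F) : ∃ s ∈ LS M, bet M s = b := by
  obtain ⟨t, ht, h⟩ := M.unip fun _ => b
  exact ⟨t, mem_LS q.h.le ht h, bet_eq h⟩

/-- `β(s) = 0` iff `s` centralises `V` -/
theorem bet_eq_zero {s : G} (hs : s ∈ LS M) :
    bet M s = 0 ↔ s ∈ centralizer (zl (S : Subgroup G) P : Set G) := by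
  constructor
  · intro h
    have h1 := bet_LS q hs
    rw [h, up_zero] at h1
    have h2 := IId.Ns.same_V q.hG S q.h q.hk M (q.h.le hs.1) (one_mem P) h1 (IId.Ns.acts_one M)
    rw [mem_centralizer_iff]
    intro v hv
    have h3 := h2 v hv
    rw [one_mul, inv_one, mul_one] at h3
    calc v * s = (s * v * s⁻¹) * s := by rw [h3]
      _ = s * v := by group
  · intro h
    refine bet_eq ?_
    rw [up_zero]
    refine ⟨fun v hv i => ?_, fun d hd => (mem_centralizer_iff.1 h d (cv_le _ _ hd)).symm⟩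
    rw [← mem_centralizer_iff.1 h v hv, mul_inv_cancel_right, ap_one]

/-! ### the commutators -/

theorem V_LS : zl (S : Subgroup G) P ≤ LS M := V_le_LS q

theorem e_cm {v s : G} (hv : v ∈ zl (S : Subgroup G) P) (hs : s ∈ LS M) :
    cm v s ∈ Zp M ∧ M.e (cm v s) 0 0 = M.e v 0 1 * bet M s := by
  have hsP := q.h.le hs.1
  have h1 : s * v⁻¹ * s⁻¹ ∈ zl (S : Subgroup G) P := conj_mem_zl hsP (inv_mem hv)
  have e1 : cm v s = v * (s * v⁻¹ * s⁻¹) := by rw [cm_def]; group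
  have h2 := (bet_LS q hs).1 _ (inv_mem hv) 0
  have h3 : M.e (s * v⁻¹ * s⁻¹) 0 0 = M.e v 0 0 + bet M s * M.e v 0 1 := by
    rw [h2, IId.Ns.ap_up2, e_inv' hv, e_inv' hv]; rfl
  have h4 : M.e (s * v⁻¹ * s⁻¹) 0 1 = M.e v 0 1 := by
    rw [h2, IId.Ns.ap_up2]
    change M.e v⁻¹ 0 1 = _
    rw [e_inv' hv]
  refine ⟨⟨?_, ?_⟩, ?_⟩
  · rw [e1]; exact mul_mem hv h1
  · rw [e1, e_add hv h1, h4, two_eq]
  · rw [e1, e_add hv h1, h3, ← add_assoc, two_eq, zero_add, mul_comm]

/-- `[v, s]` depends only on `x₁(v)` and on the action of `s` -/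
theorem cm_congr {w w' x x' : G} (hw : w ∈ zl (S : Subgroup G) P) (hw' : w' ∈ zl (S : Subgroup G) P) (hx : x ∈ P)
    (hx' : x' ∈ P) (h1 : M.e w 0 1 = M.e w' 0 1) {b : F}
    (hb : ActsSL M.e (zl (S : Subgroup G) P) (cv (S : Subgroup G) P) x fun _ => up b)
    (hb' : ActsSL M.e (zl (S : Subgroup G) P) (cv (S : Subgroup G) P) x' fun _ => up b) : cm w x = cm w' x' := by
  have h3 : ∀ y ∈ zl (S : Subgroup G) P, x * y * x⁻¹ = x' * y * x'⁻¹ :=
    IId.Ns.same_V q.hG S q.h q.hk M hx hx' hb hb'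
  have h4 : w'⁻¹ * w ∈ Zp M := by
    refine ⟨mul_mem (inv_mem hw') hw, ?_⟩
    rw [e_add (inv_mem hw') hw, e_inv' hw', h1, two_eq]
  set z := w'⁻¹ * w with hz
  have h5 : w = w' * z := by rw [hz]; group
  have h7 : x * z * x⁻¹ = z := comm_LV q hx hb (LV_iff.2 h4)
  have h7' : x * z⁻¹ * x⁻¹ = z⁻¹ := by
    calc x * z⁻¹ * x⁻¹ = (x * z * x⁻¹)⁻¹ := by group
      _ = z⁻¹ := by rw [h7]
  have h6 : cm w x = cm w' x := by
    rw [h5, cm_def, cm_def, mul_inv_rev]
    calc w' * z * x * (z⁻¹ * w'⁻¹) * x⁻¹ = w' * z * (x * z⁻¹ * x⁻¹) * x * w'⁻¹ * x⁻¹ := by group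
      _ = w' * z * z⁻¹ * x * w'⁻¹ * x⁻¹ := by rw [h7']
      _ = w' * x * w'⁻¹ * x⁻¹ := by group
  rw [h6]
  have h8 : cm w' x = w' * (x * w'⁻¹ * x⁻¹) := by rw [cm_def]; group
  have h9 : cm w' x' = w' * (x' * w'⁻¹ * x'⁻¹) := by rw [cm_def]; group
  rw [h8, h9, h3 _ (inv_mem hw')]

theorem exists_v1 : ∃ v ∈ zl (S : Subgroup G) P, M.e v 0 0 = 0 ∧ M.e v 0 1 = 1 := by
  obtain ⟨v, hv, h⟩ := M.surj fun _ => ![0, 1]
  exact ⟨v, hv, by rw [h]; rfl, by rw [h]; rfl⟩

/-- **`[v, s] = (x₁(v) β(s), g(x₁(v)² β(s)))`** -/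
theorem exists_isG : ∃ g : F → G, IsG M g := by
  classical
  obtain ⟨v1, hv1, -, he1⟩ := exists_v1 (M := M) q
  choose s hs hsβ using bet_surj (M := M) q
  refine ⟨fun x => eps M (cm v1 (s x)), fun x => eps_mem q (e_cm q hv1 (hs x)).1, fun x y => ?_, fun v hv u hu => ?_⟩
  · have hsx := hs x
    have hsy := hs y
    have h1 : cm v1 (s (x + y)) = cm v1 (s x * s y) := by
      refine cm_congr (M := M) q hv1 hv1 (q.h.le (hs _).1) (q.h.le (mul_mem hsx hsy).1) rfl (b := x + y) ?_ ?_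
      · have := bet_LS q (hs (x + y))
        rwa [hsβ] at this
      · have := bet_LS q (mul_mem hsx hsy)
        rwa [bet_mul q hsx hsy, hsβ, hsβ] at this
    have h2 : cm v1 (s x * s y) = cm v1 (s x) * cm v1 (s y) := by
      have h3 := (e_cm q hv1 hsy).1
      have h4 : s x * cm v1 (s y) = cm v1 (s y) * s x := Zp_comm q h3 hsx
      have e1 : cm v1 (s x * s y) = cm v1 (s x) * (s x * cm v1 (s y) * (s x)⁻¹) := by simp only [cm_def]; group
      rw [e1, h4, mul_inv_cancel_right]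
    change eps M (cm v1 (s (x + y))) = eps M (cm v1 (s x)) * eps M (cm v1 (s y))
    rw [h1, h2, eps_mul q (e_cm q hv1 hsx).1 (e_cm q hv1 hsy).1]
  · set c := M.e v 0 1 with hc
    by_cases hne : c = 0
    · -- `v ∈ Z⁺`
      have h1 : cm v u = 1 := by
        have h2 := Zp_comm q (⟨hv, hne⟩ : v ∈ Zp M) hu
        rw [cm_def, ← h2]; group
      have h0 : c ^ 2 * bet M u = 0 := by rw [hne, zero_pow two_ne_zero, zero_mul]
      have h2 : cm v1 (s 0) = 1 := by
        have h3 := cm_congr (M := M) q hv1 hv1 (q.h.le (hs 0).1) (one_mem P) rfl (b := 0) (by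
          have := bet_LS q (hs 0)
          rwa [hsβ] at this) (by rw [up_zero]; exact IId.Ns.acts_one M)
        rw [h3, cm_def]; group
      change eps M (cm v u) = eps M (cm v1 (s (c ^ 2 * bet M u)))
      rw [h0, h1, h2]
    · obtain ⟨t, htP, htN, hta⟩ := tor (M := M) q hne
      have h1 := (e_cm q hv hu).1
      have h2 : t * cm v u * t⁻¹ = cm (t * v * t⁻¹) (t * u * t⁻¹) := by simp only [cm_def]; group
      have hvt : t * v * t⁻¹ ∈ zl (S : Subgroup G) P := conj_mem_zl htP hv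
      have huP := q.h.le hu.1
      have h3 : cm (t * v * t⁻¹) (t * u * t⁻¹) = cm v1 (s (c ^ 2 * bet M u)) := by
        refine cm_congr (M := M) q hvt hv1 (mul_mem (mul_mem htP huP) (inv_mem htP)) (q.h.le (hs _).1) ?_
          (b := c ^ 2 * bet M u) ?_ ?_
        · rw [hta.1 v hv 0, NatPair.ap_one', dg_10, dg_11, zero_mul, zero_add, he1, ← hc, inv_mul_cancel₀ hne]
        · have h4 := IId.Ns.acts_mul M (mul_mem htP huP) (inv_mem htP) (IId.Ns.acts_mul M htP huP hta (bet_LS q hu))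
            (IId.Ns.acts_inv M htP hta)
          rwa [show (fun _ : Fin 1 => dg c hne * up (bet M u) * (dg c hne)⁻¹) = fun _ => up (c ^ 2 * bet M u) from
            funext fun _ => by rw [dg_up, mul_inv_cancel_right]] at h4
        · have := bet_LS q (hs (c ^ 2 * bet M u))
          rwa [hsβ] at this
      change eps M (cm v u) = eps M (cm v1 (s (c ^ 2 * bet M u)))
      rw [← h3, ← h2, eps_tri q htP htN hta h1]

end main

end Cfsg.Agent.Omega.NOThreeL.RF

end

section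


/-!
# NO-3L, `R ∩ (A)`, `k = 1`, fields (`NsF`): `V = [V, O²(P)] E` in coordinates, `D = g(F) E`

`M : NatK F S P V D 1`, `g : F → D` with `[v, s] = (x₁(v) β(s), g(x₁(v)² β(s)))` (`IsG M g`).

* `exists_PL_S` : `P = P^L S`;
* `cm_mem_sup` : `[v, s] ∈ R · g(F)` for `v ∈ V`, `s ∈ S₀`;
* **`exists_g`** : every `d ∈ D` is `g(x) e` with `e ∈ D ∩ Z`.
-/

set_option autoImplicit false
set_option linter.unusedSectionVars false
set_option linter.unusedVariables false

namespace Cfsg.Agent.Omega.NOThreeL.RF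

open Subgroup Cfsg Cfsg.Agent.Omega.MinPar
open Cfsg.Agent.ZN (zc zl o2)
open Cfsg.Agent.Omega.Frame
open Cfsg.Agent.Omega.NoFF.Basic (conj_conj mem_conj conj_le_iff conj_le_centralizer comm_symm comm_mono)
open Cfsg.Agent.MinSimple.VModule (zl_le zc_le_zl le_normalizer_zl zc_le o2_isPGroup le_normalizer_o2 le_o2
  normalizer_le_normalizer_zc mem_zc)
open Cfsg.Agent.Omega.NOThreeL (mem_normalizer_of_conj_eq le_normalizer_of mem_sup_of_comm)
open Cfsg.Agent.Omega.NOThreeL.RTools (cm cm_def conj_mem_of_mem)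
open Cfsg.Agent.Omega.FFThm (NatK ActsSL)
open Cfsg.Agent.Omega.FrameFF (cv)
open Cfsg.Agent.Omega.HOne (cv_le conj_mem_zl conj_mem_cv)
open Cfsg.Agent.Omega.IId.Ns (Al Mv one1 one1_same one1_ne exists_omega)
open Cfsg.Agent.Omega.IId.ThmCQ.Nsp
open Cfsg.Agent.Lib.SL2Mat
open Cfsg.Agent.Omega.NatPair (ap ap_mul ap_one ap_inv_ap)
open scoped Pointwise

universe u

variable {G : Type u} [Group G] [Finite G] {F : Type} [Field F] [Finite F] [CharP F 2] {S : Sylow 2 G} {P : Subgroup G}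
variable {M : NatK F (S : Subgroup G) P (zl (S : Subgroup G) P) (cv (S : Subgroup G) P) 1} (q : Sit F S P 1)

/-! ### `P = P^L S` -/

theorem exists_PL_S (hSP : (S : Subgroup G) ≤ P) {x : G} (hx : x ∈ P) :
    ∃ y ∈ PL M, ∃ s ∈ (S : Subgroup G), x = y * s := by
  have h1 : P ≤ PL M ⊔ (S : Subgroup G) := M.gen _ le_sup_right fun h hh A hA =>
    (le_sup_left : PL M ≤ PL M ⊔ (S : Subgroup G)) ⟨hh, A, hA⟩
  have h2 : x ∈ ((PL M ⊔ (S : Subgroup G) : Subgroup G) : Set G) := h1 hx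
  rw [coe_mul_of_right_le_normalizer_left _ _ (hSP.trans PL_normal)] at h2
  obtain ⟨y, hy, s, hs, rfl⟩ := Set.mem_mul.mp h2
  exact ⟨y, hy, s, hs, rfl⟩

/-- `D ∩ Z` is centralised by `P` -/
theorem DZ_cent (M : NatK F (S : Subgroup G) P (zl (S : Subgroup G) P) (cv (S : Subgroup G) P) 1)
    (hSP : (S : Subgroup G) ≤ P) {d x : G} (hd : d ∈ cv (S : Subgroup G) P)
    (hz : d ∈ zc (S : Subgroup G)) (hx : x ∈ P) : x * d * x⁻¹ = d := by
  obtain ⟨y, ⟨hy, A, hA⟩, s, hs, rfl⟩ := exists_PL_S (M := M) hSP hx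
  calc y * s * d * (y * s)⁻¹ = y * (s * d) * s⁻¹ * y⁻¹ := by group
    _ = (y * d) * y⁻¹ := by rw [(mem_zc.1 hz).2.1 s hs]; group
    _ = d := by rw [hA.2 d hd, mul_inv_cancel_right]

/-! ### `g` -/

theorem IsG.zero {g : F → G} (hg : IsG M g) : g 0 = 1 := by
  have h1 := hg.add 0 0
  rw [add_zero] at h1
  exact left_eq_mul.1 h1

include q in
/-- `g(F) E` -/
def Dg {g : F → G} (hg : IsG M g) : Subgroup G where
  carrier := {d | ∃ x : F, ∃ e ∈ cv (S : Subgroup G) P ⊓ zc (S : Subgroup G), d = g x * e}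
  one_mem' := ⟨0, 1, one_mem _, by rw [hg.zero, mul_one]⟩
  mul_mem' := by
    rintro _ _ ⟨x, e, he, rfl⟩ ⟨y, f, hf, rfl⟩
    refine ⟨x + y, e * f, mul_mem he hf, ?_⟩
    rw [hg.add]
    have h1 : e * g y = g y * e := V_comm q (cv_le _ _ he.1) (cv_le _ _ (hg.mem y))
    calc g x * e * (g y * f) = g x * (e * g y) * f := by group
      _ = g x * (g y * e) * f := by rw [h1]
      _ = _ := by group
  inv_mem' := by
    rintro _ ⟨x, e, he, rfl⟩
    refine ⟨x, e, he, invV q (mul_mem (cv_le _ _ (hg.mem x)) (cv_le _ _ he.1))⟩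

section main

variable {g : F → G} (hg : IsG M g)
include q hg

theorem g_mem_Dg (x : F) : g x ∈ Dg q hg := ⟨x, 1, one_mem _, by rw [mul_one]⟩

theorem Dg_le : Dg q hg ≤ cv (S : Subgroup G) P := by
  rintro _ ⟨x, e, he, rfl⟩
  exact mul_mem (hg.mem x) he.1

/-- `[v, s] = r · g(x₁(v)² β(s))`, `r ∈ R` -/
theorem exists_cm {v s : G} (hv : v ∈ zl (S : Subgroup G) P) (hs : s ∈ LS M) :
    ∃ r ∈ Rt M, M.e r 0 0 = M.e v 0 1 * bet M s ∧ cm v s = r * g (M.e v 0 1 ^ 2 * bet M s) := by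
  obtain ⟨h1, h2⟩ := e_cm q hv hs
  have h3 := mul_eps q h1
  have h4 := eps_mem q h1
  rw [hg.br v hv s hs] at h3 h4
  refine ⟨_, h3, ?_, ?_⟩
  · rw [e_add h1.1 (cv_le _ _ h4), h2, e_D h4, add_zero]
  · rw [mul_assoc, V_sq q (cv_le _ _ h4), mul_one]

theorem cm_mem_sup {v s : G} (hv : v ∈ zl (S : Subgroup G) P) (hs : s ∈ LS M) : cm v s ∈ Rt M ⊔ Dg q hg := by
  obtain ⟨r, hr, -, h⟩ := exists_cm q hg hv hs
  rw [h]
  exact mul_mem ((le_sup_left : Rt M ≤ _) hr) ((le_sup_right : Dg q hg ≤ _) (g_mem_Dg q hg _))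

/-- the conjugates of `R` -/
theorem conj_R_mem {n : G} (hn : n ∈ P)
    (hnA : ActsSL M.e (zl (S : Subgroup G) P) (cv (S : Subgroup G) P) n fun _ => wm 1 one_ne_zero) {x : G} (hx : x ∈ P)
    {r : G} (hr : r ∈ Rt M) : x * r * x⁻¹ ∈ MulAut.conj n • Rt M ⊔ (Rt M ⊔ Dg q hg) := by
  obtain ⟨y, ⟨hy, A, hA⟩, s, hs, rfl⟩ := exists_PL_S (M := M) q.h.le hx
  have hr' : s * r * s⁻¹ ∈ Rt M := conj_mem_of_mem (S_norm_R q hs) hr
  have e1 : y * s * r * (y * s)⁻¹ = y * (s * r * s⁻¹) * y⁻¹ := by group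
  rw [e1]
  generalize s * r * s⁻¹ = r' at hr'
  have hA0 : A = fun _ => A 0 := funext fun i => by rw [Fin.eq_zero i]
  rw [hA0] at hA
  by_cases h0 : ent (A 0) 1 0 = 0
  · exact (le_sup_left.trans le_sup_right : Rt M ≤ _) (tri_norm_R q hy h0 hA hr')
  · -- `A 0 = up a * w * B'`
    obtain ⟨t, ht, hta⟩ := bet_surj (M := M) q (ent (A 0) 0 0 / ent (A 0) 1 0)
    have htA := bet_LS q ht
    rw [hta] at htA
    have htP := q.h.le ht.1
    have h1 := IId.Ns.acts_mul M (inv_mem hn) (mul_mem (inv_mem htP) hy) (IId.Ns.acts_inv M hn hnA)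
      (IId.Ns.acts_mul M (inv_mem htP) hy (IId.Ns.acts_inv M htP htA) hA)
    have hB : ent ((wm 1 one_ne_zero)⁻¹ * ((up (ent (A 0) 0 0 / ent (A 0) 1 0))⁻¹ * A 0)) 1 0 = 0 := by
      rw [up_inv, ent_inv (wm (1 : F) one_ne_zero), ent_mul, ent_mul, ent_mul, mk_10, mk_11, up_00, up_01, up_10,
        up_11, wm_00, wm_10]
      field_simp
      ring
    have h2 := tri_norm_R q (mul_mem (inv_mem hn) (mul_mem (inv_mem htP) hy)) hB h1 hr'
    obtain ⟨r'', hr''⟩ : ∃ r'', r'' = n⁻¹ * (t⁻¹ * y) * r' * (n⁻¹ * (t⁻¹ * y))⁻¹ := ⟨_, rfl⟩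
    rw [← hr''] at h2
    have e2 : y * r' * y⁻¹ = t * (n * r'' * n⁻¹) * t⁻¹ := by rw [hr'']; group
    have hv : n * r'' * n⁻¹ ∈ zl (S : Subgroup G) P := conj_mem_zl hn (R_le_V q h2)
    have h3 := cm_mem_sup q hg hv ht
    have hcV : cm (n * r'' * n⁻¹) t ∈ zl (S : Subgroup G) P := (e_cm q hv ht).1.1
    have e3 : t * (n * r'' * n⁻¹) * t⁻¹ = (n * r'' * n⁻¹) * cm (n * r'' * n⁻¹) t := by
      have h4 := invV q hcV
      have h5 : t * (n * r'' * n⁻¹) * t⁻¹ = (cm (n * r'' * n⁻¹) t)⁻¹ * (n * r'' * n⁻¹) := by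
        rw [cm_def]; group
      rw [h5, h4, V_comm q hcV hv]
    rw [e2, e3]
    refine mul_mem ((le_sup_left : MulAut.conj n • Rt M ≤ _) ?_) ((le_sup_right : Rt M ⊔ Dg q hg ≤ _) h3)
    rw [mem_conj]
    have e4 : n⁻¹ * (n * r'' * n⁻¹) * n = r'' := by group
    rwa [e4]

/-- **`D = g(F) E`** -/
theorem exists_g {d : G} (hd : d ∈ cv (S : Subgroup G) P) :
    ∃ x : F, ∃ e ∈ cv (S : Subgroup G) P ⊓ zc (S : Subgroup G), d = g x * e := by
  obtain ⟨n, hn, hnA⟩ := M.lift fun _ => wm (1 : F) one_ne_zero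
  -- `V ≤ W`
  have hV : zl (S : Subgroup G) P ≤ MulAut.conj n • Rt M ⊔ (Rt M ⊔ Dg q hg) := by
    refine NoFF.Basic.V_le (Z := zc (S : Subgroup G)) fun k hk y hy => ?_
    rw [mem_conj] at hy
    obtain ⟨z, hz⟩ : ∃ z, z = k⁻¹ * y * k := ⟨_, rfl⟩
    rw [← hz] at hy
    have hzp : z ∈ Zp M := Z_le_Zp q hy
    have h1 := mul_eps q hzp
    have h2 := eps_mem q hzp
    have h3 : eps M z ∈ zc (S : Subgroup G) := mem_zc.2 ⟨V_le_S q (cv_le _ _ h2), fun s hs => by
      have h4 := eps_S q hs hzp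
      rw [(mem_zc.1 hy).2.1 s hs, mul_inv_cancel_right] at h4
      exact (eq_mul_inv_iff_mul_eq.1 h4).symm, by rw [pow_two, V_sq q (cv_le _ _ h2)]⟩
    have h5 := DZ_cent M q.h.le h2 h3 hk
    have e1 : y = (k * (z * eps M z) * k⁻¹) * eps M z := by
      have e2 : k * (z * eps M z) * k⁻¹ = (k * z * k⁻¹) * (k * eps M z * k⁻¹) := by group
      rw [e2, h5, mul_assoc, V_sq q (cv_le _ _ h2), mul_one, hz]
      group
    rw [e1]
    exact mul_mem (conj_R_mem q hg hn hnA hk h1) ((le_sup_right.trans le_sup_right : Dg q hg ≤ _)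
      ⟨0, _, mem_inf.2 ⟨h2, h3⟩, by rw [hg.zero, one_mul]⟩)
  have hRV : MulAut.conj n • Rt M ≤ zl (S : Subgroup G) P := by
    intro x hx
    rw [mem_conj] at hx
    have := conj_mem_zl (S := (S : Subgroup G)) hn (R_le_V q hx)
    have e : n * (n⁻¹ * x * n) * n⁻¹ = x := by group
    rwa [e] at this
  have hDV : Dg q hg ≤ zl (S : Subgroup G) P := (Dg_le q hg).trans (cv_le _ _)
  have h1 := hV (cv_le _ _ hd)
  obtain ⟨a, ha, b, hb, hab⟩ := mem_sup_of_comm (fun x hx => mem_centralizer_iff.2 fun y hy =>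
    V_comm q ((sup_le (R_le_V q) hDV : Rt M ⊔ Dg q hg ≤ _) hy) (hRV hx)) h1
  obtain ⟨r, hr, d', hd', hrd⟩ := mem_sup_of_comm (fun x hx => mem_centralizer_iff.2 fun y hy =>
    V_comm q (hDV hy) (R_le_V q hx)) hb
  have ha' : n⁻¹ * a * n ∈ Rt M := mem_conj.1 ha
  have hrV := R_le_V q hr
  have hdD := Dg_le q hg hd'
  have hdV := cv_le _ _ hdD
  have haV := hRV ha
  have ea : a = n * (n⁻¹ * a * n) * n⁻¹ := by group
  have h2 : M.e a 0 1 = - M.e (n⁻¹ * a * n) 0 0 := by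
    conv_lhs => rw [ea]
    rw [hnA.1 _ (R_le_V q ha') 0, NatPair.ap_one', wm_10, wm_11, (R_le_Zp q ha').2]
    simp
  have h3 : M.e d 0 1 = M.e a 0 1 := by
    rw [← hab, ← hrd, e_add haV (mul_mem hrV hdV), e_add hrV hdV, (R_le_Zp q hr).2, e_D hdD, add_zero, add_zero]
  have h4 : n⁻¹ * a * n = 1 := by
    refine R_eq_one q ha' ?_
    rw [h2, e_D hd] at h3
    exact neg_eq_zero.1 h3.symm
  have h5 : a = 1 := by rw [ea, h4]; group
  have h6 : M.e d 0 0 = M.e r 0 0 := by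
    rw [← hab, ← hrd, h5, one_mul, e_add hrV hdV, e_D hdD, add_zero]
  have h7 : r = 1 := R_eq_one q hr (by rw [← h6, e_D hd])
  rw [h5, one_mul] at hab
  rw [h7, one_mul] at hrd
  rw [← hab, ← hrd]
  exact hd'

end main

end Cfsg.Agent.Omega.NOThreeL.RF

end

section


/-!
# NO-3L, box R, case (A), `NsF` : `O₂(H) ≤ S₀` and `Z⁺ ≤ Ω₁ Z(O₂(H)) ≤ S₀`

`M : NatK F S P V D 1`, `q : Nsp.Sit F S P 1`, `S₀ = LS M`, `Z⁺ = Zp M`.

* `mem_LS_of_line` : an element of `S` trivial on the line of `V / D` is in `S₀`;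
* `o2_le` : `HypM S P H`, `U_H ≤ S₀` imply `O₂(H) ≤ S₀`; `Zp_le` : `Z⁺ ≤ Ω₁ Z(O₂(H))`; `zc_le_LS` :
  `Ω₁ Z(O₂(H)) ≤ S₀`; `H_norm` : `H` normalises `Ω₁ Z(O₂(H))`.
-/

set_option autoImplicit false
set_option linter.unusedSectionVars false

namespace Cfsg.Agent.Omega.NOThreeL.NsF

open Subgroup Cfsg Cfsg.Agent.Omega.MinPar
open Cfsg.Agent.ZN (zc zl o2)
open Cfsg.Agent.Omega.Frame Cfsg.Agent.Omega.FrameNOFF
open Cfsg.Agent.Omega.Node.NO3L Cfsg.Agent.Omega.NOThreeL.Basic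
open Cfsg.Agent.Omega.NOThreeL.RTools (cm cm_def conj_mem_of_mem)
open Cfsg.Agent.Omega.FFThm (NatK ActsSL)
open Cfsg.Agent.Omega.FrameFF (cv)
open Cfsg.Agent.Omega.HOne (cv_le conj_mem_zl conj_mem_cv)
open Cfsg.Agent.Omega.IId.ThmCQ.Nsp
open Cfsg.Agent.Omega.NOThreeL.RF
open Cfsg.Agent.Lib.SL2Mat
open Cfsg.Agent.Omega.NatPair (ap ap_mul ap_one ap_inv_ap)
open Cfsg.Agent.MinSimple.VModule (mem_zc o2_isPGroup le_normalizer_o2 le_o2)
open scoped Pointwise

universe u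

variable {G : Type u} [Group G] [Finite G] {F : Type} [Field F] [Finite F] [CharP F 2] {S : Sylow 2 G}
  {P H : Subgroup G} {M : NatK F (S : Subgroup G) P (zl (S : Subgroup G) P) (cv (S : Subgroup G) P) 1}

/-- an element of `S` trivial on the line of `V / D` is in `S₀` -/
theorem mem_LS_of_line (q : Sit F S P 1) {s : G} (hs : s ∈ (S : Subgroup G))
    (h : ∀ v ∈ Zp M, M.e (s * v * s⁻¹) 0 0 = M.e v 0 0) : s ∈ LS M := by
  obtain ⟨t, p, x, T⟩ := exists_tor (M := M) q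
  have hsP : s ∈ P := q.h.le hs
  have hsN : s ∈ normalizer (LS M : Set G) := S_le_normalizer_LS q.h.le hs
  refine (T.dat q).field s hs fun l => ?_
  obtain rfl : l = 0 := Fin.eq_zero l
  have hxN := T.nor 0
  obtain ⟨hxP, hxA⟩ := Al_iff.1 (T.al 0)
  set y := x 0 with hy
  obtain ⟨B, hB⟩ := IId.Ns.Sd.acts_conj M hsP hxP hxA
  have hcP : s * y * s⁻¹ ∈ P := mul_mem (mul_mem hsP hxP) (inv_mem hsP)
  have hcN : s * y * s⁻¹ ∈ normalizer (LS M : Set G) := mul_mem (mul_mem hsN hxN) (inv_mem hsN)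
  have h10 : ent (B 0) 1 0 = 0 := tri_of_norm q hcP hcN hB 0
  -- the diagonal of `B`
  have h00 : ent (B 0) 0 0 = t := by
    obtain ⟨v, hv, hv1⟩ := exists_R (M := M) q 1
    have hvZ : v ∈ Zp M := R_le_Zp q hv
    have huZ : s⁻¹ * v * s ∈ Zp M := by
      have h1 := conj_mem_of_mem (S_norm_Zp q (inv_mem hs)) hvZ
      rwa [inv_inv] at h1
    have e1 : s * (s⁻¹ * v * s) * s⁻¹ = v := by group
    have hu := h _ huZ
    rw [e1, hv1] at hu
    have hwZ : y * (s⁻¹ * v * s) * y⁻¹ ∈ Zp M := norm_Zp q hxP hxN huZ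
    have hw := h _ hwZ
    have e2 : s * (y * (s⁻¹ * v * s) * y⁻¹) * s⁻¹ = s * y * s⁻¹ * v * (s * y * s⁻¹)⁻¹ := by group
    rw [e2, hB.1 v (Zp_le hvZ) 0, hxA.1 _ (Zp_le huZ) 0, NatPair.ap_zero', NatPair.ap_zero', hv1, ← hu, hvZ.2,
      huZ.2] at hw
    simpa using hw
  have h11 : ent (B 0) 1 1 = t⁻¹ := by
    have h8 := det_eq (B 0)
    rw [h00, h10, mul_zero, sub_zero] at h8
    exact eq_inv_of_mul_eq_one_right h8
  have hBu : B 0 = up (ent (B 0) 0 1 * t) * dg t T.ne_zero := by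
    apply ext_ent
    · rw [ent_mul, h00]; simp
    · rw [ent_mul]
      simp only [up_00, dg_01, mul_zero, up_01, dg_11, zero_add]
      rw [mul_assoc, mul_inv_cancel₀ T.ne_zero, mul_one]
    · rw [ent_mul, h10]; simp
    · rw [ent_mul, h11]; simp
  have hzA : ActsSL M.e (zl (S : Subgroup G) P) (cv (S : Subgroup G) P) (s * y * s⁻¹ * y⁻¹)
      fun _ => up (ent (B 0) 0 1 * t) := by
    have h1 := IId.Ns.acts_mul M hcP (inv_mem hxP) hB (IId.Ns.acts_inv M hxP hxA)
    have h2 : (fun i => B i * (dg t T.ne_zero)⁻¹) =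
        fun _ : Fin 1 => (up (ent (B 0) 0 1 * t) : Matrix.SpecialLinearGroup (Fin 2) F) := by
      funext i
      obtain rfl : i = 0 := Fin.eq_zero i
      rw [mul_inv_eq_iff_eq_mul]
      exact hBu
    rwa [h2] at h1
  obtain ⟨w, hw, hwA⟩ := M.unip fun _ => ent (B 0) 0 1 * t
  have hwL : w ∈ LS M := mem_LS q.h.le hw hwA
  have hact := act_of_eq q (mul_mem hcP (inv_mem hxP)) (mul_mem hcN (inv_mem hxN)) (q.h.le hw)
    (Subgroup.le_normalizer hwL) hzA hwA
  intro e he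
  have he' : y * s * e * (y * s)⁻¹ ∈ zc (LS M) :=
    conj_mem_of_mem (MinSimple.VModule.normalizer_le_normalizer_zc _ (mul_mem hxN hsN)) he
  have h1 := hact _ he'
  have h2 : w * (y * s * e * (y * s)⁻¹) * w⁻¹ = y * s * e * (y * s)⁻¹ := by
    rw [(mem_zc.1 he').2.1 w hwL, mul_inv_cancel_right]
  rw [h2] at h1
  rw [← h1]
  group

section H

variable (D : HypM S P H) (q : Sit F S P 1) (hU : zl (S : Subgroup G) H ≤ LS M)
include D q hU

/-- **`O₂(H) ≤ S₀`** -/
theorem o2_le : o2 H ≤ LS M := by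
  -- `u ∈ U`, `β(u) ≠ 0`
  obtain ⟨u, hu, hub⟩ : ∃ u ∈ zl (S : Subgroup G) H, bet M u ≠ 0 := by
    by_contra hcon
    push Not at hcon
    refine D.ne ?_
    intro v hv
    rw [mem_centralizer_iff]
    intro u hu
    have h1 := (bet_eq_zero q (hU hu)).1 (hcon u hu)
    exact (mem_centralizer_iff.mp h1 v hv).symm
  intro w hw
  have hwS : w ∈ (S : Subgroup G) := D.long.loc.o2_le S hw
  refine mem_LS_of_line q hwS fun z hz => ?_
  obtain ⟨v, hv, hvc⟩ : ∃ v ∈ zl (S : Subgroup G) P, M.e v 0 1 = M.e z 0 0 * (bet M u)⁻¹ := by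
    obtain ⟨v, hv, h⟩ := M.surj fun _ => ![0, M.e z 0 0 * (bet M u)⁻¹]
    exact ⟨v, hv, by rw [h]; rfl⟩
  obtain ⟨h1, h2⟩ := e_cm q hv (hU hu)
  rw [hvc, inv_mul_cancel_right₀ hub] at h2
  -- `y = [v,u] ∈ U`
  set y := cm v u with hy
  have hyU : y ∈ zl (S : Subgroup G) H := by
    have e1 : y = (v * u * v⁻¹) * u⁻¹ := by rw [hy, cm_def]
    rw [e1]
    exact mul_mem (conj_mem_of_mem (D.HU (D.SH (V_le_S q hv))) hu) (inv_mem hu)
  have hwy : w * y * w⁻¹ = y := by
    rw [← mem_centralizer_iff.mp (D.o2_cent hw) y hyU, mul_inv_cancel_right]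
  have hd : y⁻¹ * z ∈ cv (S : Subgroup G) P := by
    have hmem : y⁻¹ * z ∈ Zp M := mul_mem (inv_mem h1) hz
    refine (mem_D (M := M) (Zp_le hmem)).2 ⟨?_, hmem.2⟩
    rw [e_add (M := M) (Zp_le (inv_mem h1)) (Zp_le hz) 0, e_inv' (M := M) (Zp_le h1) 0, h2]
    exact CharTwo.add_self_eq_zero _
  have hd' : w * (y⁻¹ * z) * w⁻¹ ∈ cv (S : Subgroup G) P := conj_mem_cv (q.h.le hwS) hd
  have e2 : w * z * w⁻¹ = (w * y * w⁻¹) * (w * (y⁻¹ * z) * w⁻¹) := by group
  rw [e2, hwy, e_add (M := M) (Zp_le h1) (cv_le _ _ hd') 0, h2, e_D hd' 0, add_zero]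

/-- `Z⁺ ≤ Ω₁ Z(O₂(H))` -/
theorem Zp_le_zc : Zp M ≤ zc (o2 H) := by
  intro z hz
  have h1 : ∀ w ∈ o2 H, w * z = z * w := fun w hw => Zp_comm q hz (o2_le D q hU hw)
  have hzH : z ∈ H := D.SH (V_le_S q (Zp_le hz))
  have h2 : z ∈ o2 H := by
    refine D.long.loc.char2 S D.hc (mem_inf.mpr ⟨hzH, ?_⟩)
    rw [mem_centralizer_iff]
    exact h1
  exact mem_zc.mpr ⟨h2, h1, by rw [pow_two]; exact sqV' q (Zp_le hz)⟩

theorem zc_le_LS : zc (o2 H) ≤ LS M := (MinSimple.VModule.zc_le _).trans (o2_le D q hU)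

end H

theorem H_norm (H : Subgroup G) : H ≤ normalizer (zc (o2 H) : Set G) :=
  (le_normalizer_o2 H).trans (MinSimple.VModule.normalizer_le_normalizer_zc _)

/-- `C_{S₀}(v) = C_{S₀}(V)` for `v ∈ V - Z⁺` -/
theorem cent_of (q : Sit F S P 1) {v u : G} (hv : v ∈ zl (S : Subgroup G) P) (hvZ : v ∉ Zp M) (hu : u ∈ LS M)
    (h : v * u = u * v) : ∀ w ∈ zl (S : Subgroup G) P, w * u = u * w := by
  have h1 := (e_cm q hv hu).2
  have h2 : cm v u = 1 := by rw [cm_def, h]; group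
  rw [h2, IId.Cv.e_one M] at h1
  have h3 : bet M u = 0 := by
    rcases mul_eq_zero.mp h1.symm with h4 | h4
    · exact absurd ⟨hv, h4⟩ hvZ
    · exact h4
  exact fun w hw => mem_centralizer_iff.mp ((bet_eq_zero q hu).1 h3) w hw

end Cfsg.Agent.Omega.NOThreeL.NsF

end

section


/-!
# NO-3L, box R, case (A), `NsF` ((c) of #22083): the count

`F` a finite field, `D` a finite abelian group, `th : F →+ D` not zero, `X ≤ F × D` with `X ∩ (0 × D) = 0`. If
`|{f | (c f, th (c² f)) ∈ X}| |D| ≤ |X|` for all `c ≠ 0`, then `X = F × 0` and `th` is surjective (`count`). No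
characteristic, no hypothesis on `|F|`.
-/

set_option autoImplicit false
set_option linter.unusedSectionVars false

namespace Cfsg.Agent.Omega.NOThreeL.NsF

open Finset

variable {F : Type*} [Field F] {D : Type*} [AddCommGroup D]

/-- `K_c = {f | (c f, th (c² f)) ∈ X}` -/
def Kc (th : F →+ D) (X : AddSubgroup (F × D)) (c : F) : AddSubgroup F where
  carrier := {f | (c * f, th (c ^ 2 * f)) ∈ X}
  add_mem' := by
    intro a b ha hb
    have h := X.add_mem ha hb
    rw [Prod.mk_add_mk, ← mul_add, ← map_add, ← mul_add] at h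
    exact h
  zero_mem' := by
    change (c * 0, th (c ^ 2 * 0)) ∈ X
    rw [mul_zero, mul_zero, map_zero]
    exact X.zero_mem
  neg_mem' := by
    intro a ha
    have h := X.neg_mem ha
    rw [Prod.neg_mk, ← mul_neg, ← map_neg, ← mul_neg] at h
    exact h

theorem mem_Kc {th : F →+ D} {X : AddSubgroup (F × D)} {c f : F} :
    f ∈ Kc th X c ↔ (c * f, th (c ^ 2 * f)) ∈ X := Iff.rfl

/-- first projection of `X` -/
abbrev pX (X : AddSubgroup (F × D)) : AddSubgroup F := X.map (AddMonoidHom.fst F D)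

/-- `{s | (s, d) ∈ X for some d ∈ th F}` -/
def nuX (th : F →+ D) (X : AddSubgroup (F × D)) : AddSubgroup F where
  carrier := {s | ∃ g, (s, th g) ∈ X}
  add_mem' := by
    rintro a b ⟨g, hg⟩ ⟨g', hg'⟩
    refine ⟨g + g', ?_⟩
    rw [map_add, ← Prod.mk_add_mk]
    exact X.add_mem hg hg'
  zero_mem' := ⟨0, by rw [map_zero]; exact X.zero_mem⟩
  neg_mem' := by
    rintro a ⟨g, hg⟩
    refine ⟨-g, ?_⟩
    rw [map_neg, ← Prod.neg_mk]
    exact X.neg_mem hg

/-- `{s | (s, 0) ∈ X}` -/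
def kapX (X : AddSubgroup (F × D)) : AddSubgroup F where
  carrier := {s | (s, 0) ∈ X}
  add_mem' := by
    intro a b ha hb
    have h := X.add_mem ha hb
    rw [Prod.mk_add_mk, add_zero] at h
    exact h
  zero_mem' := X.zero_mem
  neg_mem' := by
    intro a ha
    have h := X.neg_mem ha
    rw [Prod.neg_mk, neg_zero] at h
    exact h

section count

variable [Fintype F] [Finite D] {th : F →+ D} {X : AddSubgroup (F × D)}

open Classical in
/-- `|{g | (s, th g) ∈ X}|` is `|ker th|` or `0` -/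
theorem card_fib (hX : ∀ d, ((0 : F), d) ∈ X → d = 0) (s : F) :
    (univ.filter fun g : F => (s, th g) ∈ X).card = if s ∈ nuX th X then Nat.card th.ker else 0 := by
  split_ifs with hs
  · obtain ⟨g₀, h₀⟩ := hs
    have h1 : (univ.filter fun g : F => (s, th g) ∈ X) = (univ.filter fun g : F => g ∈ th.ker).map
        (addLeftEmbedding g₀) := by
      ext g
      simp only [mem_filter, mem_univ, true_and, mem_map, addLeftEmbedding_apply]
      constructor
      · intro h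
        refine ⟨g - g₀, ?_, add_sub_cancel g₀ g⟩
        have h2 := X.sub_mem h h₀
        rw [Prod.mk_sub_mk, sub_self, ← map_sub] at h2
        exact hX _ h2
      · rintro ⟨x, hx, rfl⟩
        rw [map_add, (AddMonoidHom.mem_ker.mp hx : th x = 0), add_zero]
        exact h₀
    rw [h1, card_map, Nat.card_eq_fintype_card, Fintype.card_subtype]
  · rw [card_eq_zero, filter_eq_empty_iff]
    intro g _ hg
    exact hs ⟨g, hg⟩

open Classical in
/-- `∑_{c ≠ 0} |K_c| + |ker n| + |ker th| = |F| + |n⁻¹ (th F)| |ker th|` -/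
theorem sum_card (hX : ∀ d, ((0 : F), d) ∈ X → d = 0) :
    (∑ c ∈ univ.erase (0 : F), Nat.card (Kc th X c)) + Nat.card (kapX X) + Nat.card th.ker =
      Fintype.card F + Nat.card (nuX th X) * Nat.card th.ker := by
  -- for fixed `c`
  have h1 : ∀ c : F, (∑ s : F, if (s, th (c * s)) ∈ X then 1 else 0) =
      if c = 0 then Nat.card (kapX X) else Nat.card (Kc th X c) := by
    intro c
    rw [← card_filter]
    split_ifs with hc
    · subst hc
      rw [Nat.card_eq_fintype_card, Fintype.card_subtype]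
      congr 1
      ext s
      simp only [mem_filter, mem_univ, true_and, zero_mul, map_zero]
      exact Iff.rfl
    · rw [Nat.card_eq_fintype_card, Fintype.card_subtype]
      refine card_bij' (fun s _ => c⁻¹ * s) (fun f _ => c * f) ?_ ?_ ?_ ?_
      · intro s hs
        simp only [mem_filter, mem_univ, true_and] at hs ⊢
        rw [mem_Kc, pow_two, mul_assoc, mul_inv_cancel_left₀ hc]
        exact hs
      · intro f hf
        simp only [mem_filter, mem_univ, true_and] at hf ⊢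
        rw [mem_Kc, pow_two, mul_assoc] at hf
        exact hf
      · intro s _
        exact mul_inv_cancel_left₀ hc s
      · intro f _
        exact inv_mul_cancel_left₀ hc f
  -- for fixed `s`
  have h2 : ∀ s : F, (∑ c : F, if (s, th (c * s)) ∈ X then 1 else 0) =
      if s = 0 then Fintype.card F else if s ∈ nuX th X then Nat.card th.ker else 0 := by
    intro s
    rw [← card_filter]
    split_ifs with hs hs'
    · subst hs
      rw [filter_true_of_mem, card_univ]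
      intro c _
      rw [mul_zero, map_zero]
      exact X.zero_mem
    · rw [← (card_fib (th := th) hX s).trans (if_pos hs')]
      refine card_bij' (fun c _ => c * s) (fun g _ => g * s⁻¹) ?_ ?_ ?_ ?_
      · intro c hc
        simpa only [mem_filter, mem_univ, true_and] using hc
      · intro g hg
        simp only [mem_filter, mem_univ, true_and] at hg ⊢
        rwa [inv_mul_cancel_right₀ hs]
      · intro c _
        exact mul_inv_cancel_right₀ hs c
      · intro g _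
        exact inv_mul_cancel_right₀ hs g
    · rw [card_eq_zero, filter_eq_empty_iff]
      intro c _ hc
      exact hs' ⟨_, hc⟩
  have h3 := sum_comm (s := (univ : Finset F)) (t := (univ : Finset F))
    (f := fun c s => if (s, th (c * s)) ∈ X then 1 else 0)
  simp only [h1, h2] at h3
  have h4 : (∑ c : F, if c = 0 then Nat.card (kapX X) else Nat.card (Kc th X c)) =
      Nat.card (kapX X) + ∑ c ∈ univ.erase (0 : F), Nat.card (Kc th X c) := by
    rw [← add_sum_erase _ _ (mem_univ (0 : F)), if_pos rfl]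
    congr 1
    exact sum_congr rfl fun c hc => if_neg (ne_of_mem_erase hc)
  have h5 : (∑ s : F, if s = 0 then Fintype.card F else if s ∈ nuX th X then Nat.card th.ker else 0) +
      Nat.card th.ker = Fintype.card F + Nat.card (nuX th X) * Nat.card th.ker := by
    rw [← add_sum_erase _ _ (mem_univ (0 : F)), if_pos rfl, add_assoc]
    congr 1
    have h6 : (∑ s ∈ univ.erase (0 : F), if s = 0 then Fintype.card F else
        if s ∈ nuX th X then Nat.card th.ker else 0) =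
        ∑ s ∈ univ.erase (0 : F), if s ∈ nuX th X then Nat.card th.ker else 0 :=
      sum_congr rfl fun c hc => if_neg (ne_of_mem_erase hc)
    rw [h6]
    have h7 : (if (0 : F) ∈ nuX th X then Nat.card th.ker else 0) = Nat.card th.ker := if_pos (zero_mem _)
    have h8 := sum_erase_add univ (fun s : F => if s ∈ nuX th X then Nat.card th.ker else 0) (mem_univ (0 : F))
    rw [h7] at h8
    rw [h8, ← sum_filter, sum_const, smul_eq_mul, Nat.card_eq_fintype_card (α := nuX th X), Fintype.card_subtype]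
  rw [h4] at h3
  omega

/-- `|X| |th F| ≤ |n⁻¹ (th F)| |D|` -/
theorem card_nu (hX : ∀ d, ((0 : F), d) ∈ X → d = 0) :
    Nat.card X * Nat.card th.range ≤ Nat.card (nuX th X) * Nat.card D := by
  -- the map `X → D / th F`
  let f : X →+ D ⧸ th.range := (QuotientAddGroup.mk' th.range).comp ((AddMonoidHom.snd F D).comp X.subtype)
  have h1 : Nat.card f.ker = Nat.card (nuX th X) := by
    refine Nat.card_congr (Equiv.ofBijective (fun x => ⟨x.1.1.1, ?_⟩) ⟨?_, ?_⟩)
    · have h2 := x.2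
      rw [AddMonoidHom.mem_ker] at h2
      have h3 : x.1.1.2 ∈ th.range := (QuotientAddGroup.eq_zero_iff _).mp h2
      obtain ⟨g, hg⟩ := h3
      refine ⟨g, ?_⟩
      rw [hg]
      exact x.1.2
    · rintro ⟨⟨⟨s, d⟩, h⟩, h'⟩ ⟨⟨⟨s', d'⟩, k⟩, k'⟩ he
      have he' : s = s' := congrArg Subtype.val he
      subst he'
      have h2 := X.sub_mem h k
      rw [Prod.mk_sub_mk, sub_self] at h2
      have h3 := sub_eq_zero.mp (hX _ h2)
      subst h3
      rfl
    · rintro ⟨s, g, hg⟩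
      refine ⟨⟨⟨(s, th g), hg⟩, ?_⟩, rfl⟩
      rw [AddMonoidHom.mem_ker]
      exact (QuotientAddGroup.eq_zero_iff _).mpr ⟨g, rfl⟩
  have h2 : Nat.card X = Nat.card f.ker * Nat.card f.range := by
    rw [AddSubgroup.card_eq_card_quotient_mul_card_addSubgroup f.ker, mul_comm,
      Nat.card_congr (QuotientAddGroup.quotientKerEquivRange f).toEquiv]
  have h3 : Nat.card f.range ≤ Nat.card (D ⧸ th.range) := Nat.card_le_card_of_injective _ Subtype.val_injective
  have h4 : Nat.card D = Nat.card (D ⧸ th.range) * Nat.card th.range :=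
    AddSubgroup.card_eq_card_quotient_mul_card_addSubgroup _
  rw [h2, h4, h1]
  calc _ ≤ Nat.card (nuX th X) * Nat.card (D ⧸ th.range) * Nat.card th.range :=
        Nat.mul_le_mul_right _ (Nat.mul_le_mul_left _ h3)
    _ = _ := by ring

/-- **The count** (835's form of #22083 (c)). -/
theorem count_aux (hX : ∀ d, ((0 : F), d) ∈ X → d = 0)
    (h : ∀ c : F, c ≠ 0 → Nat.card (Kc th X c) * Nat.card D ≤ Nat.card X) :
    Fintype.card F * Nat.card D + Nat.card X ≤ (Nat.card (kapX X) + Nat.card th.ker) * Nat.card D := by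
  classical
  have h1 := sum_card (th := th) hX
  have h2 := card_nu (th := th) hX
  have h3 : Nat.card th.range * Nat.card th.ker = Fintype.card F := by
    rw [← Nat.card_eq_fintype_card, AddSubgroup.card_eq_card_quotient_mul_card_addSubgroup th.ker,
      Nat.card_congr (QuotientAddGroup.quotientKerEquivRange th).toEquiv]
  have h4 : (∑ c ∈ univ.erase (0 : F), Nat.card (Kc th X c)) * Nat.card D ≤
      (Fintype.card F - 1) * Nat.card X := by
    rw [sum_mul]
    refine (sum_le_card_nsmul _ _ (Nat.card X) fun c hc => h c (ne_of_mem_erase hc)).trans ?_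
    rw [card_erase_of_mem (mem_univ _), card_univ, smul_eq_mul]
  have h5 : Nat.card X * Fintype.card F ≤ Nat.card (nuX th X) * Nat.card th.ker * Nat.card D := by
    rw [← h3]
    calc _ = (Nat.card X * Nat.card th.range) * Nat.card th.ker := by ring
      _ ≤ (Nat.card (nuX th X) * Nat.card D) * Nat.card th.ker := Nat.mul_le_mul_right _ h2
      _ = _ := by ring
  have h6 : (Fintype.card F - 1) * Nat.card X + Nat.card X = Nat.card X * Fintype.card F := by
    have h7 : 0 < Fintype.card F := Fintype.card_pos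
    obtain ⟨n, hn⟩ : ∃ n, Fintype.card F = n + 1 := ⟨Fintype.card F - 1, by omega⟩
    rw [hn, Nat.add_sub_cancel]
    ring
  have h7 := congrArg (fun x => x * Nat.card D) h1
  simp only [add_mul] at h7
  rw [add_mul]
  nlinarith

end count

/-- **THE COUNT.** -/
theorem count [Finite F] [Finite D] {th : F →+ D} {X : AddSubgroup (F × D)} (hth : th ≠ 0)
    (hX : ∀ d, ((0 : F), d) ∈ X → d = 0)
    (h : ∀ c : F, c ≠ 0 → Nat.card (Kc th X c) * Nat.card D ≤ Nat.card X) :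
    (∀ x, x ∈ X ↔ x.2 = 0) ∧ Function.Surjective th := by
  classical
  have : Fintype F := Fintype.ofFinite F
  have h1 := count_aux hX h
  have h3 : Nat.card th.range * Nat.card th.ker = Fintype.card F := by
    rw [← Nat.card_eq_fintype_card, AddSubgroup.card_eq_card_quotient_mul_card_addSubgroup th.ker,
      Nat.card_congr (QuotientAddGroup.quotientKerEquivRange th).toEquiv]
  have h4 : 2 ≤ Nat.card th.range := by
    by_contra hcon
    have h5 : Nat.card th.range = 1 := by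
      have : 0 < Nat.card th.range := Nat.card_pos
      omega
    refine hth ?_
    ext g
    have h6 : Subsingleton th.range := (Nat.card_eq_one_iff_unique.mp h5).1
    have h7 := h6.elim ⟨th g, g, rfl⟩ ⟨0, zero_mem _⟩
    exact congrArg Subtype.val h7
  have h5 : 0 < Nat.card D := Nat.card_pos
  have h6 : 0 < Nat.card X := Nat.card_pos
  have hker : 2 * Nat.card th.ker ≤ Fintype.card F := by
    rw [← h3]
    exact Nat.mul_le_mul_right _ h4
  -- `|ker n| > q / 2`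
  have h7 : Fintype.card F < 2 * Nat.card (kapX X) := by
    by_contra hcon
    push Not at hcon
    have h8 : 2 * (Nat.card (kapX X) + Nat.card th.ker) ≤ 2 * Fintype.card F := by omega
    have h9 : Nat.card (kapX X) + Nat.card th.ker ≤ Fintype.card F := by omega
    have h10 := Nat.mul_le_mul_right (Nat.card D) h9
    omega
  have h8 : kapX X = ⊤ := by
    have h9 : Nat.card (kapX X) ∣ Nat.card F := AddSubgroup.card_addSubgroup_dvd_card _
    rw [Nat.card_eq_fintype_card (α := F)] at h9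
    obtain ⟨m, hm⟩ := h9
    have hm1 : m = 1 := by
      have h10 : 0 < Fintype.card F := Fintype.card_pos
      rcases Nat.lt_or_ge m 2 with h11 | h11
      · have : m ≠ 0 := by rintro rfl; omega
        omega
      · have := Nat.mul_le_mul_left (Nat.card (kapX X)) h11
        omega
    rw [hm1, mul_one] at hm
    apply AddSubgroup.eq_top_of_card_eq
    rw [← hm, Nat.card_eq_fintype_card]
  have h9 : ∀ x, x ∈ X ↔ x.2 = 0 := by
    rintro ⟨s, d⟩
    have hs : (s, (0 : D)) ∈ X := by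
      have : s ∈ kapX X := by rw [h8]; trivial
      exact this
    constructor
    · intro hx
      have h10 := X.sub_mem hx hs
      rw [Prod.mk_sub_mk, sub_self, sub_zero] at h10
      exact hX _ h10
    · intro hx
      have hx' : d = 0 := hx
      rw [hx']
      exact hs
  refine ⟨h9, ?_⟩
  have h10 : Nat.card X = Fintype.card F := by
    rw [← Nat.card_eq_fintype_card]
    refine Nat.card_congr ⟨fun x => x.1.1, fun s => ⟨(s, 0), (h9 _).mpr rfl⟩, ?_, fun s => rfl⟩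
    rintro ⟨⟨s, d⟩, hx⟩
    have : d = 0 := (h9 _).mp hx
    subst this
    rfl
  have h11 : Nat.card (Kc th X 1) = Nat.card th.ker := by
    congr 1
    congr 1
    ext f
    rw [mem_Kc, h9, AddMonoidHom.mem_ker]
    simp only [one_pow, one_mul]
  have h12 := h 1 one_ne_zero
  rw [h11, h10, ← h3, mul_comm (Nat.card th.range)] at h12
  have h13 : Nat.card D ≤ Nat.card th.range := Nat.le_of_mul_le_mul_left h12 Nat.card_pos
  have h14 : th.range = ⊤ := AddSubgroup.eq_top_of_le_card _ h13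
  exact AddMonoidHom.range_eq_top.mp h14

end Cfsg.Agent.Omega.NOThreeL.NsF

end
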