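import Cfsg.Agent.Mrg.Omega.NOThreeL.RF.Wc
import Cfsg.Agent.Mrg.Omega.NOThreeL.RF.Lvl
import Cfsg.Agent.Mrg.Omega.NOThreeL.RA.Base
import Cfsg.Agent.MinSimple.CaseD8

section


/-!
# NO-3L, `R ∩ (A)`, `k = 1`, not split, field automorphisms (`NsF`): the assembly (#22083 (c), (d), (e), (f1))

`Four M g` : the level of `P` (799's `RF.Lvl`), with the results (GD), 'odd groups normalise `D`', `Z⁺ ≤ U`, `C_S(R) = S₀`,
`S / S₀` cyclic and the count as fields. Then

* `wc_of`, `Four.wc` : the data of `RF.Wc` for `H` minimal; `Four.inf_D` : `D ∩ C(X) = 1`;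
* **`Four.cent_eq`** : `Z⁺ ∩ C(X) = R` for every `X` minimal over `S₀`;
* **`Four.not_le`** : `V ≰ O₂(C_G(R))`; **`Four.bij`** : `g : F → D` is bijective;
* **`Four.good`** (GOOD) : `z ∈ Z - R` implies `V ≤ O₂(C_G(z))`.
-/

set_option autoImplicit false
set_option linter.unusedSectionVars false

namespace Cfsg.Agent.Omega.NOThreeL.RF

open Subgroup Cfsg Cfsg.Agent.Omega.MinPar
open Cfsg.Agent.ZN (zc zl o2)
open Cfsg.Agent.Omega.Frame Cfsg.Agent.Omega.FrameNOFF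
open Cfsg.Agent.Omega.Node.NO3L Cfsg.Agent.Omega.NOThreeL.Basic
open Cfsg.Agent.Omega.NoFF.Basic (conj_conj mem_conj conj_le_iff conj_le_centralizer comm_symm comm_mono)
open Cfsg.Agent.Omega.NOThreeL.Pair (conj_eq_of_mem)
open Cfsg.Agent.Omega.NOThreeL.RTools (cm cm_def conj_mem_of_mem isLong)
open Cfsg.Agent.Omega.NOThreeL.RA.HypQ (cm_eq_one)
open Cfsg.Agent.MinSimple.VModule (zl_le zc_le_zl le_normalizer_zl zc_le o2_isPGroup le_normalizer_o2 le_o2)
open Cfsg.Agent.Omega.FFThm (NatK)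
open Cfsg.Agent.Omega.FrameFF (cv)
open Cfsg.Agent.Omega.IId.ThmCQ.Nsp
open scoped Pointwise

universe u

variable {G : Type u} [Group G] [Finite G] {F : Type} [Field F] [Finite F] [CharP F 2] {S : Sylow 2 G}
  {P : Subgroup G}

theorem three_aux (hF : 4 ≤ Nat.card F) : ∃ a : F, a ≠ 0 ∧ a ≠ 1 := by
  classical
  have : Fintype F := Fintype.ofFinite F
  by_contra hcon
  push Not at hcon
  have h1 : Fintype.card F ≤ 2 := by
    have h2 : (Finset.univ : Finset F) ⊆ {0, 1} := by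
      intro a _
      rw [Finset.mem_insert, Finset.mem_singleton]
      by_cases h : a = 0
      · exact Or.inl h
      · exact Or.inr (hcon a h)
    exact (Finset.card_le_card h2).trans Finset.card_le_two
  rw [Nat.card_eq_fintype_card] at hF
  omega

/-- **The data of the weak closure.** -/
theorem wc_of {M : NatK F (S : Subgroup G) P (zl (S : Subgroup G) P) (cv (S : Subgroup G) P) 1} (q : Sit F S P 1)
    (S0R : ∀ s ∈ (S : Subgroup G), (∀ r ∈ Rt M, s * r = r * s) → s ∈ LS M)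
    (inv : ∀ a ∈ (S : Subgroup G), ∀ b ∈ (S : Subgroup G), a * a = 1 → b * b = 1 → a ∉ LS M → b ∉ LS M →
      a * b ∈ LS M) {H : Subgroup G} (D : HypM S P H) (ZpU : Zp M ≤ zl (S : Subgroup G) H) :
    zl (S : Subgroup G) H ≤ LS M ∧ Wc S (zl (S : Subgroup G) P) (zl (S : Subgroup G) H) H (LS M) (Zp M) := by
  have S0c : ∀ s ∈ (S : Subgroup G), s ∈ LS M ↔ ∀ z ∈ Zp M, s * z = z * s := fun s hs =>
    ⟨fun h _ hz => Zp_comm q hz h, fun h => S0R s hs fun r hr => h r (R_le_Zp q hr)⟩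
  have U_le : zl (S : Subgroup G) H ≤ LS M := fun u hu => (S0c u (D.US hu)).2 fun _ hz => D.commU hu (ZpU hz)
  exact ⟨U_le, {
    VS := D.VS
    SV := D.SP.trans D.PV
    SH := D.SH
    HU := D.HU
    commV := fun x hx y hy => D.commV hx hy
    sqV := fun x hx => D.sqV hx
    S0S := LS_le
    SS0 := S_le_normalizer_LS q.h.le
    ZpV := Zp_le
    ZpU := ZpU
    S0c := S0c
    cent := by
      intro v hv hvZ u hu hc w hw
      have hu' := U_le hu
      have h1 := (e_cm q hv hu').2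
      rw [cm_eq_one.2 hc, e_D (one_mem _)] at h1
      have h2 : M.e v 0 1 ≠ 0 := fun h => hvZ ⟨hv, h⟩
      have h3 : bet M u = 0 := (mul_eq_zero.1 h1.symm).resolve_left h2
      exact mem_centralizer_iff.1 ((bet_eq_zero q hu').1 h3) w hw
    VU := fun v hv u hu => (e_cm q hv (U_le hu)).1
    inv := inv
    three := by
      obtain ⟨a, ha0, ha1⟩ := three_aux (F := F) q.hF
      obtain ⟨v, hv, h1⟩ := M.surj fun _ => ![0, 1]
      obtain ⟨w, hw, h2⟩ := M.surj fun _ => ![0, a]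
      have hv1 : M.e v 0 1 = 1 := by rw [h1]; rfl
      have hw1 : M.e w 0 1 = a := by rw [h2]; rfl
      refine ⟨v, hv, w, hw, fun h => ?_, fun h => ?_, fun h => ?_⟩
      · exact one_ne_zero (hv1.symm.trans h.2)
      · exact ha0 (hw1.symm.trans h.2)
      · have h3 := h.2
        rw [e_add hv hw, hv1, hw1] at h3
        exact ha1 (by
          have h4 := CharTwo.add_self_eq_zero (1 : F)
          calc a = (1 + 1) + a := by rw [h4, zero_add]
            _ = 1 + (1 + a) := by ring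
            _ = 1 := by rw [h3, add_zero])
    noff := by
      intro x y h1 h2 a ha b hb
      have h3 := (Basic.geo D.hc D.data).noff' (P := P) (P' := P) q.h q.h (g := x) (h := y)
        (h1.trans (conj_le_iff.2 q.h.le)) (h2.trans (conj_le_iff.2 q.h.le))
      exact (mem_centralizer_iff.1 (h3 ha) b hb).symm }⟩

/-- The level of `P` and the results on it. -/
structure Four (M : NatK F (S : Subgroup G) P (zl (S : Subgroup G) P) (cv (S : Subgroup G) P) 1)
    (g : F → G) : Prop where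
  hc : IsCharacteristicTwoType G
  data : Data (S : Subgroup G)
  sit : Sit F S P 1
  isG : IsG M g
  ne : ∃ x, g x ≠ 1
  S0R : ∀ s ∈ (S : Subgroup G), (∀ r ∈ Rt M, s * r = r * s) → s ∈ LS M
  inv : ∀ a ∈ (S : Subgroup G), ∀ b ∈ (S : Subgroup G), a * a = 1 → b * b = 1 → a ∉ LS M → b ∉ LS M →
    a * b ∈ LS M
  gd : ∀ x ∈ cv (S : Subgroup G) P, x ≠ 1 → zl (S : Subgroup G) P ≤ o2 (centralizer ({x} : Set G))
  normD : ∀ x ∈ normalizer (Zp M : Set G), MulAut.conj x • cv (S : Subgroup G) P = cv (S : Subgroup G) P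
  ZpU : ∀ H : Subgroup G, HypM S P H → Zp M ≤ zl (S : Subgroup G) H
  cnt : ∀ H : Subgroup G, HypM S P H → ∀ X : Subgroup G, MinX (zl (S : Subgroup G) P) H (LS M) X →
    zl (S : Subgroup G) P ⊓ o2 X ≤ Zp M → cv (S : Subgroup G) P ⊓ centralizer (X : Set G) = ⊥ →
      Zp M ⊓ centralizer (X : Set G) = Rt M ∧ ∀ d ∈ cv (S : Subgroup G) P, ∃ x, g x = d

namespace Four

variable {M : NatK F (S : Subgroup G) P (zl (S : Subgroup G) P) (cv (S : Subgroup G) P) 1} {g : F → G}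
  (L : Four M g)
include L

theorem par : IsParS (S : Subgroup G) P := L.sit.h

theorem D_ne : cv (S : Subgroup G) P ≠ ⊥ := by
  intro h
  obtain ⟨x, hx⟩ := L.ne
  have h1 := L.isG.mem x
  rw [h] at h1
  exact hx (mem_bot.1 h1)

theorem S0c : ∀ s ∈ (S : Subgroup G), s ∈ LS M ↔ ∀ z ∈ Zp M, s * z = z * s := fun s hs =>
  ⟨fun h _ hz => Zp_comm L.sit hz h, fun h => L.S0R s hs fun r hr => h r (R_le_Zp L.sit hr)⟩

theorem U_le {H : Subgroup G} (D : HypM S P H) : zl (S : Subgroup G) H ≤ LS M :=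
  (wc_of L.sit L.S0R L.inv D (L.ZpU H D)).1

/-- **The data of the weak closure.** -/
theorem wc {H : Subgroup G} (D : HypM S P H) :
    Wc S (zl (S : Subgroup G) P) (zl (S : Subgroup G) H) H (LS M) (Zp M) :=
  (wc_of L.sit L.S0R L.inv D (L.ZpU H D)).2

/-- `V ≰ O₂(H)` -/
theorem not_le_o2 {H : Subgroup G} (D : HypM S P H) : ¬ zl (S : Subgroup G) P ≤ o2 H := fun h =>
  D.ne (h.trans D.o2_cent)

theorem S0_le {H : Subgroup G} (D : HypM S P H) : LS M ≤ H := LS_le.trans D.SH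

/-- **(GD)** `D ∩ C(X) = 1` -/
theorem inf_D {H X : Subgroup G} (hX : MinX (zl (S : Subgroup G) P) H (LS M) X) :
    cv (S : Subgroup G) P ⊓ centralizer (X : Set G) = ⊥ := by
  rw [eq_bot_iff]
  intro x hx
  obtain ⟨hxD, hxX⟩ := mem_inf.1 hx
  rw [mem_bot]
  by_contra hx1
  apply hX.not
  have h1 := L.gd x hxD hx1
  have h2 : X ≤ centralizer ({x} : Set G) := fun y hy => by
    rw [mem_centralizer_singleton_iff]
    exact mem_centralizer_iff.1 hxX y hy
  have hVX : zl (S : Subgroup G) P ≤ X := (V_LS L.sit).trans hX.le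
  refine (le_inf h1 hVX).trans (le_o2 inf_le_right ((o2_isPGroup _).to_le inf_le_left) ?_)
  intro y hy
  have h3 := le_normalizer_o2 _ (h2 hy)
  rw [mem_normalizer_iff] at h3 ⊢
  intro w
  rw [mem_inf, mem_inf, h3 w, mem_normalizer_iff.mp (Subgroup.le_normalizer hy) w]

/-- **`Z⁺ ∩ C(X) = R` for every `X` minimal over `S₀`** (and `g` is onto) -/
theorem cent_eq {H X : Subgroup G} (D : HypM S P H) (hX : MinX (zl (S : Subgroup G) P) H (LS M) X) :
    Zp M ⊓ centralizer (X : Set G) = Rt M ∧ ∀ d ∈ cv (S : Subgroup G) P, ∃ x, g x = d :=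
  L.cnt H D X hX (hX.inf_o2_le (L.wc D) D_le_Zp L.D_ne (L.inf_D hX) L.normD) (L.inf_D hX)

theorem exists_X {H : Subgroup G} (D : HypM S P H) : ∃ X, MinX (zl (S : Subgroup G) P) H (LS M) X := by
  obtain ⟨X, -, hX⟩ := exists_minX (le_refl H) (L.S0_le D) (L.not_le_o2 D)
  exact ⟨X, hX⟩

omit L in
theorem le_o2_of_le {V X K : Subgroup G} (hXK : X ≤ K) (hVX : V ≤ X) (h : V ≤ o2 K) : V ≤ o2 X := by
  refine (le_inf h hVX).trans (le_o2 inf_le_right ((o2_isPGroup _).to_le inf_le_left) ?_)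
  intro y hy
  have h3 := le_normalizer_o2 _ (hXK hy)
  rw [mem_normalizer_iff] at h3 ⊢
  intro w
  rw [mem_inf, mem_inf, h3 w, mem_normalizer_iff.mp (Subgroup.le_normalizer hy) w]

theorem X_le {H X : Subgroup G} (D : HypM S P H) (hX : MinX (zl (S : Subgroup G) P) H (LS M) X) :
    X ≤ centralizer (Rt M : Set G) := by
  have h1 := (L.cent_eq D hX).1
  intro x hx
  rw [mem_centralizer_iff]
  intro r hr
  rw [← h1] at hr
  exact (mem_centralizer_iff.1 (mem_inf.1 hr).2 x hx).symm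

/-- **`V ≰ O₂(C_G(R))`** -/
theorem not_le {H : Subgroup G} (D : HypM S P H) :
    ¬ zl (S : Subgroup G) P ≤ o2 (centralizer (Rt M : Set G)) := by
  obtain ⟨X, hX⟩ := L.exists_X D
  exact fun h => hX.not (le_o2_of_le (L.X_le D hX) ((V_LS L.sit).trans hX.le) h)

theorem not_le' {H : Subgroup G} (D : HypM S P H) :
    ¬ zl (S : Subgroup G) P ≤ o2 (H ⊓ centralizer (Rt M : Set G)) := by
  obtain ⟨X, hX⟩ := L.exists_X D
  exact fun h => hX.not (le_o2_of_le (le_inf hX.XH (L.X_le D hX)) ((V_LS L.sit).trans hX.le) h)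

theorem add_zero' : g 0 = 1 := by
  have h1 := L.isG.add 0 0
  rw [add_zero] at h1
  exact (mul_eq_left.1 h1.symm)

/-- **`g : F → D` is bijective.** -/
theorem bij {H : Subgroup G} (D : HypM S P H) :
    Function.Injective g ∧ ∀ d ∈ cv (S : Subgroup G) P, ∃ x, g x = d := by
  have hW := L.wc D
  obtain ⟨X, hXR, hX, x, hx, ho, hcm⟩ := hW.exists_sylow (R := Rt M) (S_norm_R L.sit) (R_le_Zp L.sit) (by
    intro s hs
    obtain ⟨hs1, hs2⟩ := mem_inf.1 hs
    exact L.S0R s hs1 fun r hr => (mem_centralizer_iff.1 hs2 r hr).symm) (L.not_le' D)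
  refine ⟨?_, (L.cent_eq D hX).2⟩
  have hR := (L.cent_eq D hX).1
  -- an element `y ∈ Z⁺^x - C(X)`
  have hy : ∃ y ∈ MulAut.conj x • Zp M, y ∉ centralizer (X : Set G) := by
    by_contra hcon
    push Not at hcon
    apply L.D_ne
    rw [← L.inf_D hX]
    refine le_antisymm (le_inf le_rfl ?_) inf_le_left
    intro d hd
    have h1 := hcon (x * d * x⁻¹) (mem_conj' (D_le_Zp hd))
    have h2 := MinX.conj_cent (inv_mem hx) h1
    have e1 : x⁻¹ * (x * d * x⁻¹) * x⁻¹⁻¹ = d := by group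
    rw [e1] at h2
    rw [h2]
    exact h1
  obtain ⟨y, hy, hyX⟩ := hy
  have hyU := hX.conjZp_U hW hx hy
  have hyS := L.U_le D hyU
  have hb : bet M y ≠ 0 := by
    intro h
    apply hyX
    refine hX.mem_of_commV hW hx ho hy fun a ha => ?_
    exact mem_centralizer_iff.1 ((bet_eq_zero L.sit hyS).1 h) a ha
  intro a b hab
  by_contra hne
  have hab' : g (a + b) = 1 := by
    rw [L.isG.add, ← hab, ← L.isG.add, CharTwo.add_self_eq_zero, L.add_zero']
  have hab0 : a + b ≠ 0 := fun h => hne (by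
    calc a = a + (b + b) := by rw [CharTwo.add_self_eq_zero, add_zero]
      _ = (a + b) + b := by ring
      _ = b := by rw [h, zero_add])
  -- `c² bet(y) = a + b`
  obtain ⟨c, hc⟩ : ∃ c : F, c ^ 2 = (a + b) * (bet M y)⁻¹ := by
    have h1 : Function.Surjective (frobenius F 2) := by
      rw [← Finite.injective_iff_surjective]
      exact frobenius_inj F 2
    obtain ⟨c, hc⟩ := h1 ((a + b) * (bet M y)⁻¹)
    exact ⟨c, hc⟩
  have hc0 : c ≠ 0 := by
    rintro rfl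
    rw [zero_pow two_ne_zero] at hc
    exact (mul_ne_zero hab0 (inv_ne_zero hb)) hc.symm
  obtain ⟨v, hv, h1⟩ := M.surj fun _ => ![0, c]
  have hv1 : M.e v 0 1 = c := by rw [h1]; rfl
  have hvZ : v ∉ Zp M := fun h => hc0 (hv1.symm.trans h.2)
  have h2 := L.isG.br v hv y hyS
  rw [hv1, hc, inv_mul_cancel_right₀ hb, hab'] at h2
  have h3 := (eps_eq_one L.sit (e_cm L.sit hv hyS).1).1 h2
  rw [← hR] at h3
  exact hcm y hy hyX v hv hvZ (mem_inf.1 h3).2

omit [CharP F 2] L in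
theorem exists_hypM (hc : IsCharacteristicTwoType G) (hD : Data (S : Subgroup G)) (hP : IsParS (S : Subgroup G) P)
    {K : Subgroup G} (hK : IsLong (S : Subgroup G) K) (hne : ¬ zl (S : Subgroup G) P ≤ o2 K) :
    ∃ H ≤ K, HypM S P H := by
  classical
  let s : Set (Subgroup G) := {H | IsLong (S : Subgroup G) H ∧ H ≤ K ∧
    ¬ zl (S : Subgroup G) P ≤ centralizer (zl (S : Subgroup G) H : Set G)}
  have hs : s.Nonempty := ⟨K, hK, le_rfl, fun h => hne (le_o2_of_comm (hD.low P hP) hK h)⟩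
  obtain ⟨H, hH⟩ := (Set.toFinite s).exists_minimal hs
  obtain ⟨⟨h1, h2, h3⟩, h4⟩ := hH
  refine ⟨H, h2, ⟨hc, hD, hP, h1, h3, fun H₁ h5 h6 h7 => ?_⟩⟩
  by_contra h8
  exact h7 (le_antisymm h6 (h4 ⟨h5, h6.trans h2, h8⟩ h6))

/-- **(GOOD)** `z ∈ Z - R` implies `V ≤ O₂(C_G(z))`. -/
theorem good {z : G} (hz : z ∈ zc (S : Subgroup G)) (hzR : z ∉ Rt M) :
    zl (S : Subgroup G) P ≤ o2 (centralizer ({z} : Set G)) := by
  by_contra hcon
  have hz1 : z ≠ 1 := fun h => hzR (h ▸ one_mem _)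
  have hL : IsLong (S : Subgroup G) (centralizer ({z} : Set G)) := isLong S hz hz1
  obtain ⟨H, hHK, D⟩ := exists_hypM L.hc L.data L.par hL hcon
  obtain ⟨X, hX⟩ := L.exists_X D
  apply hzR
  rw [← (L.cent_eq D hX).1]
  refine mem_inf.2 ⟨Z_le_Zp L.sit hz, ?_⟩
  rw [mem_centralizer_iff]
  intro y hy
  exact mem_centralizer_singleton_iff.1 (hHK (hX.XH hy))

end Four

end Cfsg.Agent.Omega.NOThreeL.RF

end

section


/-!
# NO-3L, `R ∩ (A)`, `k = 1`, nonsplit, fields (`NsF`): the frame of (f), without `H*`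

`M : NatK F S P V D 1`, `4 ≤ |F|` (`q : Sit F S P 1`), `R = Rt M`, `Z⁺ = Zp M`, `S₀ = LS M`.

* `TB M = P ∩ N(S₀) ∩ N(R)` (`B`): contains `S` and the torus; `tor_TB`;
* `exists_zR` : `R ∩ Z ≠ 1`; **`tor_mem`** : every element of `(Z ∩ D) R` is conjugate into `Z` under `TB M`;
* `R_le_of` : a subgroup `≥ Z` normalised by `TB M` contains `R`;
* `fld` : `s ∈ S` trivial on `Z⁺ / D` centralises `Z⁺` (from `C_S(R) ≤ S₀`);
* `full` : `U ≤ S₀` normalised by `TB M`, not centralising `V`, induces all `up b`;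
* **`Zp_le_of`** : then `Z⁺ ≤ U` and `Z⁺ ≤ [U, V] R` (if `g` is onto).
-/

set_option autoImplicit false
set_option linter.unusedSectionVars false

namespace Cfsg.Agent.Omega.NOThreeL.RF.Pre

open Subgroup Cfsg Cfsg.Agent.Omega.MinPar
open Cfsg.Agent.ZN (zc zl o2)
open Cfsg.Agent.Omega.Frame Cfsg.Agent.Omega.FrameNOFF
open Cfsg.Agent.Omega.Node.NO3L Cfsg.Agent.Omega.NOThreeL.Basic
open Cfsg.Agent.Omega.NoFF.Basic (conj_conj mem_conj conj_le_iff conj_le_centralizer comm_symm comm_mono)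
open Cfsg.Agent.MinSimple.VModule (zl_le zc_le_zl le_normalizer_zl zc_le o2_isPGroup le_normalizer_o2 le_o2
  normalizer_le_normalizer_zc mem_zc)
open Cfsg.Agent.Omega.NOThreeL (mem_normalizer_of_conj_eq le_normalizer_of mem_sup_of_comm)
open Cfsg.Agent.Omega.NOThreeL.RTools (cm cm_def conj_mem_of_mem)
open Cfsg.Agent.Omega.NOThreeL.AOne (Act)
open Cfsg.Agent.Omega.FFThm (NatK ActsSL)
open Cfsg.Agent.Omega.FrameFF (cv)
open Cfsg.Agent.Omega.HOne (cv_le conj_mem_zl conj_mem_cv)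
open Cfsg.Agent.Omega.IId.ThmCQ.Nsp
open Cfsg.Agent.Lib.SL2Mat
open Cfsg.Agent.Omega.NatPair (ap ap_mul ap_one ap_inv_ap)
open scoped Pointwise commutatorElement

universe u

variable {G : Type u} [Group G] [Finite G] {F : Type} [Field F] [Finite F] [CharP F 2] {S : Sylow 2 G}
  {P : Subgroup G}

/-- coordinates on `V / D` -/
def co (M : NatK F (S : Subgroup G) P (zl (S : Subgroup G) P) (cv (S : Subgroup G) P) 1) : G → Fin 2 → F :=
  fun v => M.e v 0

/-- `B = T_P S` -/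
def TB (M : NatK F (S : Subgroup G) P (zl (S : Subgroup G) P) (cv (S : Subgroup G) P) 1) : Subgroup G :=
  P ⊓ normalizer (LS M : Set G) ⊓ normalizer (Rt M : Set G)

variable {M : NatK F (S : Subgroup G) P (zl (S : Subgroup G) P) (cv (S : Subgroup G) P) 1}

theorem TB_le_P : TB M ≤ P := inf_le_left.trans inf_le_left

theorem TB_norm_LS : TB M ≤ normalizer (LS M : Set G) := inf_le_left.trans inf_le_right

theorem TB_norm_R : TB M ≤ normalizer (Rt M : Set G) := inf_le_right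

theorem P_norm_D : P ≤ normalizer (cv (S : Subgroup G) P : Set G) :=
  le_normalizer_of fun _ hs _ hd => conj_mem_cv hs hd

variable (q : Sit F S P 1)
include q

theorem S_le_TB : (S : Subgroup G) ≤ TB M :=
  le_inf (le_inf q.h.le (S_le_normalizer_LS q.h.le)) (S_norm_R q)

theorem TB_norm_Zp : TB M ≤ normalizer (Zp M : Set G) :=
  le_normalizer_of fun _ hx _ hz => norm_Zp q (TB_le_P hx) (TB_norm_LS hx) hz

/-- the torus is in `TB M` -/
theorem tor_TB {t : F} (ht : t ≠ 0) : ∃ x ∈ TB M,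
    ActsSL M.e (zl (S : Subgroup G) P) (cv (S : Subgroup G) P) x fun _ => dg t ht := by
  obtain ⟨x, hx, hxN, hA⟩ := tor (M := M) q ht
  refine ⟨x, mem_inf.2 ⟨mem_inf.2 ⟨hx, hxN⟩, ?_⟩, hA⟩
  have h1 : Subgroup.zpowers x ≤ normalizer (Rt M : Set G) := by
    refine le_normalizer_of fun u hu r hr => ?_
    have h2 : ∃ B : Matrix.SpecialLinearGroup (Fin 2) F, ent B 1 0 = 0 ∧
        ActsSL M.e (zl (S : Subgroup G) P) (cv (S : Subgroup G) P) u fun _ => B := by
      have huP : u ∈ P := (zpowers_le.2 hx) hu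
      have huN : u ∈ normalizer (LS M : Set G) := (zpowers_le.2 hxN) hu
      have h3 : u ∈ PL M := (zpowers_le.2 (⟨hx, _, hA⟩ : x ∈ PL M)) hu
      obtain ⟨-, B, hB⟩ := h3
      have hB0 : B = fun _ => B 0 := funext fun i => by rw [Fin.eq_zero i]
      rw [hB0] at hB
      exact ⟨B 0, tri_of_norm q huP huN hB 0, hB⟩
    obtain ⟨B, hB0, hB⟩ := h2
    exact tri_norm_R q ((zpowers_le.2 hx) hu) hB0 hB hr
  exact h1 (mem_zpowers x)

/-- `R ∩ Z ≠ 1` -/
theorem exists_zR : ∃ z ∈ zc (S : Subgroup G), z ∈ Rt M ∧ z ≠ 1 := by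
  obtain ⟨c, hc, hz, h1⟩ := Cfsg.Agent.MinSimple.CaseD8.exists_mem_zc (S := (S : Subgroup G)) (C := Rt M) S.isPGroup'
    ((R_le_V q).trans (V_le_S q)) (S_norm_R q) (Zf_ne_bot q 0)
  exact ⟨c, hz, hc, h1⟩

/-- the torus is transitive on `R#` -/
theorem exists_conj {r z : G} (hr : r ∈ Rt M) (hz : z ∈ Rt M) (hr1 : r ≠ 1) (hz1 : z ≠ 1) :
    ∃ x ∈ TB M, x * r * x⁻¹ = z ∧ ∀ d ∈ cv (S : Subgroup G) P, x * d * x⁻¹ = d := by
  have h1 : M.e r 0 0 ≠ 0 := fun h => hr1 (R_eq_one q hr h)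
  have h2 : M.e z 0 0 ≠ 0 := fun h => hz1 (R_eq_one q hz h)
  have ht : M.e z 0 0 / M.e r 0 0 ≠ 0 := div_ne_zero h2 h1
  obtain ⟨x, hx, hA⟩ := tor_TB (M := M) q ht
  refine ⟨x, hx, ?_, fun d hd => by rw [hA.2 d hd, mul_inv_cancel_right]⟩
  refine R_inj q (conj_mem_of_mem (TB_norm_R hx) hr) hz ?_
  have h3 := congrFun (hA.1 r (R_le_V q hr) 0) 0
  rw [NatPair.ap_zero', dg_00, dg_01, zero_mul, add_zero, div_mul_cancel₀ _ h1] at h3
  exact h3

/-- **every element of `(Z ∩ D) R` is conjugate into `Z`** -/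
theorem tor_mem {z : G} (hz : z ∈ (zc (S : Subgroup G) ⊓ cv (S : Subgroup G) P) ⊔ Rt M) :
    ∃ p ∈ TB M, p * z * p⁻¹ ∈ zc (S : Subgroup G) := by
  obtain ⟨e, he, r, hr, rfl⟩ := mem_sup_of_comm (fun x hx => by
    rw [mem_centralizer_iff]
    intro y hy
    exact V_comm q (R_le_V q hy) (cv_le _ _ (mem_inf.1 hx).2)) hz
  by_cases hr1 : r = 1
  · refine ⟨1, one_mem _, ?_⟩
    rw [hr1, mul_one, one_mul, inv_one, mul_one]
    exact (mem_inf.1 he).1
  · obtain ⟨z₀, hz₀, hzR, hz1⟩ := exists_zR (M := M) q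
    obtain ⟨x, hx, h1, h2⟩ := exists_conj q hr hzR hr1 hz1
    refine ⟨x, hx, ?_⟩
    have e1 : x * (e * r) * x⁻¹ = (x * e * x⁻¹) * (x * r * x⁻¹) := by group
    rw [e1, h1, h2 e (mem_inf.1 he).2]
    exact mul_mem (mem_inf.1 he).1 hz₀

/-- a subgroup containing `Z` and normalised by `TB M` contains `R` -/
theorem R_le_of {U : Subgroup G} (hZ : zc (S : Subgroup G) ≤ U) (hU : TB M ≤ normalizer (U : Set G)) : Rt M ≤ U := by
  intro r hr
  by_cases hr1 : r = 1
  · rw [hr1]; exact one_mem _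
  obtain ⟨z₀, hz₀, hzR, hz1⟩ := exists_zR (M := M) q
  obtain ⟨x, hx, h1, -⟩ := exists_conj q hzR hr hz1 hr1
  rw [← h1]
  exact conj_mem_of_mem (hU hx) (hZ hz₀)

omit [Finite G] [Finite F] [CharP F 2] q in
theorem act_iff {x : G} {A : Matrix.SpecialLinearGroup (Fin 2) F}
    (h : ActsSL M.e (zl (S : Subgroup G) P) (cv (S : Subgroup G) P) x fun _ => A) :
    Act (co M) (zl (S : Subgroup G) P) x A := fun v hv => h.1 v hv 0

/-- **`s ∈ S` trivial on `Z⁺ / D` centralises `Z⁺`** -/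
theorem fld (hS0 : ∀ s ∈ (S : Subgroup G), (∀ r ∈ Rt M, s * r = r * s) → s ∈ LS M) {s : G}
    (hs : s ∈ (S : Subgroup G)) (h : ∀ v ∈ Zp M, co M (s * v * s⁻¹) = co M v) : s ∈ centralizer (Zp M : Set G) := by
  have h1 : s ∈ LS M := by
    refine hS0 s hs fun r hr => ?_
    have h2 : s * r * s⁻¹ = r := by
      refine R_inj q (conj_mem_of_mem (S_norm_R q hs) hr) hr ?_
      exact congrFun (h r (R_le_Zp q hr)) 0
    calc s * r = (s * r * s⁻¹) * s := by group
      _ = r * s := by rw [h2]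
  rw [mem_centralizer_iff]
  intro z hz
  exact (Zp_comm q hz h1).symm

/-- the change of `β` under the torus -/
theorem bet_tor {x u : G} {t : F} (ht : t ≠ 0) (hx : x ∈ P)
    (hA : ActsSL M.e (zl (S : Subgroup G) P) (cv (S : Subgroup G) P) x fun _ => dg t ht) (hu : u ∈ LS M) :
    bet M (x * u * x⁻¹) = t ^ 2 * bet M u := by
  have h1 := IId.Ns.acts_mul M (mul_mem hx (q.h.le hu.1)) (inv_mem hx)
    (IId.Ns.acts_mul M hx (q.h.le hu.1) hA (bet_LS q hu)) (IId.Ns.acts_inv M hx hA)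
  refine bet_eq ?_
  have h2 : (fun _ : Fin 1 => dg t ht * up (bet M u) * (dg t ht)⁻¹) =
      fun _ : Fin 1 => (up (t ^ 2 * bet M u) : Matrix.SpecialLinearGroup (Fin 2) F) := by
    funext _
    have h3 := Cfsg.Agent.Omega.ThmC.FourOf.tri_up (A := dg t ht) (by simp) (bet M u)
    rwa [dg_00] at h3
  rwa [h2] at h1

/-- **`U` induces all `up b`** -/
theorem full {U : Subgroup G} (hUS : U ≤ LS M) (hU : TB M ≤ normalizer (U : Set G))
    (hne : ¬ zl (S : Subgroup G) P ≤ centralizer (U : Set G)) (b : F) : ∃ u ∈ U, bet M u = b := by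
  classical
  by_cases hb : b = 0
  · exact ⟨1, one_mem _, by rw [bet_one q, hb]⟩
  obtain ⟨u, hu, hub⟩ : ∃ u ∈ U, bet M u ≠ 0 := by
    by_contra hcon
    push Not at hcon
    apply hne
    rw [le_centralizer_iff]
    intro u hu
    exact (bet_eq_zero q (hUS hu)).1 (hcon u hu)
  have : Fintype F := Fintype.ofFinite F
  obtain ⟨t, ht⟩ := FiniteField.isSquare_of_char_two (ringChar.eq F 2) (b / bet M u)
  have ht0 : t ≠ 0 := by
    rintro rfl
    rw [mul_zero] at ht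
    exact div_ne_zero hb hub ht
  obtain ⟨x, hx, hA⟩ := tor_TB (M := M) q ht0
  refine ⟨x * u * x⁻¹, conj_mem_of_mem (hU hx) hu, ?_⟩
  rw [bet_tor q ht0 (TB_le_P hx) hA (hUS hu), pow_two, ← ht, div_mul_cancel₀ _ hub]

variable {g : F → G} (hg : IsG M g)
include hg

/-- **`Z⁺ ≤ [U, V] R`** (elementwise) -/
theorem Zp_le_of {U K : Subgroup G} (hUS : U ≤ LS M) (hU : TB M ≤ normalizer (U : Set G))
    (hne : ¬ zl (S : Subgroup G) P ≤ centralizer (U : Set G)) (hgs : ∀ d ∈ cv (S : Subgroup G) P, ∃ x, g x = d)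
    (hK : ∀ v ∈ zl (S : Subgroup G) P, ∀ u ∈ U, cm v u ∈ K) (hRK : Rt M ≤ K) : Zp M ≤ K := by
  intro z hz
  obtain ⟨r, hr, d, hd, rfl⟩ := exists_rd q hz
  refine mul_mem (hRK hr) ?_
  obtain ⟨x, rfl⟩ := hgs d hd
  obtain ⟨v, hv, -, hv1⟩ := exists_v1 (M := M) q
  obtain ⟨u, hu, hub⟩ := full q hUS hU hne x
  obtain ⟨r', hr', -, h2⟩ := exists_cm q hg hv (hUS hu)
  rw [hv1, hub, one_pow, one_mul] at h2
  have h3 := hK v hv u hu
  rw [h2] at h3
  have h4 := mul_mem (inv_mem (hRK hr')) h3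
  rwa [inv_mul_cancel_left] at h4

end Cfsg.Agent.Omega.NOThreeL.RF.Pre

end
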