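import Cfsg.Agent.Omega.NOThreeL.RF.Gal
import Cfsg.Agent.Mrg.Omega.NOThreeL.RA.FromNat
import Cfsg.Agent.Mrg.Omega.IId.Ns.HFac
import Cfsg.Agent.Mrg.Omega.NOThreeL.RF.Lvl
import Cfsg.Agent.Mrg.Omega.FFMutual
import Cfsg.Agent.Lib.GoldschmidtFusion
import Cfsg.Agent.Lib.ProductSet
import Cfsg.Agent.Mrg.Omega.NOThreeL.RA.Base
import Cfsg.Agent.Mrg.Omega.NOThreeL.RTwo

section


/-!
# NO-3L, `R ∩ (A)`, field automorphisms (NsF): `S` acts semilinearly on `V / D` (helper71)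

`M : NatK F S P (zl S P) (cv S P) 1`.

* `exists_semi` (pure): an additive injective map of `F²` which normalises `SL₂(F)` and the line is semilinear;
* `Semi M s τ` : `s` acts on `V / D` as a `τ`-semilinear map; `Semi.exists`, `Semi.unique`, `Semi.mul`;
* `SL M` : the elements of `S` acting as some `up b` (trivially on `D`); **`mem_SL_iff`** : `s ∈ SL M ↔ Semi M s 1`;
* **`relIndex_SL_le`** : `|S : SL M| ≤ |Aut F|`;
* `Semi.conj_dg` : `s t s⁻¹` acts as `dg (τ l) * up c` if `t` acts as `dg l`.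
-/

set_option autoImplicit false
set_option linter.unusedSectionVars false

namespace Cfsg.Agent.Omega.NOThreeL.RF.GD

open Subgroup Cfsg Cfsg.Agent.ZN Cfsg.Agent.Omega.MinPar
open Cfsg.Agent.Omega.FrameFF Cfsg.Agent.Omega.FFThm Cfsg.Agent.Lib.SL2Mat
open Cfsg.Agent.Omega.NatPair (ap ap_add ap_mul ap_one ap_inj ext2 ap_zero' ap_one' ap_inv_ap ap_ap_inv)
open Cfsg.Agent.Omega.HOne (cv_le conj_mem_zl conj_mem_cv)
open Cfsg.Agent.Omega.IId.Cv Cfsg.Agent.Omega.IId.Ns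
open Cfsg.Agent.MinSimple.VModule (zc_comm zc_sq zc_le mem_zc le_normalizer_o2 normalizer_le_normalizer_zc zc_le_zl
  o2_isPGroup o2_le)

universe u

section pure

variable {F : Type} [Field F]

theorem ap_smul (A : Matrix.SpecialLinearGroup (Fin 2) F) (c : F) (x : Fin 2 → F) : ap A (c • x) = c • ap A x := by
  apply ext2
  · rw [ap_zero', Pi.smul_apply, Pi.smul_apply, Pi.smul_apply, ap_zero', smul_eq_mul, smul_eq_mul, smul_eq_mul]; ring
  · rw [ap_one', Pi.smul_apply, Pi.smul_apply, Pi.smul_apply, ap_one', smul_eq_mul, smul_eq_mul, smul_eq_mul]; ring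

/-- An additive injective map of `F²` which normalises `SL₂(F)` and preserves the line `{x | x 1 = 0}`. -/
theorem exists_semi [Finite F] (φ : (Fin 2 → F) → Fin 2 → F) (hadd : ∀ x y, φ (x + y) = φ x + φ y)
    (hinj : ∀ x, φ x = 0 → x = 0) (hline : ∀ x : F, φ ![x, 0] 1 = 0)
    (hnorm : ∀ A : Matrix.SpecialLinearGroup (Fin 2) F, ∃ B : Matrix.SpecialLinearGroup (Fin 2) F,
      ∀ x, φ (ap A x) = ap B (φ x)) : ∃ σ : F ≃+* F, ∀ (c : F) x, φ (c • x) = σ c • φ x := by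
  have h0 : φ 0 = 0 := by
    have := hadd 0 0
    rw [add_zero] at this
    exact left_eq_add.1 this
  set ρ : F → F := fun c => φ ![c, 0] 0 with hρ
  have hv : ∀ c, φ ![c, 0] = ![ρ c, 0] := fun c => ext2 rfl (hline c)
  have hρadd : ∀ c d, ρ (c + d) = ρ c + ρ d := by
    intro c d
    have e : (![c + d, 0] : Fin 2 → F) = ![c, 0] + ![d, 0] := by
      apply ext2
      · simp
      · simp
    show φ ![c + d, 0] 0 = _
    rw [e, hadd]
    rfl
  have hρinj : ∀ c, ρ c = 0 → c = 0 := by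
    intro c hc
    have h1 : φ ![c, 0] = 0 := by
      rw [hv, hc]
      apply ext2
      · simp
      · simp
    have h2 := congrFun (hinj _ h1) 0
    simpa using h2
  have hρ1 : ρ 1 ≠ 0 := fun h => one_ne_zero (hρinj 1 h)
  have hmul : ∀ l c, ρ (l * c) * ρ 1 = ρ l * ρ c := by
    intro l c
    by_cases hl : l = 0
    · subst hl
      have h1 : ρ 0 = 0 := by
        show φ ![0, 0] 0 = 0
        have e : (![0, 0] : Fin 2 → F) = 0 := by
          apply ext2
          · simp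
          · simp
        rw [e, h0]
        rfl
      rw [zero_mul, h1, zero_mul, zero_mul]
    · obtain ⟨B, hB⟩ := hnorm (dg l hl)
      have h1 : ∀ y, ρ (l * y) = ent B 0 0 * ρ y := by
        intro y
        have e : ap (dg l hl) ![y, 0] = ![l * y, 0] := by
          apply ext2
          · rw [ap_zero']; simp
          · rw [ap_one']; simp
        have h2 := congrFun (hB ![y, 0]) 0
        rw [e, hv, hv, ap_zero'] at h2
        simpa using h2
      have h3 := h1 1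
      rw [mul_one] at h3
      rw [h1 c, h3]
      ring
  let f : F →+* F :=
    { toFun := fun c => ρ c / ρ 1
      map_one' := div_self hρ1
      map_mul' := fun a b => by
        show ρ (a * b) / ρ 1 = ρ a / ρ 1 * (ρ b / ρ 1)
        rw [div_mul_div_comm, ← hmul]
        field_simp
      map_zero' := by
        have h1 := hρadd 0 0
        rw [add_zero] at h1
        show ρ 0 / ρ 1 = 0
        rw [left_eq_add.1 h1, zero_div]
      map_add' := fun a b => by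
        show ρ (a + b) / ρ 1 = ρ a / ρ 1 + ρ b / ρ 1
        rw [hρadd, add_div] }
  have hf : Function.Bijective f := Finite.injective_iff_bijective.1 f.injective
  refine ⟨RingEquiv.ofBijective f hf, fun c x => ?_⟩
  show φ (c • x) = (ρ c / ρ 1) • φ x
  by_cases hx : x = 0
  · rw [hx, smul_zero, h0, smul_zero]
  obtain ⟨A, hA⟩ := NatPair.exists_ap (F := F) (x := ![1, 0]) (y := x) (by
    intro h
    have := congrFun h 0
    simp at this) hx
  obtain ⟨B, hB⟩ := hnorm A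
  have e1 : c • x = ap A ![c, 0] := by
    rw [← hA, ← ap_smul]
    congr 1
    apply ext2
    · simp
    · simp
  rw [e1, hB, hv]
  rw [← hA, hB, hv, ← ap_smul]
  congr 1
  apply ext2
  · simp [div_mul_cancel₀ _ hρ1]
  · simp

end pure

section semi

variable {G : Type u} [Group G] {F : Type} [Field F] {S P : Subgroup G}
  (M : NatK F S P (zl S P) (cv S P) 1)

/-- `s` acts on `V / D` as a `τ`-semilinear map. -/
def Semi (s : G) (τ : F ≃+* F) : Prop :=
  ∀ v ∈ zl S P, ∀ w ∈ zl S P, ∀ c : F, M.e w 0 = c • M.e v 0 → M.e (s * w * s⁻¹) 0 = τ c • M.e (s * v * s⁻¹) 0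

variable {M}

theorem surj1 (x : Fin 2 → F) : ∃ v ∈ zl S P, M.e v 0 = x := by
  obtain ⟨v, hv, h⟩ := M.surj fun _ => x
  exact ⟨v, hv, by rw [h]⟩

theorem ker1 {v : G} (hv : v ∈ zl S P) : M.e v 0 = 0 ↔ v ∈ cv S P := by
  rw [← M.ker v hv]
  constructor
  · intro h
    funext i
    rw [Subsingleton.elim i 0]
    exact h
  · intro h
    rw [h]
    rfl

theorem e_ext {v w : G} (h : M.e v 0 = M.e w 0) : M.e v = M.e w := by
  funext i
  rw [Subsingleton.elim i 0]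
  exact h

theorem ne_zero_conj {g v : G} (hg : g ∈ P) (hv : v ∈ zl S P) (h : M.e (g * v * g⁻¹) 0 = 0) : M.e v 0 = 0 := by
  rw [ker1 hv]
  have h1 := (ker1 (conj_mem_zl hg hv)).1 h
  have h2 := conj_mem_cv (inv_mem hg) h1
  have e : g⁻¹ * (g * v * g⁻¹) * g⁻¹⁻¹ = v := by group
  rwa [e] at h2

theorem Semi.unique {s : G} (hs : s ∈ P) {τ υ : F ≃+* F} (h : Semi M s τ) (h' : Semi M s υ) : τ = υ := by
  obtain ⟨v, hv, hv1⟩ := surj1 (M := M) ![1, 0]
  have hne : M.e (s * v * s⁻¹) 0 ≠ 0 := by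
    intro h0
    have h1 := ne_zero_conj hs hv h0
    rw [hv1] at h1
    have := congrFun h1 0
    simp at this
  ext c
  obtain ⟨w, hw, hw1⟩ := surj1 (M := M) (c • ![1, 0])
  have h1 := h v hv w hw c (by rw [hw1, hv1])
  have h2 := h' v hv w hw c (by rw [hw1, hv1])
  rw [h1] at h2
  exact smul_left_injective F hne h2

theorem Semi.mul {s t : G} (ht : t ∈ P) {τ υ : F ≃+* F} (h : Semi M s τ) (h' : Semi M t υ) :
    Semi M (s * t) (τ * υ) := by
  intro v hv w hw c hc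
  have h1 := h' v hv w hw c hc
  have h2 := h _ (conj_mem_zl ht hv) _ (conj_mem_zl ht hw) _ h1
  have e1 : s * t * w * (s * t)⁻¹ = s * (t * w * t⁻¹) * s⁻¹ := by group
  have e2 : s * t * v * (s * t)⁻¹ = s * (t * v * t⁻¹) * s⁻¹ := by group
  rw [e1, e2, h2]
  rfl

theorem Semi.one_of_act {s : G} {A : Matrix.SpecialLinearGroup (Fin 2) F}
    (h : ∀ v ∈ zl S P, M.e (s * v * s⁻¹) 0 = ap A (M.e v 0)) : Semi M s 1 := by
  intro v hv w hw c hc
  rw [h w hw, h v hv, hc, ap_smul]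
  rfl

theorem Semi.exists [Finite F] (hSP : S ≤ P) {s : G} (hs : s ∈ S) : ∃ τ, Semi M s τ := by
  have hsP := hSP hs
  choose r hr hrx using surj1 (M := M)
  have h1 : ∀ v ∈ zl S P, M.e (s * v * s⁻¹) 0 = M.e (s * r (M.e v 0) * s⁻¹) 0 := by
    intro v hv
    exact congrFun (e_conj_congr M hsP hv (hr _) (e_ext (hrx _).symm)) 0
  obtain ⟨σ, hσ⟩ := exists_semi (F := F) (fun x => M.e (s * r x * s⁻¹) 0) (by
      intro x y
      have h2 := h1 _ (mul_mem (hr x) (hr y))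
      have h3 : M.e (r x * r y) 0 = x + y := by rw [M.mul _ (hr x) _ (hr y), Pi.add_apply, hrx, hrx]
      rw [h3] at h2
      show M.e (s * r (x + y) * s⁻¹) 0 = _
      rw [← h2]
      have e : s * (r x * r y) * s⁻¹ = (s * r x * s⁻¹) * (s * r y * s⁻¹) := by group
      rw [e, M.mul _ (conj_mem_zl hsP (hr x)) _ (conj_mem_zl hsP (hr y))]
      rfl) (by
      intro x hx
      rw [← hrx x]
      exact ne_zero_conj hsP (hr x) hx) (by
      intro x
      obtain ⟨π, hπ⟩ := M.line s hs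
      have h2 := hπ (r ![x, 0]) (hr _) 0
      rw [Subsingleton.elim (π 0) 0] at h2
      show M.e (s * r ![x, 0] * s⁻¹) 0 1 = 0
      rw [h2, hrx]
      simp) (by
      intro A
      obtain ⟨k, hk, hkA⟩ := M.lift fun _ => A
      obtain ⟨B, hB⟩ := M.norm s hsP k hk (fun _ => A) hkA.1
      refine ⟨B 0, fun x => ?_⟩
      have h2 := hkA.1 (r x) (hr x) 0
      rw [hrx] at h2
      have hkr := conj_mem_zl hk (hr x)
      have h3 := h1 _ hkr
      rw [h2] at h3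
      show M.e (s * r (ap A x) * s⁻¹) 0 = ap (B 0) (M.e (s * r x * s⁻¹) 0)
      have e1 : s * (k * r x * k⁻¹) * s⁻¹ = s * k * s⁻¹ * (s * r x * s⁻¹) * (s * k * s⁻¹)⁻¹ := by group
      rw [← h3, ← hB _ (conj_mem_zl hsP (hr x)) 0, e1])
  refine ⟨σ, fun v hv w hw c hc => ?_⟩
  rw [h1 w hw, h1 v hv, hc]
  exact hσ c _

/-- `s t s⁻¹` acts as `dg (τ l) * up c` if `t` acts as `dg l` -/
theorem Semi.conj_dg (hSP : S ≤ P) {s t : G} (hs : s ∈ S) {τ : F ≃+* F} (h : Semi M s τ) {l : F} (hl : l ≠ 0)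
    (ht : Al M 0 t (dg l hl)) : ∃ c, Al M 0 (s * t * s⁻¹) (dg (τ l) (by simpa using hl) * up c) := by
  have hsP := hSP hs
  have hm : Mv M s 0 0 := by
    intro v hv
    constructor
    · exact ne_zero_conj hsP hv
    · intro h0
      have h1 := conj_mem_cv hsP ((ker1 hv).1 h0)
      exact (ker1 (conj_mem_zl hsP hv)).2 h1
  obtain ⟨m, c, hmc⟩ := conj_Al_line hSP hs hm (by simp) ht
  refine ⟨c, ?_⟩
  obtain ⟨v, hv, hv1⟩ := surj1 (M := M) ![1, 0]
  have h1 := hmc.same (conj_mem_zl hsP hv)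
  have e1 : s * t * s⁻¹ * (s * v * s⁻¹) * (s * t * s⁻¹)⁻¹ = s * (t * v * t⁻¹) * s⁻¹ := by group
  rw [e1] at h1
  have h2 := h v hv _ (ht.V hv) l (by
    rw [ht.same hv, hv1]
    apply ext2
    · rw [ap_zero']; simp
    · rw [ap_one']; simp)
  rw [h2] at h1
  have h3 : M.e (s * v * s⁻¹) 0 1 = 0 := by
    rw [conj_line hSP hs hm hv, hv1]
    simp
  have h4 := congrFun h1 0
  rw [ap_mul, ap_up2, Pi.smul_apply, ap_zero', h3] at h4
  have h5 : M.e (s * v * s⁻¹) 0 0 ≠ 0 := by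
    intro h0
    have h6 : M.e (s * v * s⁻¹) 0 = 0 := ext2 h0 h3
    have h7 := ne_zero_conj hsP hv h6
    rw [hv1] at h7
    have := congrFun h7 0
    simp at this
  have h6 : τ l = (m : F) := by
    have h7 : τ l * M.e (s * v * s⁻¹) 0 0 = (m : F) * M.e (s * v * s⁻¹) 0 0 := by simpa using h4
    exact mul_right_cancel₀ h5 h7
  refine hmc.of_eq ?_
  congr 1
  apply ext_ent <;> simp [h6]

variable (M)

/-- The elements of `S` acting as some `up b`, trivially on `D`. -/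
def SL : Subgroup G where
  carrier := {s | s ∈ S ∧ ∃ b, Al M 0 s (up b)}
  one_mem' := ⟨one_mem _, 0, by rw [up_zero]; exact Al.one 0⟩
  mul_mem' := by
    rintro a b ⟨ha, c, hc⟩ ⟨hb, d, hd⟩
    exact ⟨mul_mem ha hb, c + d, (hc.mul hd).of_eq (up_mul c d)⟩
  inv_mem' := by
    rintro a ⟨ha, c, hc⟩
    exact ⟨inv_mem ha, -c, hc.inv.of_eq (up_inv c)⟩

variable {M}

theorem mem_SL {s : G} : s ∈ SL M ↔ s ∈ S ∧ ∃ b, Al M 0 s (up b) := Iff.rfl

theorem SL_le : SL M ≤ S := fun _ h => h.1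

end semi

section group

variable {G : Type u} [Group G] [Finite G] {F : Type} [Field F] [Finite F] [CharP F 2]
  (hG : IsCharacteristicTwoType G) (S : Sylow 2 G) {P : Subgroup G} (h : IsParS (S : Subgroup G) P)
  (M : NatK F (S : Subgroup G) P (zl (S : Subgroup G) P) (cv (S : Subgroup G) P) 1)

include hG h in
/-- **`s ∈ S` acts linearly iff it acts as some `up b`, trivially on `D`** -/
theorem mem_SL_iff {s : G} (hs : s ∈ (S : Subgroup G)) : s ∈ SL M ↔ Semi M s 1 := by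
  constructor
  · rintro ⟨-, b, hb⟩
    exact Semi.one_of_act fun v hv => hb.same hv
  · intro h1
    have hsP := h.le hs
    obtain ⟨φ, hφ, hadd, hnorm⟩ := RA.exists_phi M hsP
    have hV : ∀ x, ∃ v ∈ zl (S : Subgroup G) P, M.e v 0 = x := surj1
    -- `φ` is linear
    have hlin : ∀ (c : F) x, φ (c • x) = c • φ x := by
      intro c x
      obtain ⟨v, hv, rfl⟩ := hV x
      obtain ⟨w, hw, hw1⟩ := hV (c • M.e v 0)
      rw [← hw1, ← hφ w hw, ← hφ v hv]
      exact h1 v hv w hw c hw1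
    -- the iterates
    obtain ⟨n, hn⟩ := S.isPGroup' ⟨s, hs⟩
    have hn' : s ^ 2 ^ n = 1 := congrArg Subtype.val hn
    have hit : ∀ m : ℕ, ∀ v ∈ zl (S : Subgroup G) P, φ^[m] (M.e v 0) = M.e (s ^ m * v * (s ^ m)⁻¹) 0 := by
      intro m
      induction m with
      | zero => intro v _; simp
      | succ m ih =>
        intro v hv
        have h5 := conj_mem_zl (pow_mem hsP m) hv
        have e1 : s * (s ^ m * v * (s ^ m)⁻¹) * s⁻¹ = s ^ (m + 1) * v * (s ^ (m + 1))⁻¹ := by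
          rw [pow_succ']
          group
        rw [Function.iterate_succ_apply', ih v hv, ← hφ _ h5, e1]
    have hper : ∀ x, φ^[2 ^ n] x = x := by
      intro x
      obtain ⟨v, hv, rfl⟩ := hV x
      rw [hit _ v hv, hn']
      simp
    -- `φ` fixes the line
    obtain ⟨a, ha⟩ : ∃ a : F, φ ![1, 0] = ![a, 0] := by
      obtain ⟨v, hv, hv1⟩ := hV ![1, 0]
      obtain ⟨π, hπ⟩ := M.line s hs
      have h2 := hπ v hv 0
      rw [Subsingleton.elim (π 0) 0] at h2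
      refine ⟨M.e (s * v * s⁻¹) 0 0, ?_⟩
      rw [← hv1, ← hφ v hv]
      refine ext2 (by simp) ?_
      rw [h2.2 (by rw [hv1]; simp)]
      simp
    have hline : ∀ x : F, φ ![x, 0] = ![a * x, 0] := by
      intro x
      have e : (![x, 0] : Fin 2 → F) = x • ![1, 0] := by
        apply ext2
        · simp
        · simp
      rw [e, hlin, ha]
      apply ext2
      · simp [mul_comm]
      · simp
    have hpow : ∀ m : ℕ, ∀ x : F, φ^[m] ![x, 0] = ![a ^ m * x, 0] := by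
      intro m
      induction m with
      | zero => intro x; simp
      | succ m ih => intro x; rw [Function.iterate_succ_apply', ih, hline, pow_succ']; congr 1; ring
    have ha1 : a = 1 := by
      have h2 := hpow (2 ^ n) 1
      rw [hper] at h2
      have h3 : a ^ 2 ^ n = 1 := by simpa using (congrFun h2 0).symm
      have h4 : (a - 1) ^ 2 ^ n = 0 := by rw [sub_pow_char_pow, one_pow, h3, sub_self]
      exact sub_eq_zero.1 (pow_eq_zero_iff (by positivity) |>.1 h4)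
    obtain ⟨b, hb⟩ := RA.exists_up_of_norm φ hadd (fun x => by rw [hline, ha1, one_mul]) hnorm ⟨n, hper⟩
    obtain ⟨t, ht, htb⟩ := M.unip fun _ => b
    have htP := h.le ht
    have h2 : s * t⁻¹ ∈ kern M := by
      refine ⟨mul_mem hsP (inv_mem htP), fun v hv => e_ext ?_⟩
      have hu := conj_mem_zl (inv_mem htP) hv
      have h3 := hφ _ hu
      have h4 := (acts_inv M htP htb).1 v hv 0
      have e : s * t⁻¹ * v * (s * t⁻¹)⁻¹ = s * (t⁻¹ * v * t⁻¹⁻¹) * s⁻¹ := by group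
      rw [e, h3, hb, h4, ap_ap_inv]
    have h3 := comm_of_quot hG S h M one_pos (mul_mem hs (inv_mem ht)) h2
    refine ⟨hs, b, hsP, fun v hv i => ?_, fun d hd => ?_⟩
    · rw [Subsingleton.elim i 0, one1_same, hφ v hv, hb]
    · have h4 := h3 d (cv_le _ _ hd)
      have h5 := htb.2 d hd
      calc s * d = (s * t⁻¹) * (t * d) := by group
        _ = (s * t⁻¹) * (d * t) := by rw [h5]
        _ = ((s * t⁻¹) * d) * t := by group
        _ = (d * (s * t⁻¹)) * t := by rw [h4]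
        _ = d * s := by group

/-- the field automorphism of `s ∈ S` -/
noncomputable def sg (s : ↥(S : Subgroup G)) : F ≃+* F := Classical.choose (Semi.exists (M := M) h.le s.2)

theorem sg_spec (s : ↥(S : Subgroup G)) : Semi M (s : G) (sg S h M s) :=
  Classical.choose_spec (Semi.exists (M := M) h.le s.2)

/-- `S → Aut F` -/
noncomputable def sgHom : ↥(S : Subgroup G) →* (F ≃+* F) where
  toFun := sg S h M
  map_one' := Semi.unique (M := M) (one_mem P) (sg_spec S h M 1) (by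
    exact Semi.one_of_act (s := (1 : G)) (A := 1) fun v _ => by rw [one_mul, inv_one, mul_one, ap_one])
  map_mul' s t := Semi.unique (M := M) (mul_mem (h.le s.2) (h.le t.2)) (sg_spec S h M (s * t))
    (Semi.mul (M := M) (h.le t.2) (sg_spec S h M s) (sg_spec S h M t))

include hG in
theorem ker_sgHom : (sgHom S h M).ker = (SL M).subgroupOf (S : Subgroup G) := by
  ext s
  rw [MonoidHom.mem_ker, mem_subgroupOf, mem_SL_iff hG S h M s.2]
  constructor
  · intro h1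
    have h2 := sg_spec S h M s
    have h3 : sg S h M s = 1 := h1
    rwa [h3] at h2
  · intro h1
    exact Semi.unique (M := M) (h.le s.2) (sg_spec S h M s) h1

include hG h in
/-- **`|S : SL| ≤ |Aut F|`** -/
theorem relIndex_SL_le : (SL M).relIndex (S : Subgroup G) ≤ Nat.card (F ≃+* F) := by
  have h1 : (SL M).relIndex (S : Subgroup G) = (sgHom S h M).ker.index := by
    rw [ker_sgHom hG S h M]
    rfl
  have hfin : Finite (F ≃+* F) := Finite.of_injective (fun f : F ≃+* F => (f : F → F)) DFunLike.coe_injective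
  rw [h1, index_ker]
  exact Nat.card_le_card_of_injective _ Subtype.val_injective

include hG h in
theorem two_pow_relIndex_SL_le : 2 ^ (SL M).relIndex (S : Subgroup G) ≤ Nat.card F :=
  (Nat.pow_le_pow_right (by norm_num) (relIndex_SL_le hG S h M)).trans (two_pow_card_aut_le F)

end group

end Cfsg.Agent.Omega.NOThreeL.RF.GD

end

section


/-!
# NO-3L, `R ∩ (A)`, field automorphisms (NsF), (GD): the elements of `A = Ω₁(Z(O₂(P)))` of natural type (helper71)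

`q : Sit F S P 1`, `M : NatK F S P (zl S P) (cv S P) 1`.

* `XA M` = the elements `a ∈ A` fixed by the root group and additive under the torus
  (`[dg (l + m)] a = [dg l] a * [dg m] a`); an `F`-space on which `S` acts semilinearly, `S₀` trivially;
* **`XA_le`** : `XA M ≤ V` (Galois descent);
* **`cent_Nc_of_comm`** : a 2-element `w` of `N_G(O₂(P))` which commutes modulo `O₂(P)` with a lift of every element of
  `SL₂(F)` centralises `N = Nc M 0`.
-/

set_option autoImplicit false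
set_option linter.unusedSectionVars false
set_option linter.unusedVariables false

namespace Cfsg.Agent.Omega.NOThreeL.RF.GD

open Subgroup Cfsg Cfsg.Agent.Omega.MinPar
open Cfsg.Agent.ZN (zc zl o2)
open Cfsg.Agent.Omega.FrameFF Cfsg.Agent.Omega.FFThm Cfsg.Agent.Lib.SL2Mat
open Cfsg.Agent.Omega.NatPair (ap ap_add ap_mul ap_one ap_inj ext2 ap_zero' ap_one' ap_inv_ap ap_ap_inv)
open Cfsg.Agent.Omega.HOne (cv_le conj_mem_zl conj_mem_cv)
open Cfsg.Agent.Omega.IId.Cv Cfsg.Agent.Omega.IId.Ns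
open Cfsg.Agent.Omega.IId.ThmCQ.Nsp (Sit LS mem_LS exists_b S_le_normalizer_LS o2_le_LS exists_norm)
open Cfsg.Agent.MinSimple.VModule (zc_comm zc_sq zc_le mem_zc le_normalizer_o2 normalizer_le_normalizer_zc zc_le_zl
  o2_isPGroup o2_le)

universe u

attribute [local instance] aqComm

section X

variable {G : Type u} [Group G] [Finite G] {F : Type} [Field F] [Finite F] [CharP F 2] {S : Sylow 2 G}
  {P : Subgroup G} (M : NatK F (S : Subgroup G) P (zl (S : Subgroup G) P) (cv (S : Subgroup G) P) 1)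

/-- the elements of natural type -/
def XA : Subgroup ↥(zc (o2 P)) where
  carrier := {a | (∀ c : F, rh S M 0 (up c) a = a) ∧
    ∀ (l m : F) (hl : l ≠ 0) (hm : m ≠ 0) (hlm : l + m ≠ 0),
      rh S M 0 (dg (l + m) hlm) a = rh S M 0 (dg l hl) a * rh S M 0 (dg m hm) a}
  one_mem' := ⟨fun c => map_one _, fun l m hl hm hlm => by rw [map_one, map_one, map_one, mul_one]⟩
  mul_mem' := by
    rintro a b ⟨ha, ha'⟩ ⟨hb, hb'⟩
    refine ⟨fun c => by rw [map_mul, ha, hb], fun l m hl hm hlm => ?_⟩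
    rw [map_mul, map_mul, map_mul, ha' l m hl hm hlm, hb' l m hl hm hlm, mul_mul_mul_comm]
  inv_mem' := by
    rintro a ⟨ha, ha'⟩
    refine ⟨fun c => by rw [map_inv, ha], fun l m hl hm hlm => ?_⟩
    rw [map_inv, map_inv, map_inv, ha' l m hl hm hlm, mul_inv]

variable {M}

theorem mem_XA {a : ↥(zc (o2 P))} : a ∈ XA M ↔ (∀ c : F, rh S M 0 (up c) a = a) ∧
    ∀ (l m : F) (hl : l ≠ 0) (hm : m ≠ 0) (hlm : l + m ≠ 0),
      rh S M 0 (dg (l + m) hlm) a = rh S M 0 (dg l hl) a * rh S M 0 (dg m hm) a := Iff.rfl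

variable (q : Sit F S P 1)

include q

/-- an element of `P` acting as `up c` fixes `XA` -/
theorem XA_fix {a : ↥(zc (o2 P))} (ha : a ∈ XA M) {x : G} {c : F} (hx : Al M 0 x (up c)) : x * a * x⁻¹ = (a : G) := by
  rw [← rh_val q.hG S q.h q.hk M hx a, ha.1 c]

/-- `S₀` fixes `XA` -/
theorem XA_fix_SL {a : ↥(zc (o2 P))} (ha : a ∈ XA M) {s : G} (hs : s ∈ SL M) : s * a * s⁻¹ = (a : G) := by
  obtain ⟨-, b, hb⟩ := hs
  exact XA_fix q ha hb

/-- the torus preserves `XA` -/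
theorem XA_dg {a : ↥(zc (o2 P))} (ha : a ∈ XA M) {l : F} (hl : l ≠ 0) : rh S M 0 (dg l hl) a ∈ XA M := by
  have hmul := rh_mul q.hG S q.h q.hk M 0
  refine ⟨fun c => ?_, fun l' m' hl' hm' hlm => ?_⟩
  · have e : (up c : Matrix.SpecialLinearGroup (Fin 2) F) * dg l hl = dg l hl * up (c / l ^ 2) := by
      rw [dg_up]
      congr 2
      field_simp
    rw [← hmul, e, hmul, ha.1]
  · have e : ∀ (m : F) (hm : m ≠ 0), rh S M 0 (dg m hm) (rh S M 0 (dg l hl) a) =
        rh S M 0 (dg l hl) (rh S M 0 (dg m hm) a) := by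
      intro m hm
      rw [← hmul, ← hmul, dg_mul_dg, dg_mul_dg]
      congr 2
      apply ext_ent <;> simp [mul_comm]
    rw [e, e, e, ha.2 l' m' hl' hm' hlm, map_mul]

/-- `S` acts on `XA`, semilinearly -/
theorem XA_conj_dg {a : ↥(zc (o2 P))} {s : G} (hs : s ∈ (S : Subgroup G)) {τ : F ≃+* F} (hτ : Semi M s τ)
    (hu : ∀ c : F, rh S M 0 (up c) (cA (q.h.le hs) a) = cA (q.h.le hs) a) {l : F} (hl : l ≠ 0) :
    cA (q.h.le hs) (rh S M 0 (dg l hl) a) = rh S M 0 (dg (τ l) (by simpa using hl)) (cA (q.h.le hs) a) := by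
  have hsP := q.h.le hs
  have ht := lf_spec S M 0 (dg l hl)
  obtain ⟨c, hc⟩ := hτ.conj_dg q.h.le hs hl ht
  have h1 : cA hsP (rh S M 0 (dg l hl) a) = rh S M 0 (dg (τ l) (by simpa using hl) * up c) (cA hsP a) := by
    apply Subtype.ext
    rw [rh_val q.hG S q.h q.hk M hc, cA_val, cA_val, rh_val q.hG S q.h q.hk M ht]
    group
  rw [h1, rh_mul q.hG S q.h q.hk, hu]

/-- the conjugates of a vector fixed by the root group -/
theorem up_conj {a : ↥(zc (o2 P))} (ha : ∀ c : F, rh S M 0 (up c) a = a) {s : G} (hs : s ∈ (S : Subgroup G)) (c : F) :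
    rh S M 0 (up c) (cA (q.h.le hs) a) = cA (q.h.le hs) a := by
  obtain ⟨t, ht, htc⟩ := M.unip fun _ => c
  have htA : Al M 0 t (up c) := Al_iff.2 ⟨q.h.le ht, htc⟩
  have h1 : s⁻¹ * t * s ∈ LS M := by
    have := (mem_normalizer_iff.1 (inv_mem (S_le_normalizer_LS (M := M) q.h.le hs)) t).1 (mem_LS q.h.le ht htc)
    rwa [inv_inv] at this
  obtain ⟨b, hb⟩ := exists_b q.h.le h1
  have h2 : Al M 0 (s⁻¹ * t * s) (up (b 0)) := by
    refine Al_iff.2 ⟨q.h.le h1.1, ?_⟩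
    have e : (fun i => up (b i)) = fun _ : Fin 1 => (up (b 0) : Matrix.SpecialLinearGroup (Fin 2) F) :=
      funext fun i => by rw [Fin.eq_zero i]
    rwa [e] at hb
  have h3 : s⁻¹ * t * s * a * (s⁻¹ * t * s)⁻¹ = (a : G) := by
    rw [← rh_val q.hG S q.h q.hk M h2 a, ha]
  apply Subtype.ext
  rw [rh_val q.hG S q.h q.hk M htA, cA_val]
  calc t * (s * (a : G) * s⁻¹) * t⁻¹ = s * (s⁻¹ * t * s * a * (s⁻¹ * t * s)⁻¹) * s⁻¹ := by group
    _ = s * a * s⁻¹ := by rw [h3]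

theorem XA_conj {a : ↥(zc (o2 P))} (ha : a ∈ XA M) {s : G} (hs : s ∈ (S : Subgroup G)) :
    cA (q.h.le hs) a ∈ XA M := by
  obtain ⟨τ, hτ⟩ := Semi.exists (M := M) q.h.le hs
  have hu := up_conj q ha.1 hs
  refine ⟨hu, fun l m hl hm hlm => ?_⟩
  have hl' : τ.symm l ≠ 0 := by simpa using hl
  have hm' : τ.symm m ≠ 0 := by simpa using hm
  have hlm' : τ.symm l + τ.symm m ≠ 0 := by
    rw [← map_add]
    exact (map_ne_zero τ.symm).2 hlm
  have h1 := XA_conj_dg q hs hτ (a := a) hu hl'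
  have h2 := XA_conj_dg q hs hτ (a := a) hu hm'
  have h3 := XA_conj_dg q hs hτ (a := a) hu hlm'
  rw [ha.2 _ _ hl' hm' hlm', map_mul, h1, h2] at h3
  have e : ∀ (x y : F) (hx : x ≠ 0) (hy : y ≠ 0), x = y →
      rh S M 0 (dg x hx) (cA (q.h.le hs) a) = rh S M 0 (dg y hy) (cA (q.h.le hs) a) := by
    intro x y hx hy hxy
    subst hxy
    rfl
  have e1 := e (τ (τ.symm l)) l (by simpa using hl) hl (by simp)
  have e2 := e (τ (τ.symm m)) m (by simpa using hm) hm (by simp)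
  have e3 := e (τ (τ.symm l + τ.symm m)) (l + m) ((map_ne_zero τ).2 hlm') hlm (by simp)
  rw [e1, e2, e3] at h3
  exact h3.symm

/-! ### the `F`-space -/

open Classical in
/-- scalar multiplication -/
noncomputable def sm (l : F) : ↥(XA M) →* ↥(XA M) :=
  if hl : l = 0 then 1 else
    { toFun := fun a => ⟨rh S M 0 (dg l hl) a, XA_dg q a.2 hl⟩
      map_one' := Subtype.ext (map_one _)
      map_mul' := fun a b => Subtype.ext (map_mul _ _ _) }

theorem sm_zero (a : ↥(XA M)) : sm q (0 : F) a = 1 := by rw [sm, dif_pos rfl]; rfl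

theorem sm_val {l : F} (hl : l ≠ 0) (a : ↥(XA M)) :
    ((sm q l a : ↥(XA M)) : ↥(zc (o2 P))) = rh S M 0 (dg l hl) a := by rw [sm, dif_neg hl]; rfl

theorem XA_sq (a : ↥(XA M)) : a * a = 1 := Subtype.ext (A_sq _)

/-- the `F`-space structure -/
@[reducible] noncomputable def xMod : Module F (Additive ↥(XA M)) where
  smul l a := Additive.ofMul (sm q l a.toMul)
  one_smul a := by
    show Additive.ofMul (sm q (1 : F) a.toMul) = a
    have h1 : sm q (1 : F) a.toMul = a.toMul := by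
      apply Subtype.ext
      rw [sm_val q one_ne_zero]
      have e : (dg 1 one_ne_zero : Matrix.SpecialLinearGroup (Fin 2) F) = 1 := by apply ext_ent <;> simp
      rw [e, rh_one q.hG S q.h q.hk]
    rw [h1]; rfl
  mul_smul l m a := by
    show Additive.ofMul (sm q (l * m) a.toMul) = Additive.ofMul (sm q l (sm q m a.toMul))
    congr 1
    by_cases hl : l = 0
    · rw [hl, zero_mul, sm_zero, sm_zero]
    by_cases hm : m = 0
    · rw [hm, mul_zero, sm_zero, map_one]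
    apply Subtype.ext
    rw [sm_val q (mul_ne_zero hl hm), sm_val q hl, sm_val q hm, ← rh_mul q.hG S q.h q.hk, dg_mul_dg]
  smul_zero l := by
    show Additive.ofMul (sm q l 1) = 0
    rw [map_one]; rfl
  smul_add l a b := by
    show Additive.ofMul (sm q l (a.toMul * b.toMul)) = _
    rw [map_mul]; rfl
  add_smul l m a := by
    show Additive.ofMul (sm q (l + m) a.toMul) = Additive.ofMul (sm q l a.toMul * sm q m a.toMul)
    congr 1
    by_cases hl : l = 0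
    · rw [hl, zero_add, sm_zero, one_mul]
    by_cases hm : m = 0
    · rw [hm, add_zero, sm_zero, mul_one]
    by_cases hlm : l + m = 0
    · rw [hlm, sm_zero]
      have h1 : m = l := (CharTwo.add_eq_zero.1 hlm).symm
      rw [h1, XA_sq q]
    apply Subtype.ext
    show _ = ((sm q l a.toMul : ↥(XA M)) : ↥(zc (o2 P))) * ((sm q m a.toMul : ↥(XA M)) : ↥(zc (o2 P)))
    rw [sm_val q hlm, sm_val q hl, sm_val q hm]
    exact a.toMul.2.2 l m hl hm hlm
  zero_smul a := by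
    show Additive.ofMul (sm q (0 : F) a.toMul) = 0
    rw [sm_zero]; rfl

/-- conjugation by `s ∈ S` -/
def cX {s : G} (hs : s ∈ (S : Subgroup G)) : Additive ↥(XA M) →+ Additive ↥(XA M) where
  toFun a := Additive.ofMul ⟨cA (q.h.le hs) (a.toMul : ↥(XA M)), XA_conj q a.toMul.2 hs⟩
  map_zero' := by
    show Additive.ofMul _ = Additive.ofMul (1 : ↥(XA M))
    congr 1
    exact Subtype.ext (map_one (cA (q.h.le hs)))
  map_add' a b := by
    show Additive.ofMul _ = Additive.ofMul _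
    congr 1
    exact Subtype.ext (map_mul (cA (q.h.le hs)) _ _)

theorem cX_val {s : G} (hs : s ∈ (S : Subgroup G)) (a : Additive ↥(XA M)) :
    (((cX q hs a).toMul : ↥(XA M)) : ↥(zc (o2 P))) = cA (q.h.le hs) (a.toMul : ↥(XA M)) := rfl

/-- the vectors of `V` -/
noncomputable def VX : @Submodule F (Additive ↥(XA M)) _ _ (xMod q) :=
  letI := xMod (M := M) q
  { carrier := {a | ((a.toMul : ↥(XA M)) : ↥(zc (o2 P))) ∈ VA S P}
    zero_mem' := one_mem (VA S P)
    add_mem' := fun {a b} ha hb => by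
      show ((a.toMul * b.toMul : ↥(XA M)) : ↥(zc (o2 P))) ∈ VA S P
      have ha' : ((a.toMul : ↥(XA M)) : ↥(zc (o2 P))) ∈ VA S P := ha
      have hb' : ((b.toMul : ↥(XA M)) : ↥(zc (o2 P))) ∈ VA S P := hb
      exact mul_mem ha' hb'
    smul_mem' := fun c a ha => by
      show ((sm q c a.toMul : ↥(XA M)) : ↥(zc (o2 P))) ∈ VA S P
      by_cases hc : c = 0
      · rw [hc, sm_zero]; exact one_mem _
      · rw [sm_val q hc]; exact rh_VA S M 0 _ ha }

/-- **`XA ≤ V`** -/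
theorem XA_le {a : ↥(zc (o2 P))} (ha : a ∈ XA M) : (a : G) ∈ zl (S : Subgroup G) P := by
  classical
  let _ := xMod (M := M) q
  let ι := ↥(sgHom S q.h M).range
  have hfinE : Finite (F ≃+* F) := Finite.of_injective (fun f : F ≃+* F => (f : F → F)) DFunLike.coe_injective
  have : Fintype ι := Fintype.ofFinite _
  choose s hs using fun i : ι => MonoidHom.mem_range.1 i.2
  have hsS : ∀ i, ((s i : ↥(S : Subgroup G)) : G) ∈ (S : Subgroup G) := fun i => (s i).2
  let ρ : ι → Additive ↥(XA M) →+ Additive ↥(XA M) := fun i => cX q (hsS i)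
  have hsemi : ∀ i, Semi M ((s i : ↥(S : Subgroup G)) : G) (i : F ≃+* F) := by
    intro i
    have h1 := sg_spec S q.h M (s i)
    have h2 : sg S q.h M (s i) = (i : F ≃+* F) := hs i
    rwa [h2] at h1
  have key := descent (F := F) (X := Additive ↥(XA M)) ρ (fun i => (i : F ≃+* F)) Subtype.val_injective (by
    intro i c x
    show cX q (hsS i) (Additive.ofMul (sm q c x.toMul)) = Additive.ofMul (sm q ((i : F ≃+* F) c) (cX q (hsS i) x).toMul)
    apply Additive.toMul.injective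
    apply Subtype.ext
    rw [cX_val]
    by_cases hc : c = 0
    · rw [hc, map_zero]
      show cA (q.h.le (hsS i)) ((sm q (0 : F) x.toMul : ↥(XA M)) : ↥(zc (o2 P))) =
        ((sm q (0 : F) (cX q (hsS i) x).toMul : ↥(XA M)) : ↥(zc (o2 P)))
      rw [sm_zero, sm_zero]
      exact map_one _
    · have hc' : (i : F ≃+* F) c ≠ 0 := by simpa using hc
      show cA (q.h.le (hsS i)) ((sm q c x.toMul : ↥(XA M)) : ↥(zc (o2 P))) =
        ((sm q ((i : F ≃+* F) c) (cX q (hsS i) x).toMul : ↥(XA M)) : ↥(zc (o2 P)))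
      rw [sm_val q hc, sm_val q hc', cX_val]
      exact XA_conj_dg q (hsS i) (hsemi i) (up_conj q x.toMul.2.1 (hsS i)) hc) (VX q) (by
    intro x
    -- the sum is fixed by `S`
    set y : ↥(zc (o2 P)) := (((∑ i, ρ i x).toMul : ↥(XA M)) : ↥(zc (o2 P))) with hy
    have hyp : y = ∏ i, cA (q.h.le (hsS i)) (x.toMul : ↥(XA M)) := by
      have h1 : y = (XA M).subtype (Additive.toMul (∑ i, ρ i x)) := rfl
      rw [h1, toMul_sum, map_prod]
      rfl
    have hfix : ∀ g (hg : g ∈ (S : Subgroup G)), cA (q.h.le hg) y = y := by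
      intro g hg
      let gi : ι := ⟨sgHom S q.h M ⟨g, hg⟩, ⟨⟨g, hg⟩, rfl⟩⟩
      rw [hyp, map_prod]
      refine Fintype.prod_equiv (Equiv.mulLeft gi) _ _ fun i => ?_
      apply Subtype.ext
      show g * (((s i : ↥(S : Subgroup G)) : G) * ((x.toMul : ↥(XA M)) : ↥(zc (o2 P))) * ((s i : ↥(S : Subgroup G)) : G)⁻¹) * g⁻¹ =
        ((s (gi * i) : ↥(S : Subgroup G)) : G) * ((x.toMul : ↥(XA M)) : ↥(zc (o2 P))) *
          ((s (gi * i) : ↥(S : Subgroup G)) : G)⁻¹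
      have h1 : (s (gi * i))⁻¹ * (⟨g, hg⟩ * s i) ∈ (sgHom S q.h M).ker := by
        rw [MonoidHom.mem_ker, map_mul, map_inv, map_mul, hs, hs]
        show ((gi * i : ι) : F ≃+* F)⁻¹ * ((gi : F ≃+* F) * (i : F ≃+* F)) = 1
        rw [show ((gi * i : ι) : F ≃+* F) = (gi : F ≃+* F) * (i : F ≃+* F) from rfl, inv_mul_cancel]
      rw [ker_sgHom q.hG S q.h M, mem_subgroupOf] at h1
      have h2 := XA_fix_SL q x.toMul.2 h1
      have h3 : ((((s (gi * i))⁻¹ * (⟨g, hg⟩ * s i) : ↥(S : Subgroup G)) : G)) =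
        ((s (gi * i) : ↥(S : Subgroup G)) : G)⁻¹ * (g * ((s i : ↥(S : Subgroup G)) : G)) := rfl
      rw [h3] at h2
      set u : G := ((s (gi * i) : ↥(S : Subgroup G)) : G) with hu
      set v : G := ((s i : ↥(S : Subgroup G)) : G) with hv
      set z : G := (((x.toMul : ↥(XA M)) : ↥(zc (o2 P))) : G) with hz
      calc g * (v * z * v⁻¹) * g⁻¹ = u * (u⁻¹ * (g * v) * z * (u⁻¹ * (g * v))⁻¹) * u⁻¹ := by group
        _ = u * z * u⁻¹ := by rw [h2]
    show y ∈ VA S P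
    rw [mem_VA]
    apply Cfsg.Agent.MinSimple.VModule.zc_le_zl
    rw [mem_zc]
    refine ⟨(q.h.isLoc.o2_le S) (zc_le _ y.2), fun g hg => ?_, zc_sq _ _ y.2⟩
    have h1 := congrArg Subtype.val (hfix g hg)
    rw [cA_val] at h1
    exact mul_inv_eq_iff_eq_mul.1 h1)
  have h1 := key 1 (Additive.ofMul ⟨a, ha⟩)
  have h2 : cA (q.h.le (hsS 1)) a ∈ VA S P := h1
  rw [mem_VA, cA_val] at h2
  have h3 := conj_mem_zl (inv_mem (q.h.le (hsS 1))) h2
  have e : ((s 1 : ↥(S : Subgroup G)) : G)⁻¹ * (((s 1 : ↥(S : Subgroup G)) : G) * (a : G) * ((s 1 : ↥(S : Subgroup G)) : G)⁻¹) *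
    ((s 1 : ↥(S : Subgroup G)) : G)⁻¹⁻¹ = a := by group
  rwa [e] at h3

/-! ### `R` and `w` -/

omit q in
theorem Al_dg_one_add {ω : F} (h0 : ω ≠ 0) (h1 : ω ≠ 1) : ω + 1 ≠ 0 := fun h => h1 (CharTwo.add_eq_zero.1 h)

/-- an additive element of `A` centralised by the torus is trivial -/
theorem eq_one_of_fix {a : ↥(zc (o2 P))} (ha : a ∈ XA M) (hf : ∀ (l : F) (hl : l ≠ 0), rh S M 0 (dg l hl) a = a) :
    a = 1 := by
  obtain ⟨ω, h0, h1⟩ := exists_omega q.hF
  have h2 := ha.2 ω 1 h0 one_ne_zero (Al_dg_one_add h0 h1)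
  rw [hf, hf, hf, A_sq] at h2
  exact h2

/-- `R ≤ XA` -/
theorem R_XA {a : ↥(zc (o2 P))} (ha : (a : G) ∈ Rt M) : a ∈ XA M := by
  have haV := R_le_V q ha
  refine ⟨fun c => ?_, fun l m hl hm hlm => ?_⟩
  · obtain ⟨t, ht, htc⟩ := M.unip fun _ => c
    apply Subtype.ext
    rw [rh_val q.hG S q.h q.hk M (Al_iff.2 ⟨q.h.le ht, htc⟩),
      Zp_comm q (R_le_Zp q ha) (mem_LS q.h.le ht htc), mul_inv_cancel_right]
  · have hx := lf_spec S M 0 (dg l hl)
    have hy := lf_spec S M 0 (dg m hm)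
    have hz := lf_spec S M 0 (dg (l + m) hlm)
    apply Subtype.ext
    show ((rh S M 0 (dg (l + m) hlm) a : ↥(zc (o2 P))) : G) =
      ((rh S M 0 (dg l hl) a : ↥(zc (o2 P))) : G) * ((rh S M 0 (dg m hm) a : ↥(zc (o2 P))) : G)
    rw [rh_val q.hG S q.h q.hk M hx, rh_val q.hG S q.h q.hk M hy, rh_val q.hG S q.h q.hk M hz]
    have hR : ∀ {t : F} {ht : t ≠ 0} {g : G}, Al M 0 g (dg t ht) → g * a * g⁻¹ ∈ Rt M := fun {t ht g} hg =>
      tri_norm_R q hg.1 (by simp) (Al_iff.1 hg).2 ha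
    have he : ∀ {t : F} {ht : t ≠ 0} {g : G}, Al M 0 g (dg t ht) → M.e (g * a * g⁻¹) 0 0 = t * M.e (a : G) 0 0 := by
      intro t ht g hg
      rw [hg.same haV, ap_zero']
      simp
    refine R_inj q (hR hz) (mul_mem (hR hx) (hR hy)) ?_
    rw [e_add (hx.V haV) (hy.V haV), he hx, he hy, he hz]
    ring

/-- `XA ≤ R` -/
theorem XA_R {a : ↥(zc (o2 P))} (ha : a ∈ XA M) : (a : G) ∈ Rt M := by
  have haV := XA_le q ha
  have hZ : (a : G) ∈ Zp M := by
    rw [Zp_eq q]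
    refine mem_inf.2 ⟨haV, mem_centralizer_iff.2 fun s hs => ?_⟩
    have h1 := XA_fix q ha (Al_iff.2 ⟨q.h.le hs.1, bet_LS q hs⟩)
    exact mul_inv_eq_iff_eq_mul.1 h1
  obtain ⟨r, hr, d, hd, had⟩ := exists_rd q hZ
  have hrA : r ∈ zc (o2 P) := zl_le_A q.hG S q.h (R_le_V q hr)
  have hdA : d ∈ zc (o2 P) := zl_le_A q.hG S q.h (cv_le _ _ hd)
  have hrX : (⟨r, hrA⟩ : ↥(zc (o2 P))) ∈ XA M := R_XA q hr
  have hdX : (⟨d, hdA⟩ : ↥(zc (o2 P))) ∈ XA M := by
    have e : (⟨d, hdA⟩ : ↥(zc (o2 P))) = (⟨r, hrA⟩ : ↥(zc (o2 P)))⁻¹ * a := by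
      apply Subtype.ext
      show d = r⁻¹ * (a : G)
      rw [had]; group
    rw [e]
    exact mul_mem (inv_mem hrX) ha
  have hd1 := eq_one_of_fix q hdX (fun l hl => by
    have hx := lf_spec S M 0 (dg l hl)
    apply Subtype.ext
    rw [rh_val q.hG S q.h q.hk M hx]
    show lf S M 0 (dg l hl) * d * (lf S M 0 (dg l hl))⁻¹ = d
    rw [hx.D hd, mul_inv_cancel_right])
  have hd2 : d = 1 := congrArg Subtype.val hd1
  rw [had, hd2, mul_one]
  exact hr

/-- an element of `N_G(O₂(P))` which commutes with `x` modulo `O₂(P)` commutes with `x` on `A` -/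
theorem comm_A {w x : G} (hw : w ∈ normalizer (o2 P : Set G)) (hx : x ∈ P) (hc : x * w * x⁻¹ * w⁻¹ ∈ o2 P) {a : G}
    (ha : a ∈ zc (o2 P)) : w * (x * a * x⁻¹) * w⁻¹ = x * (w * a * w⁻¹) * x⁻¹ := by
  have h1 : x * a * x⁻¹ ∈ zc (o2 P) := A_mem hx ha
  have h2 : w * (x * a * x⁻¹) * w⁻¹ ∈ zc (o2 P) :=
    (mem_normalizer_iff.1 (normalizer_le_normalizer_zc _ hw) _).1 h1
  have h3 := (mem_zc.1 h2).2.1 _ hc
  calc w * (x * a * x⁻¹) * w⁻¹ = (w * (x * a * x⁻¹) * w⁻¹) * (x * w * x⁻¹ * w⁻¹) * (x * w * x⁻¹ * w⁻¹)⁻¹ := by group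
    _ = (x * w * x⁻¹ * w⁻¹) * (w * (x * a * x⁻¹) * w⁻¹) * (x * w * x⁻¹ * w⁻¹)⁻¹ := by rw [h3]
    _ = _ := by group

/-- **a 2-element of `N_G(O₂(P))` which commutes with the lifts modulo `O₂(P)` centralises `Nc M 0`** -/
theorem cent_Nc_of_comm {w : G} (hw : w ∈ normalizer (o2 P : Set G)) {n : ℕ} (hw2 : w ^ 2 ^ n = 1)
    (hc : ∀ B : Matrix.SpecialLinearGroup (Fin 2) F, ∃ x, Al M 0 x B ∧ x * w * x⁻¹ * w⁻¹ ∈ o2 P) :
    w ∈ centralizer (Nc M 0 : Set G) := by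
  have hwA : ∀ {a : G}, a ∈ zc (o2 P) → w * a * w⁻¹ ∈ zc (o2 P) := fun {a} ha =>
    (mem_normalizer_iff.1 (normalizer_le_normalizer_zc _ hw) _).1 ha
  -- `w` commutes with all lifts on `A`
  have hcomm : ∀ {B : Matrix.SpecialLinearGroup (Fin 2) F} {y : G}, Al M 0 y B → ∀ {a : G}, a ∈ zc (o2 P) →
      w * (y * a * y⁻¹) * w⁻¹ = y * (w * a * w⁻¹) * y⁻¹ := by
    intro B y hy a ha
    obtain ⟨x, hx, hxc⟩ := hc B
    rw [Al.eq_A q.hG S q.h q.hk hy hx ha, comm_A q hw hx.1 hxc ha, Al.eq_A q.hG S q.h q.hk hy hx (hwA ha)]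
  -- `w R w⁻¹ ≤ R`
  have hR : ∀ r ∈ Rt M, w * r * w⁻¹ ∈ Rt M := by
    intro r hr
    have hrA : r ∈ zc (o2 P) := zl_le_A q.hG S q.h (R_le_V q hr)
    have hrX : (⟨r, hrA⟩ : ↥(zc (o2 P))) ∈ XA M := R_XA q hr
    have hval : ∀ B : Matrix.SpecialLinearGroup (Fin 2) F,
        ((rh S M 0 B ⟨w * r * w⁻¹, hwA hrA⟩ : ↥(zc (o2 P))) : G) =
          w * ((rh S M 0 B ⟨r, hrA⟩ : ↥(zc (o2 P))) : G) * w⁻¹ := by
      intro B
      have hx := lf_spec S M 0 B
      rw [rh_val q.hG S q.h q.hk M hx, rh_val q.hG S q.h q.hk M hx]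
      exact (hcomm hx hrA).symm
    refine XA_R q (a := ⟨w * r * w⁻¹, hwA hrA⟩) ⟨fun c => ?_, fun l m hl hm hlm => ?_⟩
    · apply Subtype.ext
      rw [hval, hrX.1 c]
    · apply Subtype.ext
      rw [hval, hrX.2 l m hl hm hlm]
      show w * (((rh S M 0 (dg l hl) ⟨r, hrA⟩ : ↥(zc (o2 P))) : G) * ((rh S M 0 (dg m hm) ⟨r, hrA⟩ : ↥(zc (o2 P))) : G)) * w⁻¹ =
        ((rh S M 0 (dg l hl) ⟨w * r * w⁻¹, hwA hrA⟩ : ↥(zc (o2 P))) : G) *
          ((rh S M 0 (dg m hm) ⟨w * r * w⁻¹, hwA hrA⟩ : ↥(zc (o2 P))) : G)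
      rw [hval, hval]
      group
  -- the coordinate
  obtain ⟨r1, hr1, he1⟩ := exists_R (M := M) q 1
  set μ : F := M.e (w * r1 * w⁻¹) 0 0 with hμ
  have hcoord : ∀ r ∈ Rt M, M.e (w * r * w⁻¹) 0 0 = M.e r 0 0 * μ := by
    intro r hr
    by_cases h0 : M.e r 0 0 = 0
    · have h1 := R_eq_one q hr h0
      rw [h1, mul_one, mul_inv_cancel, e_one M]
      simp
    · obtain ⟨y, hy⟩ := exists_Al M 0 (dg (M.e r 0 0) h0)
      have hr1V := R_le_V q hr1
      have h1 : y * r1 * y⁻¹ = r := by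
        refine R_inj q (tri_norm_R q hy.1 (by simp) (Al_iff.1 hy).2 hr1) hr ?_
        rw [hy.same hr1V, ap_zero', he1]
        simp
      have h2 := hcomm hy (zl_le_A q.hG S q.h hr1V)
      rw [h1] at h2
      rw [h2, hy.same (R_le_V q (hR _ hr1)), ap_zero']
      simp [hμ]
  have hpow : ∀ m : ℕ, ∀ r ∈ Rt M, w ^ m * r * (w ^ m)⁻¹ ∈ Rt M ∧ M.e (w ^ m * r * (w ^ m)⁻¹) 0 0 = M.e r 0 0 * μ ^ m := by
    intro m
    induction m with
    | zero => intro r hr; simpa using hr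
    | succ m ih =>
      intro r hr
      obtain ⟨h1, h2⟩ := ih r hr
      have e : w ^ (m + 1) * r * (w ^ (m + 1))⁻¹ = w * (w ^ m * r * (w ^ m)⁻¹) * w⁻¹ := by
        rw [pow_succ']; group
      rw [e]
      refine ⟨hR _ h1, ?_⟩
      rw [hcoord _ h1, h2, pow_succ]
      ring
  have hμ1 : μ = 1 := by
    have h1 := (hpow (2 ^ n) r1 hr1).2
    rw [hw2, one_mul, inv_one, mul_one, he1, one_mul] at h1
    have h4 : (μ - 1) ^ 2 ^ n = 0 := by rw [sub_pow_char_pow, one_pow, ← h1, sub_self]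
    exact sub_eq_zero.1 (pow_eq_zero_iff (by positivity) |>.1 h4)
  have hwR : ∀ r ∈ Rt M, w * r * w⁻¹ = r := by
    intro r hr
    refine R_inj q (hR r hr) hr ?_
    rw [hcoord r hr, hμ1, mul_one]
  -- `Nc`
  rw [mem_centralizer_iff]
  intro v hv
  have key : w * v * w⁻¹ = v := by
    induction hv using closure_induction with
    | mem v hv =>
      obtain ⟨y, hy, v, hv, rfl⟩ := hv
      obtain ⟨B, hB⟩ := exists_of_Fc hy
      by_cases h0 : M.e v 0 = 0
      · rw [fix_ker q.hG S q.h q.hk q.hF hB hv h0]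
        group
      · obtain ⟨C, hC⟩ := NatPair.exists_ap (x := ![(1 : F), 0]) (y := M.e v 0) (by
          intro h
          have := congrFun h 0
          simp at this) h0
        obtain ⟨g, hg⟩ := exists_Al M 0 C
        have hr1V := R_le_V q hr1
        have hr1A := zl_le_A q.hG S q.h hr1V
        have h1 : M.e v 0 = M.e (g * r1 * g⁻¹) 0 := by
          rw [hg.same hr1V, ← hC]
          congr 1
          exact (ext2 he1 (R_le_Zp q hr1).2).symm
        have h2 := comm_eq q.hG S q.h q.hk q.hF hB hv (hg.V hr1V) h1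
        have h3 : w * (g * r1 * g⁻¹) * w⁻¹ = g * r1 * g⁻¹ := by rw [hcomm hg hr1A, hwR _ hr1]
        have h4 : w * (y * (g * r1 * g⁻¹) * y⁻¹) * w⁻¹ = y * (g * r1 * g⁻¹) * y⁻¹ := by
          rw [hcomm hB (A_mem hg.1 hr1A), h3]
        rw [h2]
        calc w * (y * (g * r1 * g⁻¹) * y⁻¹ * (g * r1 * g⁻¹)⁻¹) * w⁻¹
            = (w * (y * (g * r1 * g⁻¹) * y⁻¹) * w⁻¹) * (w * (g * r1 * g⁻¹) * w⁻¹)⁻¹ := by group
          _ = _ := by rw [h4, h3]
    | one => group
    | mul a b _ _ ha hb =>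
      calc w * (a * b) * w⁻¹ = (w * a * w⁻¹) * (w * b * w⁻¹) := by group
        _ = a * b := by rw [ha, hb]
    | inv a _ ha =>
      calc w * a⁻¹ * w⁻¹ = (w * a * w⁻¹)⁻¹ := by group
        _ = a⁻¹ := by rw [ha]
  exact (mul_inv_eq_iff_eq_mul.1 key).symm

end X

end Cfsg.Agent.Omega.NOThreeL.RF.GD

end

section


/-!
# NO-3L, `R ∩ (A)`, field automorphisms (NsF): (GD) of #21360 (helper71)

`q : Sit F S P 1`, `M : NatK F S P (zl S P) (cv S P) 1` (`4 ≤ |F|`, `P` acts on `V / D` as a group between `SL₂(F)` and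
`ΓL₂(F)`, split or nonsplit), `PL M` = the elements of `P` acting as elements of `SL₂(F)` (trivially on `D`).

* **`le_o2_of_norm`** : a 2-subgroup `W` of `G` normalised by `PL M` is contained in `O₂(P)`;
* **`gd`** : `1 ≠ x ∈ D` ⟹ `O₂(C(x)) ≤ O₂(P)`, `V ≤ O₂(C(x))`, `V` centralises `O₂(C(x))`;
  `gd'` : the same for `C(X)`, `1 ≠ X ≤ D`.
-/

set_option autoImplicit false
set_option linter.unusedSectionVars false
set_option linter.unusedVariables false

namespace Cfsg.Agent.Omega.NOThreeL.RF.GD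

open Subgroup Cfsg Cfsg.Agent.Omega.MinPar
open Cfsg.Agent.ZN (zc zl o2 normalizer_le_normalizer_o2)
open Cfsg.Agent.ZN.ChoiceBase (cj card_cj)
open Cfsg.Agent.Omega.FrameFF Cfsg.Agent.Omega.FFThm Cfsg.Agent.Lib.SL2Mat
open Cfsg.Agent.Omega.NatPair (ap ap_add ap_mul ap_one ap_inj ext2 ap_zero' ap_one' ap_inv_ap ap_ap_inv)
open Cfsg.Agent.Omega.HOne (cv_le conj_mem_zl conj_mem_cv)
open Cfsg.Agent.Omega.IId.Cv Cfsg.Agent.Omega.IId.Ns
open Cfsg.Agent.Omega.IId.ThmCQ.Nsp (Sit LS PL PL_le LS_le LS_isPGroup mem_LS exists_b S_le_normalizer_LS o2_le_LS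
  exists_norm)
open Cfsg.Agent.MinSimple.VModule (zc_comm zc_sq zc_le mem_zc le_normalizer_o2 normalizer_le_normalizer_zc zc_le_zl
  o2_isPGroup o2_le)

universe u

variable {G : Type u} [Group G] [Finite G] {F : Type} [Field F] [Finite F] [CharP F 2] {S : Sylow 2 G}
  {P : Subgroup G} {M : NatK F (S : Subgroup G) P (zl (S : Subgroup G) P) (cv (S : Subgroup G) P) 1}

section basic

theorem conj_mem {H : Subgroup G} {g x : G} (hg : g ∈ normalizer (H : Set G)) (hx : x ∈ H) : g * x * g⁻¹ ∈ H :=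
  (mem_normalizer_iff.1 hg x).1 hx

theorem conj_mem' {H : Subgroup G} {g x : G} (hg : g ∈ normalizer (H : Set G)) (hx : x ∈ H) : g⁻¹ * x * g ∈ H := by
  have := conj_mem (inv_mem hg) hx
  rwa [inv_inv] at this

theorem conj_cent {V : Subgroup G} {g w : G} (hg : g ∈ normalizer (V : Set G)) (hw : w ∈ centralizer (V : Set G)) :
    g * w * g⁻¹ ∈ centralizer (V : Set G) := by
  rw [mem_centralizer_iff] at hw ⊢
  intro v hv
  have h1 := hw _ (conj_mem' hg hv)
  calc v * (g * w * g⁻¹) = g * (g⁻¹ * v * g * w) * g⁻¹ := by group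
    _ = g * (w * (g⁻¹ * v * g)) * g⁻¹ := by rw [h1]
    _ = _ := by group

variable (q : Sit F S P 1)
include q

theorem P_norm : P ≤ normalizer (o2 P : Set G) := le_normalizer_o2 P

/-- a 2-element of `P` centralising `V` is in `O₂(P)` -/
theorem mem_o2_of_cent {w : G} (hw : w ∈ P) (h2 : ∃ n : ℕ, w ^ 2 ^ n = 1)
    (hc : w ∈ centralizer (zl (S : Subgroup G) P : Set G)) : w ∈ o2 P := by
  obtain ⟨n, hn⟩ := h2
  have hz : IsPGroup 2 (zpowers w) := by
    rintro ⟨x, j, rfl⟩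
    refine ⟨n, Subtype.ext ?_⟩
    change (w ^ j) ^ 2 ^ n = 1
    rw [← zpow_natCast, ← zpow_mul, mul_comm, zpow_mul, zpow_natCast, hn, one_zpow]
  obtain ⟨p, hp, h1⟩ := FFThm.exists_conj_le S q.h.le hz (zpowers_le.2 hw)
  have h2 : p * w * p⁻¹ ∈ (S : Subgroup G) := h1 ⟨w, mem_zpowers w, rfl⟩
  have h4 : p * w * p⁻¹ ∈ o2 P := by
    rw [← q.h.inf_centralizer S q.hG]
    exact mem_inf.2 ⟨h2, conj_cent (P_norm_V q hp) hc⟩
  exact (mem_normalizer_iff.1 (P_norm q hp) w).2 h4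

/-- an element of `S₀` acting trivially is in `O₂(P)` -/
theorem mem_o2_of_bet {s : G} (hs : s ∈ LS M) (h0 : bet M s = 0) : s ∈ o2 P := by
  rw [← q.h.inf_centralizer S q.hG]
  exact mem_inf.2 ⟨hs.1, (bet_eq_zero q hs).1 h0⟩

theorem bet_inv {s : G} (hs : s ∈ LS M) : bet M s⁻¹ = bet M s := by
  have h1 := bet_mul q hs (inv_mem hs)
  rw [mul_inv_cancel, bet_one q] at h1
  exact (CharTwo.add_eq_zero.1 h1.symm).symm

/-- two elements of `S₀` acting in the same way differ by an element of `O₂(P)` -/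
theorem mem_o2_of_bet_eq {s t : G} (hs : s ∈ LS M) (ht : t ∈ LS M) (h : bet M s = bet M t) : s⁻¹ * t ∈ o2 P := by
  refine mem_o2_of_bet (M := M) q (mul_mem (inv_mem hs) ht) ?_
  rw [bet_mul q (inv_mem hs) ht, bet_inv q hs, h, two_eq]

/-- a 2-subgroup of `P` normalised by the lifts is in `O₂(P)` -/
theorem inf_le_o2 {K : Subgroup G} (hK : IsPGroup 2 K) (hKP : K ≤ P) (hPK : PL M ≤ normalizer (K : Set G)) :
    K ≤ o2 P := by
  intro w hw
  have h1 := triv_of_norm S (M := M) hK hKP (i := 0) (fun w hw => Mv0 q (hKP hw)) (fun B => by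
    obtain ⟨x, hx⟩ := exists_Al M 0 B
    exact ⟨x, hx, fun w hw => conj_mem' (hPK ⟨hx.1, _, hx.2⟩) hw⟩) w hw
  obtain ⟨n, hn⟩ := hK ⟨w, hw⟩
  have hn' : w ^ 2 ^ n = 1 := congrArg Subtype.val hn
  have h2 := comm_of_quot_two q.hG S q.h M q.hk (u := w) ⟨hKP hw, fun v hv => e_ext (h1 v hv)⟩ ⟨n, hn'⟩
  exact mem_o2_of_cent q (hKP hw) ⟨n, hn'⟩ (mem_centralizer_iff.2 fun v hv => (h2 v hv).symm)

omit q in
theorem exists_sqrt (x : F) : ∃ t : F, t ^ 2 = x := by
  have : Fact (Nat.Prime 2) := ⟨Nat.prime_two⟩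
  obtain ⟨t, ht⟩ := Finite.surjective_of_injective (frobenius_inj F 2) x
  exact ⟨t, ht⟩

end basic

/-! ### The action on `W₁ O₂(P) / O₂(P)` -/

section one

/-- `[s, W₁] ≤ O₂(P)` -/
def Tr (P W₁ : Subgroup G) (s : G) : Prop := ∀ w ∈ W₁, w⁻¹ * (s * w * s⁻¹) ∈ o2 P

variable {W₁ : Subgroup G}

theorem Tr.mul {s t : G} (hs : Tr P W₁ s) (ht : Tr P W₁ t) (hsP : s ∈ P) : Tr P W₁ (s * t) := by
  intro w hw
  have h1 := conj_mem (le_normalizer_o2 P hsP) (ht w hw)
  have e : w⁻¹ * (s * t * w * (s * t)⁻¹) = w⁻¹ * (s * w * s⁻¹) * (s * (w⁻¹ * (t * w * t⁻¹)) * s⁻¹) := by group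
  rw [e]
  exact mul_mem (hs w hw) h1

theorem Tr.of_o2 (hW : W₁ ≤ normalizer (o2 P : Set G)) {z : G} (hz : z ∈ o2 P) : Tr P W₁ z := by
  intro w hw
  have e : w⁻¹ * (z * w * z⁻¹) = w⁻¹ * z * w * z⁻¹ := by group
  rw [e]
  exact mul_mem (conj_mem' (hW hw) hz) (inv_mem hz)

theorem Tr.conj {s g : G} (hs : Tr P W₁ s) (hg : g ∈ P) (hgW : g ∈ normalizer (W₁ : Set G)) :
    Tr P W₁ (g * s * g⁻¹) := by
  intro w hw
  have h1 := conj_mem (le_normalizer_o2 P hg) (hs _ (conj_mem' hgW hw))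
  have e : w⁻¹ * (g * s * g⁻¹ * w * (g * s * g⁻¹)⁻¹) =
      g * ((g⁻¹ * w * g)⁻¹ * (s * (g⁻¹ * w * g) * s⁻¹)) * g⁻¹ := by group
  rw [e]
  exact h1

variable (q : Sit F S P 1) (h2 : IsPGroup 2 W₁) (hN : W₁ ≤ normalizer (o2 P : Set G))
  (hPW : PL M ≤ normalizer (W₁ : Set G))
include q h2 hN hPW

/-- `|W₁ : W₁ ∩ O₂(P)| ≤ |S : S₀|` -/
theorem relIndex_le (hWP : W₁ ⊓ P ≤ o2 P) : (o2 P).relIndex W₁ ≤ (LS M).relIndex (S : Subgroup G) := by
  have hLW : LS M ≤ normalizer (W₁ : Set G) := inf_le_right.trans hPW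
  have hT : IsPGroup 2 (W₁ ⊔ LS M : Subgroup G) := IsPGroup.to_sup_of_normal_left' h2 LS_isPGroup hLW
  have hTN : W₁ ⊔ LS M ≤ normalizer (o2 P : Set G) :=
    sup_le hN ((LS_le (M := M)).trans (q.h.le.trans (le_normalizer_o2 P)))
  obtain ⟨n, -, hn⟩ := FFThm.exists_conj_le S (q.h.le.trans (le_normalizer_o2 P)) hT hTN
  have h3 : Nat.card (W₁ ⊔ LS M : Subgroup G) ≤ Nat.card (S : Subgroup G) := by
    rw [← card_cj n]
    exact Nat.card_le_card_of_injective _ (inclusion_injective hn)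
  have h4 : W₁ ⊓ LS M = o2 P ⊓ W₁ := by
    apply le_antisymm
    · exact le_inf ((inf_le_inf_left _ ((LS_le (M := M)).trans q.h.le)).trans hWP) inf_le_left
    · exact le_inf inf_le_right (inf_le_left.trans (o2_le_LS q))
  have h5 := Lib.ProductSet.card_mul_card_inf W₁ (LS M)
  rw [← coe_mul_of_right_le_normalizer_left _ _ hLW, h4] at h5
  have h6 : Nat.card ↥(o2 P ⊓ W₁) * (o2 P).relIndex W₁ = Nat.card W₁ := by
    rw [← inf_relIndex_right, relIndex, ← Nat.card_congr (subgroupOfEquivOfLe (inf_le_right : o2 P ⊓ W₁ ≤ W₁)).toEquiv]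
    exact card_mul_index _
  have h7 : Nat.card (LS M) * (LS M).relIndex (S : Subgroup G) = Nat.card (S : Subgroup G) := by
    rw [relIndex, ← Nat.card_congr (subgroupOfEquivOfLe (LS_le (M := M))).toEquiv]
    exact card_mul_index _
  have hp1 : 0 < Nat.card ↥(o2 P ⊓ W₁) := Nat.card_pos
  have hp2 : 0 < Nat.card (LS M) := Nat.card_pos
  have h8 : Nat.card (W₁ ⊔ LS M : Subgroup G) * Nat.card ↥(o2 P ⊓ W₁) = Nat.card W₁ * Nat.card (LS M) := h5
  rw [← h6] at h8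
  have h9 : Nat.card ↥(o2 P ⊓ W₁) * Nat.card (LS M) * (o2 P).relIndex W₁ ≤
      Nat.card ↥(o2 P ⊓ W₁) * Nat.card (LS M) * (LS M).relIndex (S : Subgroup G) := by
    calc Nat.card ↥(o2 P ⊓ W₁) * Nat.card (LS M) * (o2 P).relIndex W₁
        = Nat.card (W₁ ⊔ LS M : Subgroup G) * Nat.card ↥(o2 P ⊓ W₁) := by rw [h8]; ring
      _ ≤ Nat.card (S : Subgroup G) * Nat.card ↥(o2 P ⊓ W₁) := Nat.mul_le_mul_right _ h3
      _ = _ := by rw [← h7]; ring
  exact Nat.le_of_mul_le_mul_left h9 (Nat.mul_pos hp1 hp2)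

/-- **`[S₀, W₁] ≤ O₂(P)`** -/
theorem tr_LS (hWP : W₁ ⊓ P ≤ o2 P) {s : G} (hs : s ∈ LS M) : Tr P W₁ s := by
  by_contra hcon
  have hLW : LS M ≤ normalizer (W₁ : Set G) := inf_le_right.trans hPW
  -- `Tr` is trivial on `S₀`
  have hfaith : ∀ t ∈ LS M, Tr P W₁ t → bet M t = 0 := by
    intro t ht htT
    by_contra hb
    apply hcon
    by_cases hs0 : bet M s = 0
    · exact Tr.of_o2 hN (mem_o2_of_bet q hs hs0)
    obtain ⟨l, hl⟩ := exists_sqrt (bet M s / bet M t)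
    have hl0 : l ≠ 0 := by
      rintro rfl
      rw [zero_pow two_ne_zero] at hl
      exact (div_ne_zero hs0 hb) hl.symm
    obtain ⟨x, hxP, hxN, hx⟩ := tor (M := M) q hl0
    have htP := q.h.le ht.1
    have h4 := IId.Ns.acts_mul M (mul_mem hxP htP) (inv_mem hxP) (IId.Ns.acts_mul M hxP htP hx (bet_LS q ht))
      (IId.Ns.acts_inv M hxP hx)
    rw [show (fun _ : Fin 1 => dg l hl0 * up (bet M t) * (dg l hl0)⁻¹) = fun _ => up (l ^ 2 * bet M t) from
      funext fun _ => by rw [dg_up, mul_inv_cancel_right]] at h4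
    have h5 : x * t * x⁻¹ ∈ LS M := conj_mem hxN ht
    have h6 : bet M (x * t * x⁻¹) = bet M s := by
      rw [bet_eq h4, hl, div_mul_cancel₀ _ hb]
    have h7 := mem_o2_of_bet_eq q h5 hs h6
    have h8 : Tr P W₁ (x * t * x⁻¹) := htT.conj hxP (hPW ⟨hxP, _, hx⟩)
    have h9 := h8.mul (Tr.of_o2 hN h7) (q.h.le h5.1)
    rwa [mul_inv_cancel_left] at h9
  -- the action
  choose sb hsb hbet using bet_surj (M := M) q
  let Ω := ↥W₁ ⧸ (o2 P).subgroupOf W₁
  have hmk : ∀ a b : ↥W₁, (QuotientGroup.mk a : Ω) = QuotientGroup.mk b ↔ (a : G)⁻¹ * b ∈ o2 P := by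
    intro a b
    rw [QuotientGroup.eq, mem_subgroupOf]
    rfl
  let fm : F → ↥W₁ → ↥W₁ := fun b w => ⟨sb b * w * (sb b)⁻¹, conj_mem (hLW (hsb b)) w.2⟩
  let f : F → Ω → Ω := fun b => Quotient.map' (fm b) (by
    intro a a' haa
    rw [QuotientGroup.leftRel_apply, mem_subgroupOf] at haa ⊢
    show (sb b * (a : G) * (sb b)⁻¹)⁻¹ * (sb b * (a' : G) * (sb b)⁻¹) ∈ o2 P
    have h1 := conj_mem (le_normalizer_o2 P (q.h.le (hsb b).1)) haa
    have e : (sb b * (a : G) * (sb b)⁻¹)⁻¹ * (sb b * (a' : G) * (sb b)⁻¹) = sb b * ((a : G)⁻¹ * a') * (sb b)⁻¹ := by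
      group
    rw [e]
    exact h1)
  have hf : ∀ b w, f b (QuotientGroup.mk w) = QuotientGroup.mk (fm b w) := fun b w => rfl
  let act : MulAction (Multiplicative F) Ω :=
    { smul := fun b => f b.toAdd
      one_smul := by
        intro ω
        obtain ⟨w, rfl⟩ := QuotientGroup.mk_surjective ω
        show f 0 _ = _
        rw [hf, eq_comm, hmk]
        exact Tr.of_o2 hN (mem_o2_of_bet q (hsb 0) (hbet 0)) w w.2
      mul_smul := by
        intro a b ω
        obtain ⟨w, rfl⟩ := QuotientGroup.mk_surjective ω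
        show f (a.toAdd + b.toAdd) _ = f a.toAdd (f b.toAdd _)
        rw [hf, hf, hf, hmk]
        set x := a.toAdd
        set y := b.toAdd
        show (sb (x + y) * (w : G) * (sb (x + y))⁻¹)⁻¹ * (sb x * (sb y * (w : G) * (sb y)⁻¹) * (sb x)⁻¹) ∈ o2 P
        have h1 : (sb (x + y))⁻¹ * (sb x * sb y) ∈ o2 P := by
          refine mem_o2_of_bet_eq q (hsb _) (mul_mem (hsb _) (hsb _)) ?_
          rw [bet_mul q (hsb _) (hsb _), hbet, hbet, hbet]
        have h3 := conj_mem (le_normalizer_o2 P (q.h.le (hsb (x + y)).1)) (Tr.of_o2 hN h1 w w.2)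
        have e : (sb (x + y) * (w : G) * (sb (x + y))⁻¹)⁻¹ * (sb x * (sb y * (w : G) * (sb y)⁻¹) * (sb x)⁻¹) =
            sb (x + y) * ((w : G)⁻¹ * ((sb (x + y))⁻¹ * (sb x * sb y) * w * ((sb (x + y))⁻¹ * (sb x * sb y))⁻¹)) *
              (sb (x + y))⁻¹ := by group
        rw [e]
        exact h3 }
  have : Nonempty Ω := ⟨QuotientGroup.mk 1⟩
  have h3 := card_lt_two_pow (E := Multiplicative F) (Ω := Ω) (by
    intro e he
    have h4 : Tr P W₁ (sb e.toAdd) := by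
      intro w hw
      have h5 : f e.toAdd (QuotientGroup.mk ⟨w, hw⟩) = QuotientGroup.mk ⟨w, hw⟩ := he _
      rw [hf, eq_comm, hmk] at h5
      exact h5
    have h5 := hfaith _ (hsb _) h4
    rw [hbet] at h5
    exact congrArg Multiplicative.ofAdd h5)
  have h4 : Nat.card Ω = (o2 P).relIndex W₁ := rfl
  have h5 : Nat.card (Multiplicative F) = Nat.card F := Nat.card_congr Multiplicative.toAdd
  have h6 := relIndex_le q h2 hN hPW hWP
  have h7 : SL M = LS M := by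
    ext s
    constructor
    · rintro ⟨hsS, b, hb⟩
      exact mem_LS q.h.le hsS hb.2
    · intro hs
      exact ⟨hs.1, bet M s, Al_iff.2 ⟨q.h.le hs.1, bet_LS q hs⟩⟩
  have h8 := two_pow_relIndex_SL_le q.hG S q.h M
  rw [h7] at h8
  rw [h4, h5] at h3
  exact absurd (h3.trans_le (Nat.pow_le_pow_right (by norm_num) h6)) (not_lt.2 h8)

/-- all lifts -/
theorem exists_tr (hWP : W₁ ⊓ P ≤ o2 P) (B : Matrix.SpecialLinearGroup (Fin 2) F) :
    ∃ x, Al M 0 x B ∧ Tr P W₁ x := by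
  have hup : ∀ c : F, ∃ x, Al M 0 x (up c) ∧ Tr P W₁ x := by
    intro c
    obtain ⟨t, ht, htc⟩ := M.unip fun _ => c
    exact ⟨t, Al_iff.2 ⟨q.h.le ht, htc⟩, tr_LS q h2 hN hPW hWP (mem_LS q.h.le ht htc)⟩
  have hlo : ∀ c : F, ∃ x, Al M 0 x (lo c) ∧ Tr P W₁ x := by
    intro c
    obtain ⟨x, hx, hxT⟩ := hup (-c)
    obtain ⟨n, hn⟩ := exists_Al M 0 (wm (1 : F) one_ne_zero)
    refine ⟨n * x * n⁻¹, ((hn.mul hx).mul hn.inv).of_eq ?_, hxT.conj hn.1 (hPW ⟨hn.1, _, hn.2⟩)⟩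
    rw [wm_up, mul_inv_cancel_right]
    congr 1
    ring
  have hmul : ∀ A C : Matrix.SpecialLinearGroup (Fin 2) F, (∃ x, Al M 0 x A ∧ Tr P W₁ x) →
      (∃ x, Al M 0 x C ∧ Tr P W₁ x) → ∃ x, Al M 0 x (A * C) ∧ Tr P W₁ x := by
    rintro A C ⟨x, hx, hxT⟩ ⟨y, hy, hyT⟩
    exact ⟨x * y, hx.mul hy, hxT.mul hyT hx.1⟩
  obtain ⟨a, b, c, d, rfl⟩ := exists_up_lo B
  exact hmul _ _ (hmul _ _ (hmul _ _ (hup a) (hlo b)) (hup c)) (hlo d)

/-- **`W₁ ≤ O₂(P)`** -/
theorem le_o2_one (hWP : W₁ ⊓ P ≤ o2 P) : W₁ ≤ o2 P := by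
  have hcent : W₁ ≤ centralizer (Nc M 0 : Set G) := by
    intro w hw
    obtain ⟨n, hn⟩ := h2 ⟨w, hw⟩
    refine cent_Nc_of_comm q (hN hw) (n := n) (congrArg Subtype.val hn) fun B => ?_
    obtain ⟨x, hx, hxT⟩ := exists_tr q h2 hN hPW hWP B
    refine ⟨x, hx, ?_⟩
    have h3 := conj_mem (hN hw) (hxT w hw)
    have e : w * (w⁻¹ * (x * w * x⁻¹)) * w⁻¹ = x * w * x⁻¹ * w⁻¹ := by group
    rwa [e] at h3
  have hNV : Nc M 0 ≤ zl (S : Subgroup G) P := Nc_le_zl 0
  have hQc : o2 P ≤ centralizer (Nc M 0 : Set G) := by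
    have h3 : o2 P ≤ centralizer (zl (S : Subgroup G) P : Set G) := by
      rw [← q.h.inf_centralizer S q.hG]
      exact inf_le_right
    exact h3.trans (centralizer_le hNV)
  have hSN : (S : Subgroup G) ≤ normalizer (Nc M 0 : Set G) :=
    le_normalizer_of fun s hs n hn => Nc_norm (q.h.le hs) (Mv0 q (q.h.le hs)) hn
  have hSc : (S : Subgroup G) ⊓ centralizer (Nc M 0 : Set G) ≤ o2 P := by
    rintro s ⟨hs, hsc⟩
    have hsP := q.h.le hs
    have h3 : s ∈ kern M := by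
      refine ⟨hsP, fun v hv => ?_⟩
      obtain ⟨n, hn, he⟩ := Sd.Nc_surj M 0 (M.e v 0)
      have hnV := hNV hn
      have h4 : M.e v = M.e n := e_ext he.symm
      rw [e_conj_congr M hsP hv hnV h4, ← mem_centralizer_iff.1 hsc n hn, mul_inv_cancel_right, h4]
    have h4 := comm_of_quot q.hG S q.h M q.hk hs h3
    rw [← q.h.inf_centralizer S q.hG]
    exact mem_inf.2 ⟨hs, mem_centralizer_iff.2 fun v hv => (h4 v hv).symm⟩
  have hK : IsPGroup 2 (o2 P ⊔ W₁ : Subgroup G) := IsPGroup.to_sup_of_normal_left' (o2_isPGroup P) h2 hN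
  have hKc : o2 P ⊔ W₁ ≤ centralizer (Nc M 0 : Set G) := sup_le hQc hcent
  obtain ⟨n, hn, hnS⟩ := FFThm.exists_conj_le S hSN hK (hKc.trans (centralizer_le_normalizer _))
  have h3 : cj n (o2 P ⊔ W₁) ≤ o2 P := by
    refine le_trans (le_inf hnS ?_) hSc
    rintro _ ⟨k, hk, rfl⟩
    exact conj_cent hn (hKc hk)
  have h4 : o2 P = o2 P ⊔ W₁ := by
    refine eq_of_le_of_card_ge le_sup_left ?_
    rw [← card_cj n (o2 P ⊔ W₁)]
    exact Nat.card_le_card_of_injective _ (inclusion_injective h3)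
  rw [h4]
  exact le_sup_right

end one

/-! ### The theorem -/

section main

variable (q : Sit F S P 1)
include q

/-- **A 2-subgroup of `G` normalised by `PL M` is contained in `O₂(P)`.** -/
theorem le_o2_of_norm {W : Subgroup G} (h2 : IsPGroup 2 W) (hPW : PL M ≤ normalizer (W : Set G)) : W ≤ o2 P := by
  -- `W₁`
  set W₁ : Subgroup G := W ⊓ normalizer (o2 P : Set G) with hW₁
  have hPL : PL M ≤ normalizer (normalizer (o2 P : Set G) : Set G) :=
    PL_le.trans ((le_normalizer_o2 P).trans le_normalizer)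
  have hPW₁ : PL M ≤ normalizer (W₁ : Set G) := by
    refine le_normalizer_of fun g hg w hw => mem_inf.2 ⟨conj_mem (hPW hg) hw.1, conj_mem (hPL hg) hw.2⟩
  have hWP : W ⊓ P ≤ o2 P := by
    refine inf_le_o2 (M := M) q (h2.to_le inf_le_left) inf_le_right ?_
    exact le_normalizer_of fun g hg w hw => mem_inf.2
      ⟨conj_mem (hPW hg) hw.1, mul_mem (mul_mem (PL_le hg) hw.2) (inv_mem (PL_le hg))⟩
  have h1 : W₁ ≤ o2 P := le_o2_one (M := M) q (h2.to_le inf_le_left) inf_le_right hPW₁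
    ((inf_le_inf_right _ inf_le_left).trans hWP)
  -- growth of normalisers
  by_contra hcon
  have hQW : o2 P ≤ normalizer (W : Set G) := (o2_le_LS (M := M) q).trans (inf_le_right.trans hPW)
  have hT : IsPGroup 2 (W ⊔ o2 P : Subgroup G) := IsPGroup.to_sup_of_normal_left' h2 (o2_isPGroup P) hQW
  have hlt : o2 P < W ⊔ o2 P := by
    refine lt_of_le_of_ne le_sup_right fun h => hcon ?_
    rw [h]
    exact le_sup_left
  obtain ⟨t, ⟨htT, htN⟩, htQ⟩ := SetLike.exists_of_lt (Lib.GoldschmidtFusion.lt_inf_normalizer hT hlt)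
  have h3 : t ∈ ((W ⊔ o2 P : Subgroup G) : Set G) := htT
  rw [coe_mul_of_right_le_normalizer_left _ _ hQW] at h3
  obtain ⟨w, hw, z, hz, rfl⟩ := h3
  have h4 : w ∈ W₁ := by
    refine mem_inf.2 ⟨hw, ?_⟩
    have h5 : z⁻¹ ∈ normalizer (o2 P : Set G) := inv_mem (le_normalizer hz)
    have h6 := mul_mem htN h5
    rwa [mul_inv_cancel_right] at h6
  exact htQ (mul_mem (h1 h4) hz)

/-- `PL M` centralises `D` -/
theorem PL_cent : PL M ≤ centralizer (cv (S : Subgroup G) P : Set G) := by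
  rintro g ⟨hg, A, hA⟩
  exact mem_centralizer_iff.2 fun d hd => (hA.2 d hd).symm

/-- **(GD)** for a subgroup normalised by `PL M`, `V` and of characteristic 2 -/
theorem gd_of {C : Subgroup G} (hPC : PL M ≤ normalizer (C : Set G)) (hVC : zl (S : Subgroup G) P ≤ C)
    (hC : C ⊓ centralizer (o2 C : Set G) ≤ o2 C) :
    o2 C ≤ o2 P ∧ zl (S : Subgroup G) P ≤ o2 C ∧ zl (S : Subgroup G) P ≤ centralizer (o2 C : Set G) := by
  have h1 : o2 C ≤ o2 P := le_o2_of_norm (M := M) q (o2_isPGroup C)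
    (hPC.trans (normalizer_le_normalizer_o2 C))
  have h2 : zl (S : Subgroup G) P ≤ centralizer (o2 C : Set G) := by
    intro v hv
    rw [mem_centralizer_iff]
    intro w hw
    exact (mem_zc.1 (zl_le_A q.hG S q.h hv)).2.1 w (h1 hw)
  exact ⟨h1, (le_inf hVC h2).trans hC, h2⟩

/-- **(GD)** -/
theorem gd (M : NatK F (S : Subgroup G) P (zl (S : Subgroup G) P) (cv (S : Subgroup G) P) 1) {x : G} (hx : x ∈ cv (S : Subgroup G) P) (hx1 : x ≠ 1) :
    o2 (centralizer ({x} : Set G)) ≤ o2 P ∧ zl (S : Subgroup G) P ≤ o2 (centralizer ({x} : Set G)) ∧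
      zl (S : Subgroup G) P ≤ centralizer (o2 (centralizer ({x} : Set G)) : Set G) := by
  have hxV := cv_le _ _ hx
  have hx2 : x ^ 2 = 1 := by rw [pow_two]; exact sqV' q hxV
  refine gd_of (M := M) q (le_trans ?_ le_normalizer) ?_ (MinSimple.Basic.char2_centralizer q.hG hx2 hx1)
  · intro g hg
    rw [mem_centralizer_singleton_iff]
    exact (mem_centralizer_iff.1 (PL_cent (M := M) q hg) x hx).symm
  · intro v hv
    rw [mem_centralizer_singleton_iff]
    exact IId.ThmCQ.Nsp.V_comm q hv hxV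

end main

end Cfsg.Agent.Omega.NOThreeL.RF.GD

end

section


/-!
# NO-3L, `R ∩ (A)`, one natural factor, field automorphisms (#21360 (0)): `D ∩ I = 1`, `|T| ≥ 4`

`D : HypM S P H` (the minimal pair; no coordinates).

* `HypM.comm_pair` : `z ∈ Z - F_H`, `t ∈ C_H(z)` ⟹ `[V, V^t] = 1`;
* **`HypM.inf_Rr`** : an `S`-invariant subgroup of `C_V(O²(P))` meets `I = C_U(N)` trivially (stated for every `S`-invariant
  `B ≤ V` with `C_B(S) ≤ C(P)`);
* **`HypM.not_two`** : if `|U : C_U(V)| = 2` then `[u, V]` has order at most `2` (for every `u ∈ U`).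
-/

set_option autoImplicit false
set_option linter.unusedSectionVars false

namespace Cfsg.Agent.Omega.NOThreeL.RF

open Subgroup Cfsg Cfsg.Agent.Omega.MinPar
open Cfsg.Agent.ZN (zc zl o2)
open Cfsg.Agent.Omega.Frame Cfsg.Agent.Omega.FrameNOFF
open Cfsg.Agent.Omega.Node.NO3L Cfsg.Agent.Omega.NOThreeL.Basic
open Cfsg.Agent.Omega.NoFF.Basic (conj_conj mem_conj conj_le_iff conj_le_centralizer comm_symm comm_mono)
open Cfsg.Agent.Omega.NOThreeL.Pair (conj_eq_of_mem conj_le_normalizer zl_abel)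
open Cfsg.Agent.MinSimple.VModule (zl_le zc_le_zl le_normalizer_zl zc_le o2_isPGroup le_normalizer_o2 le_o2
  normalizer_le_normalizer_zc mem_zc)
open Cfsg.Agent.Omega.NOThreeL (mem_normalizer_of_conj_eq le_normalizer_of mem_sup_of_comm)
open Cfsg.Agent.Omega.NOThreeL.RTools (cm cm_def cm_mul NN conj_mem_of_mem conj_le_NN le_NN NN_le le_normalizer_NN
  le_sup_inf isLong)
open Cfsg.Agent.Omega.NOThreeL.RA (Fc Yy Rr le_o2_of_pairs)
open Cfsg.Agent.Omega.NOThreeL.RSplit (Nrm)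
open Cfsg.Agent.Omega.NOThreeL.ThmAx (IsAx TT YY mem_smul IsAx.smul)
open Cfsg.Agent.Omega.NOThreeL.RSplit.TransRt (Axs)
open Cfsg.Agent.Omega.NOThreeL.RBig (Trans.Sit)
open scoped Pointwise

universe u

variable {G : Type u} [Group G]

namespace HypM

variable [Finite G] {S : Sylow 2 G} {P H : Subgroup G} (D : HypM S P H)
include D

/-! ### `[V, V^t] = 1` -/

/-- `z ∈ Z - F_H`, `t ∈ C_H(z)` ⟹ `[V^t, V] = 1` -/
theorem comm_pair {z t : G} (hz : z ∈ zc (S : Subgroup G)) (hzF : z ∉ Fc (S : Subgroup G) H) (ht : t ∈ H)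
    (htz : t * z = z * t) :
    MulAut.conj t • zl (S : Subgroup G) P ≤ centralizer (zl (S : Subgroup G) P : Set G) := by
  have h1 := D.min_o2 (h := 1) (x := z) (one_mem _) (by rwa [map_one, one_smul]) hzF
  rw [map_one, one_smul] at h1
  have hz1 : z ≠ 1 := fun h => hzF (h ▸ one_mem _)
  have hl0 := isLong S hz hz1
  have hl : IsLong (S : Subgroup G) (H ⊓ centralizer ({z} : Set G)) :=
    ⟨hl0.loc.of_le S (le_inf D.SH hl0.loc.le) inf_le_right, le_inf D.CH hl0.cz⟩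
  have hoS : o2 (H ⊓ centralizer ({z} : Set G)) ≤ (S : Subgroup G) := hl.loc.o2_le S
  have htc : t ∈ H ⊓ centralizer ({z} : Set G) := mem_inf.2 ⟨ht, mem_centralizer_singleton_iff.2 htz⟩
  have hVt : MulAut.conj t • zl (S : Subgroup G) P ≤ o2 (H ⊓ centralizer ({z} : Set G)) := by
    have h2 := (conj_le_iff (g := t)).2 h1
    rwa [conj_eq_of_mem (le_normalizer_o2 _ htc)] at h2
  have D' := GeoLow.geo D.hc (⟨D.data.noff, D.data.low⟩ : DataLow (S : Subgroup G))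
  have h2 := D'.noff' D.par D.par (g := t) (h := 1)
    (by
      rw [map_one, one_smul]
      exact (hVt.trans hoS).trans D.SP)
    (by
      rw [map_one, one_smul]
      have h3 : zl (S : Subgroup G) P ≤ MulAut.conj t • o2 (H ⊓ centralizer ({z} : Set G)) := by
        rw [conj_eq_of_mem (le_normalizer_o2 _ htc)]
        exact h1
      exact h3.trans (conj_le_iff.2 (hoS.trans D.SP)))
  rw [map_one, one_smul] at h2
  exact h2

/-! ### `D ∩ I = 1` -/

/-- **`D ∩ I = 1`**: an `S`-invariant `B ≤ V` with `C_B(S) ≤ C(P)` meets `I = C_U(N)` trivially. -/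
theorem inf_Rr {B : Subgroup G} (hBV : B ≤ zl (S : Subgroup G) P) (hSB : (S : Subgroup G) ≤ normalizer (B : Set G))
    (hB : B ⊓ zc (S : Subgroup G) ≤ centralizer (P : Set G)) : B ⊓ Rr (S : Subgroup G) P H = ⊥ := by
  by_contra hne
  have hS : (S : Subgroup G) ≤ normalizer ((B ⊓ Rr (S : Subgroup G) P H : Subgroup G) : Set G) := by
    intro s hs
    have h1 := hSB hs
    have h2 := D.HR (D.SH hs)
    rw [mem_normalizer_iff] at h1 h2 ⊢
    intro x
    rw [mem_inf, mem_inf, h1 x, h2 x]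
  obtain ⟨x, hx, hx1, hxS⟩ := NoFF.LinesPlug.exists_fixed S.isPGroup' ((inf_le_left.trans hBV).trans D.VS) hS hne
  obtain ⟨hxB, hxR⟩ := mem_inf.1 hx
  have hxz : x ∈ zc (S : Subgroup G) := mem_zc.2 ⟨D.VS (hBV hxB), fun s hs => hxS s hs, by
    rw [pow_two, D.sqV (hBV hxB)]⟩
  exact hx1 (D.not_cent hxz (hB (mem_inf.2 ⟨hxB, hxz⟩)) (mem_inf.1 hxR).2)

/-! ### The module `U` -/

theorem nrm : Nrm H (zl (S : Subgroup G) H) := ⟨fun _ hu _ hv => D.commU hu hv, le_normalizer_zl _ _⟩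

theorem cm_memV {u v : G} (hu : u ∈ zl (S : Subgroup G) H) (hv : v ∈ zl (S : Subgroup G) P) :
    cm v u ∈ zl (S : Subgroup G) P := by
  have e1 : cm v u = v * (u * v⁻¹ * u⁻¹) := by rw [cm_def]; group
  rw [e1]
  exact mul_mem hv (conj_mem_of_mem (D.PV (D.SP (D.US hu))) (inv_mem hv))

theorem cm_memU {u v : G} (hu : u ∈ zl (S : Subgroup G) H) (hv : v ∈ zl (S : Subgroup G) P) :
    cm v u ∈ zl (S : Subgroup G) H := by
  have e1 : cm v u = (v * u * v⁻¹) * u⁻¹ := by rw [cm_def]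
  rw [e1]
  exact mul_mem (conj_mem_of_mem (D.HU (D.VH hv)) hu) (inv_mem hu)

theorem cm_mulV {u v w : G} (hu : u ∈ zl (S : Subgroup G) H) (hv : v ∈ zl (S : Subgroup G) P)
    (hw : w ∈ zl (S : Subgroup G) P) : cm (v * w) u = cm v u * cm w u := by
  have e1 : cm (v * w) u = (v * cm w u * v⁻¹) * cm v u := by simp only [cm_def]; group
  rw [e1, D.commV hv (D.cm_memV hu hw), mul_inv_cancel_right, D.commV (D.cm_memV hu hw) (D.cm_memV hu hv)]

/-- `[V, u₀]` as a subgroup of the module -/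
def RH {u₀ : G} (hu₀ : u₀ ∈ zl (S : Subgroup G) H) : AddSubgroup D.nrm.Mod where
  carrier := {m | ∃ v ∈ zl (S : Subgroup G) P, D.nrm.val m = cm v u₀}
  zero_mem' := ⟨1, one_mem _, by rw [Nrm.val_zero, cm_def]; group⟩
  add_mem' := by
    rintro a b ⟨v, hv, h1⟩ ⟨w, hw, h2⟩
    exact ⟨v * w, mul_mem hv hw, by rw [Nrm.val_add, h1, h2, D.cm_mulV hu₀ hv hw]⟩
  neg_mem' := by
    rintro a ⟨v, hv, h1⟩
    refine ⟨v, hv, ?_⟩
    rw [Nrm.val_neg, h1]
    exact inv_eq_of_mul_eq_one_left (D.sqV (D.cm_memV hu₀ hv))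

/-- the root group of the action -/
abbrev TH (_ : HypM S P H) : Unit → Subgroup H := fun _ => (zl (S : Subgroup G) P).subgroupOf H

/-- its axis -/
abbrev AxH : Unit → AddSubgroup D.nrm.Mod := fun _ => D.nrm.ad (centralizer (zl (S : Subgroup G) P : Set G))

/-- `N` acts on `U` as the abstract group `NN` -/
theorem exists_NN {x : G} (hx : x ∈ NN (S : Subgroup G) P H) :
    ∃ hxH : x ∈ H, (⟨x, hxH⟩ : H) ∈ RBig.Trans.NN (Axs H D.AxH) (TT D.TH D.AxH) := by
  have h1 : NN (S : Subgroup G) P H ≤ (RBig.Trans.NN (Axs H D.AxH) (TT D.TH D.AxH)).map H.subtype := by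
    refine NN_le fun y hy v hv => ?_
    rw [mem_conj] at hv
    refine ⟨⟨y, hy⟩ * ⟨y⁻¹ * v * y, D.VH hv⟩ * ⟨y, hy⟩⁻¹, ?_, ?_⟩
    · exact RSplit.TransRt.conj_mem_NN (T := D.TH) (Ax := D.AxH) (i := ()) (mem_subgroupOf.2 hv)
    · change y * (y⁻¹ * v * y) * y⁻¹ = v
      group
  obtain ⟨⟨x', hx'⟩, hxK, rfl⟩ := h1 hx
  exact ⟨hx', hxK⟩

/-- `|U : C_U(V)| = 2` (at most). -/
def Two (_ : HypM S P H) : Prop :=
  ∀ u ∈ zl (S : Subgroup G) H, ∀ u' ∈ zl (S : Subgroup G) H, u ∉ centralizer (zl (S : Subgroup G) P : Set G) →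
    u' ∉ centralizer (zl (S : Subgroup G) P : Set G) → u * u' ∈ centralizer (zl (S : Subgroup G) P : Set G)

/-- all elements outside `C_U(V)` have the same commutators with `V` -/
theorem cm_eq (h2 : D.Two) {u₀ u v : G} (hu₀ : u₀ ∈ zl (S : Subgroup G) H)
    (hc : u₀ ∉ centralizer (zl (S : Subgroup G) P : Set G)) (hu : u ∈ zl (S : Subgroup G) H)
    (huc : u ∉ centralizer (zl (S : Subgroup G) P : Set G)) (hv : v ∈ zl (S : Subgroup G) P) : cm v u = cm v u₀ := by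
  have h3 := mem_centralizer_iff.1 (h2 u₀ hu₀ u hu hc huc) v hv
  have e : u = u₀ * (u₀ * u) := by rw [← mul_assoc, D.sqU hu₀, one_mul]
  conv_lhs => rw [e]
  calc cm v (u₀ * (u₀ * u)) = v * u₀ * ((u₀ * u) * v⁻¹) * (u₀ * u)⁻¹ * u₀⁻¹ := by rw [cm_def]; group
    _ = v * u₀ * (v⁻¹ * (u₀ * u)) * (u₀ * u)⁻¹ * u₀⁻¹ := by
        have h4 : (u₀ * u) * v⁻¹ = v⁻¹ * (u₀ * u) := by
          rw [mul_inv_eq_iff_eq_mul, mul_assoc, ← h3, inv_mul_cancel_left]
        rw [h4]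
    _ = cm v u₀ := by rw [cm_def]; group

/-- **Root groups**, for `|U : C_U(V)| = 2`. -/
theorem rt (h2 : D.Two) {u₀ : G} (hu₀ : u₀ ∈ zl (S : Subgroup G) H)
    (hc : u₀ ∉ centralizer (zl (S : Subgroup G) P : Set G)) :
    RSplit.Root.Rt D.TH D.AxH (fun _ => D.RH hu₀) where
  char2 m := Nrm.ext (D.sqU (Nrm.val_mem _ m))
  fix i t ht u hu := by
    refine Nrm.ext ?_
    have h1 := mem_centralizer_iff.1 (Nrm.mem_ad.1 hu) t (mem_subgroupOf.1 ht)
    rw [Nrm.val_smul, h1, mul_inv_cancel_right]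
  quad i t ht u := by
    have htV : (t : G) ∈ zl (S : Subgroup G) P := mem_subgroupOf.1 ht
    by_cases hu : D.nrm.val u ∈ centralizer (zl (S : Subgroup G) P : Set G)
    · have h1 := mem_centralizer_iff.1 hu t htV
      have h3 : t • u - u = 0 := by
        refine Nrm.eq_zero_iff.2 ?_
        rw [Nrm.val_sub, Nrm.val_smul, h1, mul_inv_cancel_right, mul_inv_cancel]
      rw [h3]
      exact zero_mem _
    · refine ⟨t, htV, ?_⟩
      rw [Nrm.val_sub, Nrm.val_smul, ← D.cm_eq h2 hu₀ hc (Nrm.val_mem _ u) hu htV, cm_def]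
  full i u hu r hr := by
    obtain ⟨v, hv, he⟩ := hr
    refine ⟨⟨v, D.VH hv⟩, mem_subgroupOf.2 hv, Nrm.ext ?_⟩
    rw [Nrm.val_smul, Nrm.val_add, he, ← D.cm_eq h2 hu₀ hc (Nrm.val_mem _ u) hu hv,
      D.commU (Nrm.val_mem _ u) (D.cm_memU (Nrm.val_mem _ u) hv), cm_def]
    group
  le i j := by
    rintro m ⟨v, hv, he⟩
    rw [Nrm.mem_ad, he, mem_centralizer_iff]
    exact fun w hw => D.commV hw (D.cm_memV hu₀ hv)
  trans i j := ⟨1, one_smul _ _⟩

/-- some `z ∈ Z` is not fixed by `N` -/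
theorem exists_z : ∃ z, ∃ hz : z ∈ zc (S : Subgroup G), ∃ x : H, D.nrm.of z (zc_le_zl _ _ hz) ∉ x • D.AxH () := by
  by_contra hcon
  push Not at hcon
  apply D.ne
  rw [le_centralizer_iff]
  refine NoFF.Basic.V_le (Z := zc (S : Subgroup G)) fun k hk y hy => ?_
  rw [mem_conj] at hy
  have h1 := hcon _ hy ⟨k, hk⟩⁻¹
  rw [Nrm.smul_ad, Nrm.mem_ad, Nrm.val_of, mem_conj] at h1
  have e : ((⟨k, hk⟩⁻¹ : H) : G)⁻¹ * (k⁻¹ * y * k) * ((⟨k, hk⟩⁻¹ : H) : G) = y := by
    change (k⁻¹)⁻¹ * (k⁻¹ * y * k) * k⁻¹ = y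
    group
  rwa [e] at h1

/-- **`|U : C_U(V)| = 2` implies `|[V, u]| ≤ 2`** (#21360 (0)). -/
theorem not_two (h2 : D.Two) {u v w : G} (hu : u ∈ zl (S : Subgroup G) H) (hv : v ∈ zl (S : Subgroup G) P)
    (hw : w ∈ zl (S : Subgroup G) P) (h1 : cm v u ≠ 1) (h3 : cm w u ≠ 1) (h4 : cm v u ≠ cm w u) : False := by
  have hc : u ∉ centralizer (zl (S : Subgroup G) P : Set G) := fun hc =>
    h1 (cm_eq_one.2 (mem_centralizer_iff.1 hc v hv))
  have R := D.rt h2 hu hc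
  set r : D.nrm.Mod := D.nrm.of (cm v u) (D.cm_memU hu hv) with hr
  set s : D.nrm.Mod := D.nrm.of (cm w u) (D.cm_memU hu hw) with hs
  have hrR : r ∈ D.RH hu := ⟨v, hv, rfl⟩
  have hsR : s ∈ D.RH hu := ⟨w, hw, rfl⟩
  have hr0 : r ≠ 0 := fun h => h1 (Nrm.eq_zero_iff.1 h)
  have hs0 : s ≠ 0 := fun h => h3 (Nrm.eq_zero_iff.1 h)
  have hrs : r ≠ s := fun h => h4 (Nrm.ext_iff.1 h)
  have big : ∀ i : Unit, 2 < Nat.card (D.RH hu) := fun _ => by
    have h5 : ({0, r, s} : Set D.nrm.Mod).ncard = 3 := by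
      rw [Set.ncard_eq_three]
      exact ⟨0, r, s, hr0.symm, hs0.symm, hrs, rfl⟩
    have h6 : ({0, r, s} : Set D.nrm.Mod) ⊆ (D.RH hu : Set D.nrm.Mod) := by
      rintro m (rfl | rfl | rfl)
      · exact zero_mem _
      · exact hrR
      · exact hsR
    have h7 := Set.ncard_le_ncard h6 (Set.toFinite _)
    rw [h5] at h7
    have h8 : Nat.card (D.RH hu) = (D.RH hu : Set D.nrm.Mod).ncard := Nat.card_coe_set_eq _
    omega
  obtain ⟨z, hz, x₀, hx₀⟩ := D.exists_z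
  have hzF : z ∉ Fc (S : Subgroup G) H := by
    intro hzF
    apply hx₀
    rw [Nrm.smul_ad, Nrm.mem_ad, Nrm.val_of, mem_conj]
    have h5 := Fc_conj hzF (inv_mem x₀.2)
    rw [inv_inv] at h5
    rw [h5, mem_centralizer_iff]
    exact fun y hy => D.commV hy (D.ZV hz)
  have Q : Trans.Sit (Axs H D.AxH) (TT D.TH D.AxH) (YY H D.AxH (fun _ => D.RH hu)) (D.nrm.of z (zc_le_zl _ _ hz)) := by
    refine RSplit.TransRt.sit R big ?_ ?_ ⟨x₀, (), hx₀⟩
    · refine ⟨S.subtype D.long.loc.le, fun s hs => Nrm.ext ?_⟩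
      rw [Nrm.val_smul, Nrm.val_of]
      have h5 : (s : G) ∈ (S : Subgroup G) := hs
      rw [(mem_zc.1 hz).2.1 _ h5, mul_inv_cancel_right]
    · rintro ⟨x, hx⟩
      obtain ⟨n, hn, c, hcc, rfl⟩ := D.exists_nc hx
      obtain ⟨hnH, hn'⟩ := D.exists_NN hn
      refine ⟨_, hn', Nrm.ext ?_⟩
      rw [Nrm.val_smul, Nrm.val_of]
      change n⁻¹ * (n * c) * z * (n⁻¹ * (n * c))⁻¹ = z
      rw [inv_mul_cancel_left, ← mem_centralizer_iff.1 hcc z hz, mul_inv_cancel_right]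
  have hA : D.AxH () ∈ Axs H D.AxH := ⟨1, (), one_smul _ _⟩
  refine TwoT.two_false Q hA (W := D.RH hu) ?_ ?_ ?_ hrR hsR hr0 hs0 hrs
  · exact (RSplit.Root.Rt.R_le_YY (H := H) (Ax := D.AxH) (R := fun _ => D.RH hu) ()).trans
      (RBig.Trans.AxSys.YY_le_UC (RBig.Trans.AxSys.self_mem hA))
  · -- `z ∈ g` implies `[V, u] ≤ g`
    intro g hg hzg
    have hgA := Q.mem_A hg
    by_contra hcon
    obtain ⟨m, hm, hmg⟩ := SetLike.not_le_iff_exists.1 hcon
    have h5 : YY H D.AxH (fun _ => D.RH hu) g ≤ D.AxH () := by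
      intro y hy
      obtain ⟨t, ht, hty⟩ := R.TT_full hmg hy
      have htz := Nrm.ext_iff.1 (R.TT_fix ht hzg)
      rw [Nrm.val_smul, Nrm.val_of] at htz
      have h6 := D.comm_pair hz hzF t.2 (mul_inv_eq_iff_eq_mul.1 htz)
      obtain ⟨v', hv', he⟩ := hm
      have h7 : D.nrm.val y = (t * cm v' u * (t : G)⁻¹) * (cm v' u)⁻¹ := by
        have h8 := Nrm.ext_iff.1 hty
        rw [Nrm.val_smul, Nrm.val_add, he] at h8
        rw [h8, D.commU (D.cm_memU hu hv') (Nrm.val_mem _ y), mul_inv_cancel_right]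
      rw [Nrm.mem_ad, h7]
      refine mul_mem (h6 ?_) (inv_mem ?_)
      · rw [mem_conj]
        have e : (t : G)⁻¹ * (t * cm v' u * (t : G)⁻¹) * t = cm v' u := by group
        rw [e]
        exact D.cm_memV hu hv'
      · rw [mem_centralizer_iff]
        exact fun y hy => D.commV hy (D.cm_memV hu hv')
    have h6 : YY H D.AxH (fun _ => D.RH hu) (D.AxH ()) ≤ g := by
      by_contra h6
      exact Q.symm _ hA _ hgA h6 h5
    exact hmg (h6 (RSplit.Root.Rt.R_le_YY (H := H) (Ax := D.AxH) (R := fun _ => D.RH hu) () hm))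
  · -- the axes have index `2`
    rintro _ ⟨x, i, rfl⟩ a b ha hb
    rw [mem_smul] at ha hb ⊢
    rw [smul_add, Nrm.mem_ad, Nrm.val_add]
    exact h2 _ (Nrm.val_mem _ _) _ (Nrm.val_mem _ _) ha hb

end HypM

end Cfsg.Agent.Omega.NOThreeL.RF

end
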