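import Cfsg.Agent.Mrg.Omega.NOThreeL.RA.Base
import Cfsg.Agent.Lib.SylowNormalInf

section


/-!
# NO-3L, `R ∩ (A)`, `k = 1`, not split, field automorphisms (#22083, #21454): `N_S` is weakly closed

Abstract data `Wc S V U H S₀ Zp` : `Zp = Z⁺ = C_V(U)`, `S₀ = C_S(Z⁺)`, `S / S₀` has at most one involution,
`|V / Z⁺| > 2`, `C_U(v) = C_U(V)` for `v ∈ V - Z⁺`.

* `Wc.le_S0` (761 (1)) : `n ∈ H`, `V^n ≤ S` implies `V^n ≤ S₀`;
* `Wc.conj_le` : a 2-subgroup `Q ≤ H` containing `S₀^x` (`x ∈ H`) : `V^{σx} ≤ S₀^x` for `σ ∈ Q`;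
* **`Wc.comm`** : then `V^x` and `V^{σx}` commute (NOFF).
-/

set_option autoImplicit false

namespace Cfsg.Agent.Omega.NOThreeL.RF

open Subgroup Cfsg
open Cfsg.Agent.ZN (zc zl o2)
open Cfsg.Agent.Omega.NoFF.Basic (conj_conj mem_conj conj_le_iff conj_le_centralizer comm_symm comm_mono)
open Cfsg.Agent.Omega.NOThreeL.Pair (conj_eq_of_mem)
open Cfsg.Agent.Omega.NOThreeL.RTools (cm cm_def conj_mem_of_mem)
open scoped Pointwise

universe u

variable {G : Type u} [Group G]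

/-- The abstract data of the weakly closed group `N_S`. -/
structure Wc [Finite G] (S : Sylow 2 G) (V U H S₀ Zp : Subgroup G) : Prop where
  VS : V ≤ (S : Subgroup G)
  SV : (S : Subgroup G) ≤ normalizer (V : Set G)
  SH : (S : Subgroup G) ≤ H
  HU : H ≤ normalizer (U : Set G)
  commV : ∀ x ∈ V, ∀ y ∈ V, x * y = y * x
  sqV : ∀ x ∈ V, x * x = 1
  S0S : S₀ ≤ (S : Subgroup G)
  SS0 : (S : Subgroup G) ≤ normalizer (S₀ : Set G)
  ZpV : Zp ≤ V
  ZpU : Zp ≤ U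
  S0c : ∀ s ∈ (S : Subgroup G), s ∈ S₀ ↔ ∀ z ∈ Zp, s * z = z * s
  cent : ∀ v ∈ V, v ∉ Zp → ∀ u ∈ U, v * u = u * v → ∀ w ∈ V, w * u = u * w
  VU : ∀ v ∈ V, ∀ u ∈ U, cm v u ∈ Zp
  inv : ∀ a ∈ (S : Subgroup G), ∀ b ∈ (S : Subgroup G), a * a = 1 → b * b = 1 → a ∉ S₀ → b ∉ S₀ → a * b ∈ S₀
  three : ∃ v ∈ V, ∃ w ∈ V, v ∉ Zp ∧ w ∉ Zp ∧ v * w ∉ Zp
  noff : ∀ x y : G, MulAut.conj x • V ≤ MulAut.conj y • (S : Subgroup G) →
    MulAut.conj y • V ≤ MulAut.conj x • (S : Subgroup G) →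
      ∀ a ∈ MulAut.conj x • V, ∀ b ∈ MulAut.conj y • V, a * b = b * a

/-- A 2-subgroup of `H ≥ S` is in an `H`-conjugate of `S`. -/
theorem exists_conj [Finite G] (S : Sylow 2 G) {H Q : Subgroup G} (hSH : (S : Subgroup G) ≤ H)
    (hQ : IsPGroup 2 Q) (hQH : Q ≤ H) : ∃ m ∈ H, Q ≤ MulAut.conj m • (S : Subgroup G) := by
  have : Fact (Nat.Prime 2) := ⟨Nat.prime_two⟩
  have h1 : IsPGroup 2 (Q.subgroupOf H) := hQ.comap_of_injective H.subtype H.subtype_injective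
  obtain ⟨T, hT⟩ := h1.exists_le_sylow
  obtain ⟨g, hg⟩ := MulAction.exists_smul_eq H (S.subtype hSH) T
  refine ⟨g, g.2, fun x hx => ?_⟩
  have h2 : (⟨x, hQH hx⟩ : H) ∈ (T : Subgroup H) := hT hx
  rw [← hg, Sylow.coe_subgroup_smul, mem_conj, Sylow.coe_subtype, mem_subgroupOf] at h2
  rw [mem_conj]
  exact h2

/-- `N_T = ⟨V^k ≤ T : k ∈ H⟩` -/
def NS (V H T : Subgroup G) : Subgroup G := ⨆ (k : G) (_ : k ∈ H ∧ MulAut.conj k • V ≤ T), MulAut.conj k • V

theorem le_NS {V H T : Subgroup G} {k : G} (hk : k ∈ H) (h : MulAut.conj k • V ≤ T) :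
    MulAut.conj k • V ≤ NS V H T := le_iSup₂_of_le k ⟨hk, h⟩ le_rfl

theorem NS_le {V H T A : Subgroup G} (h : ∀ k ∈ H, MulAut.conj k • V ≤ T → MulAut.conj k • V ≤ A) :
    NS V H T ≤ A := iSup₂_le fun k hk => h k hk.1 hk.2

theorem conj_NS_le {V H T : Subgroup G} {x : G} (hx : x ∈ H) :
    MulAut.conj x • NS V H T ≤ NS V H (MulAut.conj x • T) := by
  rw [Subgroup.pointwise_smul_subset_iff]
  refine NS_le fun k hk hT => ?_
  rw [← Subgroup.pointwise_smul_subset_iff, conj_conj]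
  refine le_NS (mul_mem hx hk) ?_
  rw [← conj_conj]
  exact conj_le_iff.2 hT

theorem conj_NS {V H T : Subgroup G} {x : G} (hx : x ∈ H) :
    MulAut.conj x • NS V H T = NS V H (MulAut.conj x • T) := by
  refine le_antisymm (conj_NS_le hx) ?_
  have h1 := conj_NS_le (V := V) (T := MulAut.conj x • T) (inv_mem hx)
  rw [conj_conj, inv_mul_cancel, map_one, one_smul] at h1
  have h2 := (conj_le_iff (g := x)).2 h1
  rwa [conj_conj, mul_inv_cancel, map_one, one_smul] at h2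

theorem card_conj (x : G) (A : Subgroup G) : Nat.card (MulAut.conj x • A : Subgroup G) = Nat.card A :=
  (Nat.card_congr (Subgroup.equivSMul (MulAut.conj x) A).toEquiv).symm

namespace Wc

variable [Finite G] {S : Sylow 2 G} {V U H S₀ Zp : Subgroup G} (h : Wc S V U H S₀ Zp)
include h

theorem VS0 : V ≤ S₀ := fun v hv => (h.S0c v (h.VS hv)).2 fun z hz => h.commV v hv z (h.ZpV hz)

theorem S0_comm {s z : G} (hs : s ∈ S₀) (hz : z ∈ Zp) : s * z = z * s := (h.S0c s (h.S0S hs)).1 hs z hz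

/-- **761 (1)** : `V^n ≤ S` implies `V^n ≤ S₀`. -/
theorem le_S0 {n : G} (hn : n ∈ H) (hS : MulAut.conj n • V ≤ (S : Subgroup G)) : MulAut.conj n • V ≤ S₀ := by
  intro a ha
  by_contra haS
  have h1 : ∃ y ∈ Zp, a * y ≠ y * a := by
    by_contra hcon
    push Not at hcon
    exact haS ((h.S0c a (hS ha)).2 hcon)
  obtain ⟨y, hy, hay⟩ := h1
  have hmem : ∀ {b : G}, b ∈ V → n * b * n⁻¹ ∈ MulAut.conj n • V := by
    intro b hb
    rw [mem_conj]
    have e1 : n⁻¹ * (n * b * n⁻¹) * n = b := by group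
    rwa [e1]
  have key : ∀ b ∈ V, b ∉ Zp → n * b * n⁻¹ ∉ S₀ := by
    intro b hb hbZ hb0
    have h2 : n * b * n⁻¹ * y = y * (n * b * n⁻¹) := h.S0_comm hb0 hy
    have h3 : b * (n⁻¹ * y * n) = (n⁻¹ * y * n) * b := by
      calc b * (n⁻¹ * y * n) = n⁻¹ * (n * b * n⁻¹ * y) * n := by group
        _ = n⁻¹ * (y * (n * b * n⁻¹)) * n := by rw [h2]
        _ = (n⁻¹ * y * n) * b := by group
    have h4 : n⁻¹ * y * n ∈ U := by
      have h5 := conj_mem_of_mem (h.HU (inv_mem hn)) (h.ZpU hy)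
      rwa [inv_inv] at h5
    have h5 := h.cent b hb hbZ _ h4 h3 (n⁻¹ * a * n) (mem_conj.1 ha)
    apply hay
    calc a * y = n * ((n⁻¹ * a * n) * (n⁻¹ * y * n)) * n⁻¹ := by group
      _ = n * ((n⁻¹ * y * n) * (n⁻¹ * a * n)) * n⁻¹ := by rw [h5]
      _ = y * a := by group
  obtain ⟨v, hv, w, hw, h2, h3, h4⟩ := h.three
  have hsq : ∀ {b : G}, b ∈ V → (n * b * n⁻¹) * (n * b * n⁻¹) = 1 := by
    intro b hb
    calc (n * b * n⁻¹) * (n * b * n⁻¹) = n * (b * b) * n⁻¹ := by group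
      _ = 1 := by rw [h.sqV b hb]; group
  have h5 := h.inv _ (hS (hmem hv)) _ (hS (hmem hw)) (hsq hv) (hsq hw) (key v hv h2) (key w hw h3)
  have e1 : n * v * n⁻¹ * (n * w * n⁻¹) = n * (v * w) * n⁻¹ := by group
  rw [e1] at h5
  exact key (v * w) (mul_mem hv hw) h4 h5

theorem NS_le_S0 {x : G} (hx : x ∈ H) :
    NS V H (MulAut.conj x • (S : Subgroup G)) ≤ MulAut.conj x • S₀ := by
  refine NS_le fun k hk hT => ?_
  have h1 : MulAut.conj (x⁻¹ * k) • V ≤ (S : Subgroup G) := by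
    have h2 := (conj_le_iff (g := x⁻¹)).2 hT
    rwa [conj_conj, conj_conj, inv_mul_cancel, map_one, one_smul] at h2
  have h2 := (conj_le_iff (g := x)).2 (h.le_S0 (mul_mem (inv_mem hx) hk) h1)
  rwa [conj_conj, mul_inv_cancel_left] at h2

/-- `V^{σx} ≤ S₀^x` for `σ` in a 2-subgroup of `H` containing `S₀^x`. -/
theorem conj_le {x σ : G} {Q : Subgroup G} (hx : x ∈ H) (hQ : IsPGroup 2 Q) (hQH : Q ≤ H)
    (hSQ : MulAut.conj x • S₀ ≤ Q) (hσ : σ ∈ Q) : MulAut.conj (σ * x) • V ≤ MulAut.conj x • S₀ := by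
  obtain ⟨m, hm, hQm⟩ := exists_conj S h.SH hQ hQH
  have h1 : NS V H (MulAut.conj x • (S : Subgroup G)) ≤ NS V H (MulAut.conj m • (S : Subgroup G)) := by
    refine NS_le fun k hk hT => le_NS hk ?_
    exact (le_NS hk hT).trans ((h.NS_le_S0 hx).trans (hSQ.trans hQm))
  have h2 : NS V H (MulAut.conj x • (S : Subgroup G)) = NS V H (MulAut.conj m • (S : Subgroup G)) := by
    refine Subgroup.eq_of_le_of_card_ge h1 ?_
    rw [← conj_NS hx, ← conj_NS hm, card_conj, card_conj]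
  have h3 : MulAut.conj x • V ≤ MulAut.conj m • (S : Subgroup G) :=
    ((conj_le_iff (g := x)).2 h.VS0).trans (hSQ.trans hQm)
  have h4 : MulAut.conj (σ * x) • V ≤ MulAut.conj m • (S : Subgroup G) := by
    rw [← conj_conj]
    have h5 := (conj_le_iff (g := σ)).2 h3
    rwa [Subgroup.conj_smul_eq_self_of_mem (hQm hσ)] at h5
  have h5 := le_NS (mul_mem (hQH hσ) hx) h4
  rw [← h2] at h5
  exact h5.trans (h.NS_le_S0 hx)

/-- **`V^x` and `V^{σx}` commute.** -/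
theorem comm {x σ : G} {Q : Subgroup G} (hx : x ∈ H) (hQ : IsPGroup 2 Q) (hQH : Q ≤ H)
    (hSQ : MulAut.conj x • S₀ ≤ Q) (hσ : σ ∈ Q) :
    ∀ a ∈ MulAut.conj (σ * x) • V, ∀ b ∈ MulAut.conj x • V, a * b = b * a := by
  refine h.noff _ _ ((h.conj_le hx hQ hQH hSQ hσ).trans ((conj_le_iff (g := x)).2 h.S0S)) ?_
  have h1 := (h.conj_le hx hQ hQH hSQ (inv_mem hσ)).trans ((conj_le_iff (g := x)).2 h.S0S)
  have h2 := (conj_le_iff (g := σ)).2 h1
  rwa [conj_conj, conj_conj, mul_inv_cancel_left] at h2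

end Wc

end Cfsg.Agent.Omega.NOThreeL.RF

end

section


/-!
# NO-3L, `R ∩ (A)`, `k = 1`, not split, field automorphisms (#22083, #21454 (5)): `X` minimal over `S₀`

`MinX V H S₀ X` : `S₀ ≤ X ≤ H`, `V ≰ O₂(X)`, minimal; `V' = V^x` (`x ∈ X`) is opposite if `⟨V, V'⟩` is not a 2-group.

* `MinX.eq_sup` : `X = ⟨S₀, V'⟩`; `MinX.exists_opp`; `MinX.mem_of_comm` : `z ∈ Z⁺` commuting with `V'` is in `C(X)`;
  `MinX.mem_of_inf` : `Z⁺ ∩ Z⁺^x ≤ C(X)`; `MinX.mem_of_comm'` : `y ∈ Z⁺^x` commuting with some `v ∈ V - Z⁺` is in `C(X)`;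
* **`MinX.not_cm`** (761 (5)) : `S₀` Sylow in `X`, `y ∈ Z⁺^x - C(X)`, `v ∈ V - Z⁺` : `[v, y] ∉ C(X)`;
* **`MinX.inf_o2_le`** (618 (e)) : if `N_G(Z⁺)` normalises `D ≤ Z⁺`, `D ≠ 1`, `D ∩ C(X) = 1`, then `V ∩ O₂(X) ≤ Z⁺`;
* **`Wc.exists_sylow`** (618 (d)) : if `C_S(R) ≤ S₀`, `R ≤ Z⁺` normal in `S`, `V ≰ O₂(C_H(R))`, then there are `X` minimal
  over `S₀` in `C_H(R)` and an opposite `V^x` with `[v, y] ∉ C(X)` for `y ∈ Z⁺^x - C(X)`, `v ∈ V - Z⁺`.
-/

set_option autoImplicit false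

namespace Cfsg.Agent.Omega.NOThreeL.RF

open Subgroup Cfsg
open Cfsg.Agent.ZN (zc zl o2)
open Cfsg.Agent.Omega.NoFF.Basic (conj_conj mem_conj conj_le_iff conj_le_centralizer comm_symm comm_mono)
open Cfsg.Agent.Omega.NOThreeL.Pair (conj_eq_of_mem)
open Cfsg.Agent.Omega.NOThreeL.RTools (cm cm_def conj_mem_of_mem)
open Cfsg.Agent.Omega.NOThreeL (le_normalizer_of)
open Cfsg.Agent.MinSimple.VModule (o2_isPGroup le_normalizer_o2 le_o2)
open Cfsg.Agent.Omega.NOThreeL.RA (le_o2_of_pairs)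
open Cfsg.Agent.Omega.NOThreeL.RA.HypQ (cm_eq_one)
open scoped Pointwise

universe u

variable {G : Type u} [Group G]

/-- `X` is minimal with `S₀ ≤ X ≤ H` and `V ≰ O₂(X)`. -/
structure MinX (V H S₀ X : Subgroup G) : Prop where
  le : S₀ ≤ X
  XH : X ≤ H
  not : ¬ V ≤ o2 X
  min : ∀ Y : Subgroup G, S₀ ≤ Y → Y ≤ X → Y ≠ X → V ≤ o2 Y

theorem exists_minX [Finite G] {V H S₀ K : Subgroup G} (hK : K ≤ H) (hS : S₀ ≤ K) (hne : ¬ V ≤ o2 K) :
    ∃ X ≤ K, MinX V H S₀ X := by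
  classical
  let s : Set (Subgroup G) := {X | S₀ ≤ X ∧ X ≤ K ∧ ¬ V ≤ o2 X}
  have hs : s.Nonempty := ⟨K, hS, le_rfl, hne⟩
  obtain ⟨X, hX⟩ := (Set.toFinite s).exists_minimal hs
  obtain ⟨hX1, hX2⟩ := hX
  refine ⟨X, hX1.2.1, hX1.1, hX1.2.1.trans hK, hX1.2.2, fun Y h1 h2 h3 => ?_⟩
  by_contra h4
  exact h3 (le_antisymm h2 (hX2 ⟨h1, h2.trans hX1.2.1, h4⟩ h2))

/-- `⟨V, V^x⟩` is not a 2-group. -/
def OppX (V : Subgroup G) (x : G) : Prop := ¬ IsPGroup 2 (V ⊔ MulAut.conj x • V : Subgroup G)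

theorem OppX.inv {V : Subgroup G} {x : G} (h : OppX V x) : OppX V x⁻¹ := by
  intro h1
  apply h
  have h2 : IsPGroup 2 (MulAut.conj x • (V ⊔ MulAut.conj x⁻¹ • V) : Subgroup G) := by
    exact h1.map (MulAut.conj x).toMonoidHom
  rwa [Subgroup.smul_sup, conj_conj, mul_inv_cancel, map_one, one_smul, sup_comm] at h2

theorem mem_conj' {V : Subgroup G} {x a : G} (ha : a ∈ V) : x * a * x⁻¹ ∈ MulAut.conj x • V := by
  rw [mem_conj]
  have e1 : x⁻¹ * (x * a * x⁻¹) * x = a := by group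
  rwa [e1]

namespace MinX

variable [Finite G] {S : Sylow 2 G} {V U H S₀ Zp X : Subgroup G} (h : Wc S V U H S₀ Zp) (hX : MinX V H S₀ X)
include h hX

theorem VX : V ≤ X := h.VS0.trans hX.le

theorem conjV {x : G} (hx : x ∈ X) : MulAut.conj x • V ≤ X := by
  have h1 := (conj_le_iff (g := x)).2 (hX.VX h)
  rwa [Subgroup.conj_smul_eq_self_of_mem hx] at h1

omit [Finite G] h in
theorem conjS0 {x : G} (hx : x ∈ X) : MulAut.conj x • S₀ ≤ X := by
  have h1 := (conj_le_iff (g := x)).2 hX.le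
  rwa [Subgroup.conj_smul_eq_self_of_mem hx] at h1

/-- **(5)** `X = ⟨S₀, V'⟩` -/
theorem eq_sup {x : G} (hx : x ∈ X) (ho : OppX V x) : S₀ ⊔ MulAut.conj x • V = X := by
  have : Fact (Nat.Prime 2) := ⟨Nat.prime_two⟩
  by_contra hne
  have h1 := hX.min _ le_sup_left (sup_le hX.le (hX.conjV h hx)) hne
  apply ho
  set Y : Subgroup G := S₀ ⊔ MulAut.conj x • V with hY
  have h2 : MulAut.conj x • V ≤ normalizer (o2 Y : Set G) := le_sup_right.trans (le_normalizer_o2 Y)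
  have h3 : IsPGroup 2 (MulAut.conj x • V ⊔ o2 Y : Subgroup G) := by
    refine IsPGroup.to_sup_of_normal_right' ?_ (o2_isPGroup _) h2
    exact (S.isPGroup'.to_le h.VS).map _
  exact h3.to_le (sup_le (h1.trans le_sup_right) le_sup_left)

theorem exists_opp : ∃ x ∈ X, OppX V x := by
  by_contra hcon
  push Not at hcon
  refine hX.not (le_o2_of_pairs (hX.VX h) fun g hg => ?_)
  have h1 := hcon g hg
  unfold OppX at h1
  rwa [not_not] at h1

theorem mem_of_comm {x z : G} (hx : x ∈ X) (ho : OppX V x) (hz : z ∈ Zp)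
    (hc : ∀ a ∈ MulAut.conj x • V, a * z = z * a) : z ∈ centralizer (X : Set G) := by
  rw [← hX.eq_sup h hx ho]
  rw [mem_centralizer_iff]
  have h1 : S₀ ⊔ MulAut.conj x • V ≤ centralizer ({z} : Set G) := by
    refine sup_le (fun s hs => ?_) fun a ha => ?_
    · rw [mem_centralizer_singleton_iff]
      exact h.S0_comm hs hz
    · rw [mem_centralizer_singleton_iff]
      exact hc a ha
  intro g hg
  exact mem_centralizer_singleton_iff.1 (h1 hg)

theorem mem_of_inf {x z : G} (hx : x ∈ X) (ho : OppX V x) (hz : z ∈ Zp) (hz' : z ∈ MulAut.conj x • Zp) :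
    z ∈ centralizer (X : Set G) := by
  refine hX.mem_of_comm h hx ho hz fun a ha => ?_
  rw [mem_conj] at ha hz'
  have h1 := h.commV _ ha _ (h.ZpV hz')
  calc a * z = x * ((x⁻¹ * a * x) * (x⁻¹ * z * x)) * x⁻¹ := by group
    _ = x * ((x⁻¹ * z * x) * (x⁻¹ * a * x)) * x⁻¹ := by rw [h1]
    _ = z * a := by group

omit [Finite G] h hX in
theorem conj_cent {x z : G} (hx : x ∈ X) (hz : z ∈ centralizer (X : Set G)) : x * z * x⁻¹ = z := by
  rw [mem_centralizer_iff.1 hz x hx, mul_inv_cancel_right]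

omit [Finite G] h hX in
theorem cent_conj {x z : G} (hx : x ∈ X) (hz : x⁻¹ * z * x ∈ centralizer (X : Set G)) :
    z ∈ centralizer (X : Set G) := by
  have h1 := conj_cent hx hz
  have e1 : x * (x⁻¹ * z * x) * x⁻¹ = z := by group
  rw [e1] at h1
  rwa [← h1] at hz

/-- `y ∈ Z⁺^x` commuting with `V` is in `C(X)`. -/
theorem mem_of_commV {x y : G} (hx : x ∈ X) (ho : OppX V x) (hy : y ∈ MulAut.conj x • Zp)
    (hc : ∀ a ∈ V, a * y = y * a) : y ∈ centralizer (X : Set G) := by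
  rw [mem_conj] at hy
  refine cent_conj hx (hX.mem_of_comm h (inv_mem hx) ho.inv hy fun a ha => ?_)
  rw [mem_conj, inv_inv] at ha
  have h1 := hc _ ha
  calc a * (x⁻¹ * y * x) = x⁻¹ * ((x * a * x⁻¹) * y) * x := by group
    _ = x⁻¹ * (y * (x * a * x⁻¹)) * x := by rw [h1]
    _ = x⁻¹ * y * x * a := by group

theorem conjZp_U {x : G} (hx : x ∈ X) : MulAut.conj x • Zp ≤ U := by
  have h1 := (conj_le_iff (g := x)).2 h.ZpU
  rwa [conj_eq_of_mem (h.HU (hX.XH hx))] at h1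

/-- `y ∈ Z⁺^x` commuting with `v ∈ V - Z⁺` is in `C(X)`. -/
theorem mem_of_comm' {x y v : G} (hx : x ∈ X) (ho : OppX V x) (hy : y ∈ MulAut.conj x • Zp) (hv : v ∈ V)
    (hvZ : v ∉ Zp) (hc : v * y = y * v) : y ∈ centralizer (X : Set G) :=
  hX.mem_of_commV h hx ho hy fun a ha => h.cent v hv hvZ y (hX.conjZp_U h hx hy) hc a ha

/-- **761 (5)** -/
theorem not_cm (hsyl : ¬ 2 ∣ S₀.relIndex X) {x y v : G} (hx : x ∈ X) (ho : OppX V x)
    (hy : y ∈ MulAut.conj x • Zp) (hyX : y ∉ centralizer (X : Set G)) (hv : v ∈ V) (hvZ : v ∉ Zp) :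
    cm v y ∉ centralizer (X : Set G) := by
  have : Fact (Nat.Prime 2) := ⟨Nat.prime_two⟩
  intro hcm
  apply hyX
  have hZ : cm v y ∈ Zp := h.VU v hv y (hX.conjZp_U h hx hy)
  refine hX.mem_of_comm' h hx ho hy hv hvZ ?_
  -- `g ↦ [g, y]` is a homomorphism on `K`
  have hmul : ∀ {a b : G}, a ∈ X → b ∈ X → cm b y ∈ centralizer (X : Set G) → cm (a * b) y = cm b y * cm a y := by
    intro a b ha hb hy1
    have e1 : cm (a * b) y = (a * cm b y * a⁻¹) * cm a y := by simp only [cm_def]; group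
    rw [e1, conj_cent ha hy1]
  have hyX' : y ∈ X := hX.conjV h hx (conj_le_iff.2 h.ZpV hy)
  let K : Subgroup G :=
    { carrier := {g | g ∈ X ∧ cm g y ∈ centralizer (X : Set G) ⊓ Zp}
      mul_mem' := by
        rintro a b ⟨ha, h1⟩ ⟨hb, h2⟩
        refine ⟨mul_mem ha hb, ?_⟩
        rw [hmul ha hb (mem_inf.1 h2).1]
        exact mul_mem h2 h1
      one_mem' := ⟨one_mem _, by rw [cm_def]; simp⟩
      inv_mem' := by
        rintro a ⟨ha, h1⟩
        refine ⟨inv_mem ha, ?_⟩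
        have e1 : cm a⁻¹ y = a⁻¹ * (cm a y)⁻¹ * a⁻¹⁻¹ := by simp only [cm_def]; group
        rw [e1, conj_cent (inv_mem ha) (inv_mem (mem_inf.1 h1).1)]
        exact inv_mem h1 }
  let φ : K →* G := MonoidHom.mk' (fun g => cm (g : G) y) fun a b => by
    have h1 := hmul a.2.1 b.2.1 (mem_inf.1 b.2.2).1
    have h2 : cm (b : G) y * cm (a : G) y = cm (a : G) y * cm (b : G) y := by
      refine (mem_centralizer_iff.1 (mem_inf.1 b.2.2).1 _ ?_).symm
      rw [cm_def]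
      exact mul_mem (mul_mem (mul_mem a.2.1 hyX') (inv_mem a.2.1)) (inv_mem hyX')
    change cm ((a * b : K) : G) y = _
    rw [← h2]
    exact h1
  have hSy : ∀ s ∈ MulAut.conj x • S₀, cm s y = 1 := by
    intro s hs
    rw [mem_conj] at hs hy
    have h1 := h.S0_comm hs hy
    rw [cm_eq_one]
    calc s * y = x * ((x⁻¹ * s * x) * (x⁻¹ * y * x)) * x⁻¹ := by group
      _ = x * ((x⁻¹ * y * x) * (x⁻¹ * s * x)) * x⁻¹ := by rw [h1]
      _ = y * s := by group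
  have hSK : MulAut.conj x • S₀ ≤ K := fun s hs => ⟨hX.conjS0 hx hs, by rw [hSy s hs]; exact one_mem _⟩
  have hSk : (MulAut.conj x • S₀).subgroupOf K ≤ φ.ker := by
    rintro ⟨s, hs⟩ h1
    rw [MonoidHom.mem_ker]
    exact hSy s h1
  have hind : ¬ 2 ∣ (MulAut.conj x • S₀).relIndex K := by
    intro h1
    apply hsyl
    have h2 : (MulAut.conj x • S₀).relIndex (MulAut.conj x • X) = S₀.relIndex X :=
      Subgroup.relIndex_pointwise_smul _ _ _
    rw [Subgroup.conj_smul_eq_self_of_mem hx] at h2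
    rw [← h2, ← relIndex_mul_relIndex _ K X hSK fun g hg => hg.1]
    exact h1.mul_right _
  have h1 : ¬ 2 ∣ φ.ker.index := fun h2 => hind (h2.trans (index_dvd_of_le hSk))
  have h2 : IsPGroup 2 φ.range := by
    have h3 : φ.range ≤ Zp := by
      rintro _ ⟨g, rfl⟩
      exact (mem_inf.1 g.2.2).2
    exact (S.isPGroup'.to_le (h.ZpV.trans h.VS)).to_le h3
  have h3 : φ.range = ⊥ := by
    obtain ⟨n, hn⟩ := IsPGroup.iff_card.mp h2
    rw [index_ker, hn] at h1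
    have hn0 : n = 0 := by
      by_contra h4
      exact h1 (dvd_pow_self 2 h4)
    rw [hn0, pow_zero] at hn
    exact Subgroup.eq_bot_of_card_eq _ hn
  have h4 : φ ⟨v, hX.VX h hv, mem_inf.2 ⟨hcm, hZ⟩⟩ ∈ φ.range := ⟨_, rfl⟩
  rw [h3, mem_bot] at h4
  exact cm_eq_one.1 h4

/-- **618 (e)** -/
theorem inf_o2_le {D : Subgroup G} (hDZ : D ≤ Zp) (hD1 : D ≠ ⊥) (hDX : D ⊓ centralizer (X : Set G) = ⊥)
    (hN : ∀ g ∈ normalizer (Zp : Set G), MulAut.conj g • D = D) : V ⊓ o2 X ≤ Zp := by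
  have : Fact (Nat.Prime 2) := ⟨Nat.prime_two⟩
  intro v hv
  obtain ⟨hvV, hvO⟩ := mem_inf.1 hv
  by_contra hvZ
  obtain ⟨x, hx, ho⟩ := hX.exists_opp h
  -- the 2-group `O₂(X) S₀^x`
  have hO : o2 X ≤ X := Cfsg.Agent.MinSimple.VModule.o2_le _
  set Q : Subgroup G := MulAut.conj x • S₀ ⊔ o2 X with hQ
  have hQ2 : IsPGroup 2 Q := by
    refine IsPGroup.to_sup_of_normal_right' ?_ (o2_isPGroup _) ((hX.conjS0 hx).trans (le_normalizer_o2 X))
    exact (S.isPGroup'.to_le h.S0S).map _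
  have hQX : Q ≤ X := sup_le (hX.conjS0 hx) hO
  have hcomm := h.comm (hX.XH hx) hQ2 (hQX.trans hX.XH) le_sup_left ((le_sup_right : o2 X ≤ Q) hvO)
  -- `[v, y] ∈ C(X)` for `y ∈ Z⁺^x`
  have hcm : ∀ y ∈ MulAut.conj x • Zp, cm v y ∈ centralizer (X : Set G) := by
    intro y hy
    refine hX.mem_of_comm h hx ho (h.VU v hvV y (hX.conjZp_U h hx hy)) fun a ha => ?_
    have hyV : y ∈ MulAut.conj x • V := conj_le_iff.2 h.ZpV hy
    have h1 : v * y * v⁻¹ ∈ MulAut.conj (v * x) • V := by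
      rw [← conj_conj]
      exact mem_conj' hyV
    have h2 := hcomm _ h1 _ ha
    have h3 : a * y⁻¹ = y⁻¹ * a := by
      have h4 : a * y = y * a := by
        have h5 := h.commV _ (mem_conj.1 ha) _ (mem_conj.1 hyV)
        calc a * y = x * ((x⁻¹ * a * x) * (x⁻¹ * y * x)) * x⁻¹ := by group
          _ = x * ((x⁻¹ * y * x) * (x⁻¹ * a * x)) * x⁻¹ := by rw [h5]
          _ = y * a := by group
      calc a * y⁻¹ = y⁻¹ * (y * a) * y⁻¹ := by group
        _ = y⁻¹ * (a * y) * y⁻¹ := by rw [h4]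
        _ = y⁻¹ * a := by group
    calc a * cm v y = (a * (v * y * v⁻¹)) * y⁻¹ := by rw [cm_def]; group
      _ = (v * y * v⁻¹ * a) * y⁻¹ := by rw [h2]
      _ = v * y * v⁻¹ * (a * y⁻¹) := by group
      _ = v * y * v⁻¹ * (y⁻¹ * a) := by rw [h3]
      _ = cm v y * a := by rw [cm_def]; group
  -- `v` normalises `Z⁺^x`
  have hvn : v ∈ normalizer ((MulAut.conj x • Zp : Subgroup G) : Set G) := by
    have h1 : ∀ y ∈ MulAut.conj x • Zp, v * y * v⁻¹ ∈ MulAut.conj x • Zp := by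
      intro y hy
      have h2 : cm v y ∈ MulAut.conj x • Zp := by
        rw [mem_conj]
        have h3 := conj_cent (inv_mem hx) (hcm y hy)
        rw [inv_inv] at h3
        rw [h3]
        exact h.VU v hvV y (hX.conjZp_U h hx hy)
      have e1 : v * y * v⁻¹ = cm v y * y := by rw [cm_def]; group
      rw [e1]
      exact mul_mem h2 hy
    have hvinv : v⁻¹ = v := inv_eq_of_mul_eq_one_left (h.sqV v hvV)
    rw [mem_normalizer_iff]
    intro y
    refine ⟨h1 y, fun hy => ?_⟩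
    have h2 := h1 _ hy
    rw [hvinv] at h2
    have e1 : v * (v * y * v) * v = (v * v) * y * (v * v) := by group
    rw [e1, h.sqV v hvV, one_mul, mul_one] at h2
    exact h2
  have hg : x⁻¹ * v * x ∈ normalizer (Zp : Set G) := by
    rw [mem_normalizer_iff] at hvn ⊢
    intro y
    have h1 := hvn (x * y * x⁻¹)
    simp only [mem_conj] at h1 ⊢
    have e1 : x⁻¹ * (x * y * x⁻¹) * x = y := by group
    have e2 : x⁻¹ * (v * (x * y * x⁻¹) * v⁻¹) * x = x⁻¹ * v * x * y * (x⁻¹ * v * x)⁻¹ := by group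
    rwa [e1, e2] at h1
  -- `v` normalises `D^x`
  have hDv : ∀ d ∈ MulAut.conj x • D, v * d * v⁻¹ ∈ MulAut.conj x • D := by
    intro d hd
    rw [mem_conj] at hd ⊢
    have h1 : (x⁻¹ * v * x) * (x⁻¹ * d * x) * (x⁻¹ * v * x)⁻¹ ∈ MulAut.conj (x⁻¹ * v * x) • D := mem_conj' hd
    rw [hN _ hg] at h1
    have e1 : (x⁻¹ * v * x) * (x⁻¹ * d * x) * (x⁻¹ * v * x)⁻¹ = x⁻¹ * (v * d * v⁻¹) * x := by group
    rwa [e1] at h1
  have hDxZ : MulAut.conj x • D ≤ MulAut.conj x • Zp := conj_le_iff.2 hDZ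
  have hfix : ∀ d ∈ MulAut.conj x • D, v * d = d * v → d = 1 := by
    intro d hd hc
    have h1 := hX.mem_of_comm' h hx ho (hDxZ hd) hvV hvZ hc
    have h2 := conj_cent (inv_mem hx) h1
    rw [inv_inv] at h2
    have h3 : d ∈ D ⊓ centralizer (X : Set G) := by
      refine mem_inf.2 ⟨?_, h1⟩
      rw [← h2]
      exact mem_conj.1 hd
    rw [hDX] at h3
    exact mem_bot.1 h3
  obtain ⟨d, hd, hd1⟩ := (bot_or_exists_ne_one D).resolve_left hD1
  set d' := x * d * x⁻¹ with hd'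
  have hd'D : d' ∈ MulAut.conj x • D := mem_conj' hd
  have hd'1 : d' ≠ 1 := by
    intro h1
    apply hd1
    have e1 : d = x⁻¹ * d' * x := by rw [hd']; group
    rw [e1, h1]
    group
  have hvinv : v⁻¹ = v := inv_eq_of_mul_eq_one_left (h.sqV v hvV)
  -- `d' · d'^v` is fixed by `v`
  have hw : v * d' * v⁻¹ ∈ MulAut.conj x • D := hDv d' hd'D
  have hab : d' * (v * d' * v⁻¹) = (v * d' * v⁻¹) * d' := by
    have h1 := h.commV _ (h.ZpV (hDZ (mem_conj.1 hd'D))) _ (h.ZpV (hDZ (mem_conj.1 hw)))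
    calc d' * (v * d' * v⁻¹) = x * ((x⁻¹ * d' * x) * (x⁻¹ * (v * d' * v⁻¹) * x)) * x⁻¹ := by group
      _ = x * ((x⁻¹ * (v * d' * v⁻¹) * x) * (x⁻¹ * d' * x)) * x⁻¹ := by rw [h1]
      _ = v * d' * v⁻¹ * d' := by group
  have h1 := hfix _ (mul_mem hd'D hw) (by
    calc v * (d' * (v * d' * v⁻¹)) = (v * d' * v⁻¹) * (v * v) * d' * v⁻¹ := by group
      _ = (v * d' * v⁻¹) * d' * v⁻¹ := by rw [h.sqV v hvV, mul_one]
      _ = (v * d' * v⁻¹) * d' * v := by rw [hvinv]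
      _ = d' * (v * d' * v⁻¹) * v := by rw [hab])
  -- so `v` fixes `d'`
  have hd2 : d' * d' = 1 := by
    have h2 := h.sqV _ (h.ZpV (hDZ (mem_conj.1 hd'D)))
    calc d' * d' = x * ((x⁻¹ * d' * x) * (x⁻¹ * d' * x)) * x⁻¹ := by group
      _ = 1 := by rw [h2]; group
  have h2 : v * d' * v⁻¹ = d' := by
    calc v * d' * v⁻¹ = d' * (d' * (v * d' * v⁻¹)) := by rw [← mul_assoc d', hd2, one_mul]
      _ = d' := by rw [h1, mul_one]
  exact hd'1 (hfix d' hd'D (by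
    calc v * d' = (v * d' * v⁻¹) * v := by group
      _ = d' * v := by rw [h2]))

end MinX

namespace Wc

variable [Finite G] {S : Sylow 2 G} {V U H S₀ Zp : Subgroup G} (h : Wc S V U H S₀ Zp)
include h

/-- `S₀` is a Sylow group of every `X` with `S₀ ≤ X ≤ C_H(R)`. -/
theorem not_dvd {R X : Subgroup G} (hRS : (S : Subgroup G) ≤ normalizer (R : Set G))
    (hR : (S : Subgroup G) ⊓ centralizer (R : Set G) ≤ S₀) (hX : S₀ ≤ X) (hXR : X ≤ centralizer (R : Set G)) :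
    ¬ 2 ∣ S₀.relIndex X := by
  have : Fact (Nat.Prime 2) := ⟨Nat.prime_two⟩
  have h0 : S₀ = (S : Subgroup G) ⊓ centralizer (R : Set G) :=
    le_antisymm (le_inf h.S0S (hX.trans hXR)) hR
  -- `C_S(R)` is a Sylow group of `C_G(R)`
  have h1 : ¬ 2 ∣ ((S : Subgroup G) ⊓ centralizer (R : Set G)).relIndex (centralizer (R : Set G)) := by
    rw [inf_relIndex_right]
    set L : Subgroup G := (S : Subgroup G) ⊔ centralizer (R : Set G) with hL
    have hn : L ≤ normalizer ((centralizer (R : Set G) : Subgroup G) : Set G) := by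
      refine sup_le ?_ le_normalizer
      refine le_normalizer_of fun s hs x hx => ?_
      rw [mem_centralizer_iff] at hx ⊢
      intro r hr
      have hr' : s⁻¹ * r * s ∈ R := by
        have h5 := conj_mem_of_mem (hRS (inv_mem hs)) hr
        rwa [inv_inv] at h5
      have h6 := hx _ hr'
      calc r * (s * x * s⁻¹) = s * ((s⁻¹ * r * s) * x) * s⁻¹ := by group
        _ = s * (x * (s⁻¹ * r * s)) * s⁻¹ := by rw [h6]
        _ = s * x * s⁻¹ * r := by group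
    have : ((centralizer (R : Set G)).subgroupOf L).Normal := (normal_subgroupOf_iff_le_normalizer le_sup_right).2 hn
    have h2 := Lib.SylowNormalInf.not_dvd_relIndex (S.subtype (le_sup_left : (S : Subgroup G) ≤ L))
      ((centralizer (R : Set G)).subgroupOf L)
    rwa [Sylow.coe_subtype, relIndex_subgroupOf le_sup_right] at h2
  intro h2
  apply h1
  rw [← h0]
  have h3 : S₀.relIndex X ∣ S₀.relIndex (centralizer (R : Set G)) := Dvd.intro _ (relIndex_mul_relIndex _ _ _ hX hXR)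
  exact h2.trans h3

/-- **618 (d)** -/
theorem exists_sylow {R : Subgroup G} (hRS : (S : Subgroup G) ≤ normalizer (R : Set G)) (hRZ : R ≤ Zp)
    (hR : (S : Subgroup G) ⊓ centralizer (R : Set G) ≤ S₀) (hne : ¬ V ≤ o2 (H ⊓ centralizer (R : Set G))) :
    ∃ X ≤ centralizer (R : Set G), MinX V H S₀ X ∧ ∃ x ∈ X, OppX V x ∧ ∀ y ∈ MulAut.conj x • Zp,
      y ∉ centralizer (X : Set G) → ∀ v ∈ V, v ∉ Zp → cm v y ∉ centralizer (X : Set G) := by
  have hSR : S₀ ≤ H ⊓ centralizer (R : Set G) := by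
    refine le_inf (h.S0S.trans h.SH) fun s hs => ?_
    rw [mem_centralizer_iff]
    intro r hr
    exact (h.S0_comm hs (hRZ hr)).symm
  obtain ⟨X, hXK, hX⟩ := exists_minX (inf_le_left : H ⊓ centralizer (R : Set G) ≤ H) hSR hne
  obtain ⟨x, hx, ho⟩ := hX.exists_opp h
  refine ⟨X, hXK.trans inf_le_right, hX, x, hx, ho, fun y hy hyX v hv hvZ => ?_⟩
  exact hX.not_cm h (h.not_dvd hRS hR hX.le (hXK.trans inf_le_right)) hx ho hy hyX hv hvZ

end Wc

end Cfsg.Agent.Omega.NOThreeL.RF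

end
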