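import Cfsg.Agent.Mrg.Omega.NOThreeL.RF.Four
import Cfsg.Agent.Mrg.Omega.NOThreeL.RFourFrame
import Cfsg.Agent.Mrg.Omega.NOThreeL.RFEnd.Final


/-!
# NO-3L, `R ∩ (A)`, `k = 1`, nonsplit, fields (`NsF`): the frame `RFEnd.HypF` at `H*`

`L : Four M g` (837), `D : HypM S P H₀`, `C_Z(P) ≠ 1`.

* `exists_star` : `H*` minimal with `TB M ≤ H* ≤ N_G(R)`, `V ≰ O₂(H*)`;
* **`exists_hypF`** : `∃ H B, RFEnd.HypF (co M) S P H (Zp M) (Rt M) (cv S P) B`;
* **`false_of`** : contradiction (with `RFEnd.HypF.false`).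
-/

set_option autoImplicit false
set_option linter.unusedSectionVars false

namespace Cfsg.Agent.Omega.NOThreeL.RF.InstF

open Subgroup Cfsg Cfsg.Agent.Omega.MinPar
open Cfsg.Agent.ZN (zc zl o2)
open Cfsg.Agent.Omega.Frame Cfsg.Agent.Omega.FrameNOFF
open Cfsg.Agent.Omega.Node.NO3L Cfsg.Agent.Omega.NOThreeL.Basic
open Cfsg.Agent.Omega.NoFF.Basic (conj_conj mem_conj conj_le_iff conj_le_centralizer comm_symm comm_mono)
open Cfsg.Agent.Omega.NOThreeL.Pair (conj_eq_of_mem)
open Cfsg.Agent.MinSimple.VModule (zl_le zc_le_zl le_normalizer_zl zc_le o2_isPGroup le_normalizer_o2 le_o2 o2_le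
  normalizer_le_normalizer_zc mem_zc)
open Cfsg.Agent.Omega.NOThreeL (mem_normalizer_of_conj_eq le_normalizer_of mem_sup_of_comm)
open Cfsg.Agent.Omega.NOThreeL.RTools (cm cm_def NN conj_mem_of_mem conj_le_NN le_NN NN_le le_normalizer_NN)
open Cfsg.Agent.Omega.NOThreeL.AOne (Act)
open Cfsg.Agent.Omega.NOThreeL.RFour (mem_centralizer_of_act)
open Cfsg.Agent.Omega.FFThm (NatK ActsSL)
open Cfsg.Agent.Omega.FrameFF (cv)
open Cfsg.Agent.Omega.HOne (cv_le conj_mem_zl conj_mem_cv)
open Cfsg.Agent.Omega.IId.ThmCQ.Nsp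
open Cfsg.Agent.Omega.NOThreeL.RF.Pre
open Cfsg.Agent.Lib.SL2Mat
open Cfsg.Agent.Omega.NatPair (ap ap_mul ap_one ap_inv_ap)
open scoped Pointwise commutatorElement

universe u

variable {G : Type u} [Group G] [Finite G]

/-- `A ≤ O₂(C)`, `A ≤ H`, `[A, U] = 1` with `Z ≤ U` normal in `H` imply `A ≤ O₂(H)`. -/
theorem le_o2_of_comm' {S A H U : Subgroup G} (hA : A ≤ o2 (CZ S)) (hAH : A ≤ H) (hU : zc S ≤ U)
    (hHU : H ≤ normalizer (U : Set G)) (h : A ≤ centralizer (U : Set G)) : A ≤ o2 H := by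
  have hK : H ⊓ centralizer (U : Set G) ≤ CZ S := inf_le_right.trans (centralizer_le hU)
  have h1 : A ≤ o2 (H ⊓ centralizer (U : Set G)) := Four.le_o2_of_le hK (le_inf hAH h) hA
  refine h1.trans (le_o2 ((o2_le _).trans inf_le_left) (o2_isPGroup _) ?_)
  have h2 : H ≤ normalizer ((H ⊓ centralizer (U : Set G) : Subgroup G) : Set G) := by
    refine le_normalizer_of fun k hk x hx => mem_inf.2 ⟨mul_mem (mul_mem hk (mem_inf.1 hx).1) (inv_mem hk), ?_⟩
    rw [mem_centralizer_iff]
    intro y hy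
    have hy' : k⁻¹ * y * k ∈ U := by
      have h3 := conj_mem_of_mem (hHU (inv_mem hk)) hy
      rwa [inv_inv] at h3
    have h4 := mem_centralizer_iff.1 (mem_inf.1 hx).2 _ hy'
    calc y * (k * x * k⁻¹) = k * ((k⁻¹ * y * k) * x) * k⁻¹ := by group
      _ = k * (x * (k⁻¹ * y * k)) * k⁻¹ := by rw [h4]
      _ = k * x * k⁻¹ * y := by group
  exact h2.trans (Cfsg.Agent.Omega.normalizer_le_normalizer_o2' _)

variable {F : Type} [Field F] [Finite F] [CharP F 2] {S : Sylow 2 G} {P : Subgroup G}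
  {M : NatK F (S : Subgroup G) P (zl (S : Subgroup G) P) (cv (S : Subgroup G) P) 1}

/-- `H*` -/
theorem exists_star (q : Sit F S P 1) (hV : ¬ zl (S : Subgroup G) P ≤ o2 (centralizer (Rt M : Set G))) :
    ∃ H : Subgroup G, TB M ≤ H ∧ H ≤ normalizer (Rt M : Set G) ∧ ¬ zl (S : Subgroup G) P ≤ o2 H ∧
      ∀ K : Subgroup G, TB M ≤ K → K ≤ H → K ≠ H → zl (S : Subgroup G) P ≤ o2 K := by
  classical
  let s : Set (Subgroup G) := {H | TB M ≤ H ∧ H ≤ normalizer (Rt M : Set G) ∧ ¬ zl (S : Subgroup G) P ≤ o2 H}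
  have hVR : zl (S : Subgroup G) P ≤ centralizer (Rt M : Set G) := by
    intro v hv
    rw [mem_centralizer_iff]
    intro r hr
    exact V_comm q (R_le_V q hr) hv
  have hs : s.Nonempty := ⟨normalizer (Rt M : Set G), TB_norm_R, le_rfl, fun h =>
    hV (Four.le_o2_of_le (centralizer_le_normalizer _) hVR h)⟩
  obtain ⟨H, hH⟩ := (Set.toFinite s).exists_minimal hs
  obtain ⟨⟨h1, h2, h3⟩, h4⟩ := hH
  refine ⟨H, h1, h2, h3, fun K h5 h6 h7 => ?_⟩
  by_contra h8
  exact h7 (le_antisymm h6 (h4 ⟨h5, h6.trans h2, h8⟩ h6))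

variable {g : F → G} (L : Four M g)
include L

/-- **The frame of (f).** -/
theorem exists_hypF {H₀ : Subgroup G} (D : HypM S P H₀) (hE : zc (S : Subgroup G) ⊓ centralizer (P : Set G) ≠ ⊥) :
    ∃ H B : Subgroup G, RFEnd.HypF (co M) S P H (Zp M) (Rt M) (cv (S : Subgroup G) P) B := by
  have q := L.sit
  have hgs := (L.bij D).2
  obtain ⟨H, hBH, hHR, hVH, hmin⟩ := exists_star q (L.not_le D)
  have hSH : (S : Subgroup G) ≤ H := (S_le_TB q).trans hBH
  have hVS := V_le_S q
  have hVH' : zl (S : Subgroup G) P ≤ H := hVS.trans hSH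
  have hR2 : IsPGroup 2 (Rt M) := S.isPGroup'.to_le ((R_le_V q).trans hVS)
  have hloc : IsLoc (S : Subgroup G) H :=
    (isLoc_normalizer S hR2 (Zf_ne_bot q 0) (S_norm_R q)).of_le S hSH hHR
  set U := zl (S : Subgroup G) H with hUdef
  have hHU : H ≤ normalizer (U : Set G) := le_normalizer_zl _ _
  have hZU : zc (S : Subgroup G) ≤ U := zc_le_zl _ _
  have hne : ¬ zl (S : Subgroup G) P ≤ centralizer (U : Set G) := fun h =>
    hVH (le_o2_of_comm' (L.data.low P L.par) hVH' hZU hHU h)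
  have hUS : U ≤ (S : Subgroup G) := ((hloc.zl_le S L.hc).trans (zc_le _)).trans (hloc.o2_le S)
  have hBU : TB M ≤ normalizer (U : Set G) := hBH.trans hHU
  have hRU : Rt M ≤ U := R_le_of q hZU hBU
  have hUab : ∀ x ∈ U, ∀ y ∈ U, x * y = y * x := fun x hx y hy =>
    mem_centralizer_iff.mp ((Pair.zl_abel L.hc S hloc).1 hy) x hx
  have hUL : U ≤ LS M := fun u hu => L.S0R u (hUS hu) fun r hr => hUab u hu r (hRU hr)
  have hcmU : ∀ v ∈ zl (S : Subgroup G) P, ∀ u ∈ U, cm v u ∈ U := by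
    intro v hv u hu
    have e1 : cm v u = (v * u * v⁻¹) * u⁻¹ := by rw [cm_def]
    rw [e1]
    exact mul_mem (conj_mem_of_mem (hHU (hVH' hv)) hu) (inv_mem hu)
  have hZpU : Zp M ≤ U := Zp_le_of q L.isG hUL hBU hne hgs hcmU hRU
  have hNR : NN (S : Subgroup G) P H ≤ centralizer (Rt M : Set G) := by
    refine NN_le fun x hx => ?_
    intro a ha
    rw [mem_conj] at ha
    rw [mem_centralizer_iff]
    intro r hr
    have hr' : x⁻¹ * r * x ∈ Rt M := by
      have h3 := conj_mem_of_mem (hHR (inv_mem hx)) hr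
      rwa [inv_inv] at h3
    have h4 := V_comm q (R_le_V q hr') ha
    calc r * a = x * ((x⁻¹ * r * x) * (x⁻¹ * a * x)) * x⁻¹ := by group
      _ = x * ((x⁻¹ * a * x) * (x⁻¹ * r * x)) * x⁻¹ := by rw [h4]
      _ = a * r := by group
  have hNH : NN (S : Subgroup G) P H ≤ H := NN_le fun x hx => by
    have h1 := conj_le_iff (g := x).2 hVH'
    rwa [conj_eq_of_mem (Subgroup.le_normalizer hx)] at h1
  refine ⟨H, TB M, ?_⟩
  exact
    { hc := L.hc
      data := L.data
      par := L.par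
      loc := hloc
      ne := hne
      mul := fun v hv w hw => by
        show M.e (v * w) 0 = _
        rw [M.mul v hv w hw]
        rfl
      surj := fun x => by
        obtain ⟨v, hv, h⟩ := M.surj fun _ => x
        exact ⟨v, hv, by show M.e v 0 = x; rw [h]⟩
      ker := fun v hv => by
        rw [mem_D (M := M) hv]
        constructor
        · intro h
          have h' : M.e v 0 = 0 := h
          exact ⟨congrFun h' 0, congrFun h' 1⟩
        · rintro ⟨h1, h2⟩
          show M.e v 0 = 0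
          exact NatPair.ext2 h1 h2
      line := fun v hv => ⟨fun h => ⟨hv, h⟩, fun h => h.2⟩
      lift := fun A => by
        obtain ⟨x, hx, h⟩ := M.lift fun _ => A
        exact ⟨x, hx, fun v hv => h.1 v hv 0⟩
      up1 := fun u hu => ⟨bet M u, act_iff (bet_LS q (hUL hu))⟩
      up2 := fun b => by
        obtain ⟨u, hu, h⟩ := full q hUL hBU hne b
        refine ⟨u, hu, ?_⟩
        have h1 := act_iff (bet_LS q (hUL hu))
        rwa [h] at h1
      cent := fun x hx h => by
        have hxP : x ∈ P := q.h.le (hUS hx)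
        exact mem_centralizer_of_act q.hG S q.h M.natOver hxP h
      ZV := Zp_le
      ZU := hZpU
      zcZ := Z_le_Zp q
      RZ := R_le_Zp q
      DZ := D_le_Zp
      ZRD := fun z hz => by
        obtain ⟨r, hr, d, hd, rfl⟩ := exists_rd q hz
        exact mul_mem (mem_sup_left hr) (mem_sup_right hd)
      RD := by
        rw [eq_bot_iff]
        intro x hx
        exact mem_bot.2 (R_inf_D q (mem_inf.1 hx).1 (mem_inf.1 hx).2)
      PD := P_norm_D
      ZUV := by
        refine Zp_le_of q L.isG hUL hBU hne hgs (fun v hv u hu => ?_) le_sup_right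
        have e1 : cm v u = ⁅u, v⁆⁻¹ := by rw [cm_def, commutatorElement_def]; group
        rw [e1]
        exact inv_mem (mem_sup_left (commutator_mem_commutator hu hv))
      SB := S_le_TB q
      BP := TB_le_P
      BH := hBH
      BZ := TB_norm_Zp q
      HB := by
        by_contra hcon
        have hle : NN (S : Subgroup G) P H ⊔ TB M ≤ H := sup_le hNH hBH
        have h1 := hmin _ le_sup_right hle fun h => hcon (by rw [h])
        have h2 : zl (S : Subgroup G) P ≤ o2 (NN (S : Subgroup G) P H) :=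
          Four.le_o2_of_le le_sup_left (le_NN _ _ _) h1
        refine hVH (h2.trans (le_o2 ((o2_le _).trans hNH) (o2_isPGroup _) ?_))
        exact (le_normalizer_NN _ _ _).trans (Cfsg.Agent.Omega.normalizer_le_normalizer_o2' _)
      HRp := hHR
      NR := hNR
      SN := fun s hs => by
        obtain ⟨h1, h2⟩ := mem_inf.1 hs
        have h3 : s ∈ LS M := L.S0R s h1 fun r hr => (mem_centralizer_iff.1 (hNR h2) r hr).symm
        rw [mem_centralizer_iff]
        intro z hz
        exact (Zp_comm q hz h3).symm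
      field := fun s hs h => fld q L.S0R hs h
      gd := L.gd
      good := fun z hz hzR => L.good hz hzR
      tor := fun z hz => tor_mem q hz
      eps := by
        obtain ⟨x, hx, hx1⟩ := (bot_or_exists_ne_one _).resolve_left hE
        refine ⟨x, mem_inf.2 ⟨(mem_inf.1 hx).1, mem_inf.2 ⟨zc_le_zl _ _ (mem_inf.1 hx).1, ?_⟩⟩, hx1⟩
        exact centralizer_le (Cfsg.Agent.MinSimple.VModule.oddGen_le P) (mem_inf.1 hx).2 }

/-- **`Four` is contradictory**: (f) END of #22083. -/
theorem false_of {H₀ : Subgroup G} (D : HypM S P H₀)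
    (hE : zc (S : Subgroup G) ⊓ centralizer (P : Set G) ≠ ⊥) : False := by
  obtain ⟨H, B, h⟩ := exists_hypF L D hE
  exact h.false

end Cfsg.Agent.Omega.NOThreeL.RF.InstF
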