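import Cfsg.Agent.Mrg.Omega.NOThreeL.RF.GNe
import Cfsg.Agent.Mrg.Omega.NOThreeL.NsF.CountG
import Cfsg.Agent.Mrg.Omega.NOThreeL.RF.InstF
import Cfsg.Agent.Mrg.Omega.NOThreeL.NsF.NormZ
import Cfsg.Agent.Mrg.Omega.NOThreeL.RTreeA


/-!
# NO-3L, `R ∩ (A)`, `NsF`: the assembly

* `NormDF` : `N_G(Z⁺)` normalises `D` (F3) as a socket; `nsF_of` : `NormDF` implies `RTreeA.NsF`;
* **`nsF`** : `RTreeA.NsF` (`k = 1`, not split, field automorphisms).
-/

set_option autoImplicit false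

namespace Cfsg.Agent.Omega.NOThreeL.RF

open Subgroup Cfsg Cfsg.Agent.Omega.MinPar
open Cfsg.Agent.ZN (zc zl o2)
open Cfsg.Agent.Omega.Node.NO3L Cfsg.Agent.Omega.NOThreeL.Basic
open Cfsg.Agent.Omega.NOThreeL.RTreeA (BigA Splits SplitBy)
open Cfsg.Agent.Omega.FFThm (NatK NatKM)
open Cfsg.Agent.Omega.FrameFF (cv)
open Cfsg.Agent.Omega.IId.ThmCQ.Nsp
open scoped Pointwise

universe u

/-- F3 as a socket. -/
def NormDF : Prop :=
  ∀ (G : Type u) [Group G] [Finite G] (S : Sylow 2 G) (P H : Subgroup G) (F : Type) [Field F] [Finite F]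
    [CharP F 2], BigA S P H F 1 →
      ∀ M : NatK F (S : Subgroup G) P (zl (S : Subgroup G) P) (cv (S : Subgroup G) P) 1,
        ¬ Splits (S : Subgroup G) P (cv (S : Subgroup G) P) →
          ¬ (∀ x : F, ∃ z ∈ zc (S : Subgroup G), M.e z 0 = ![x, 0]) →
            ∀ (_ : Sit F S P 1) (g : F → G), IsG M g →
              ∀ x ∈ normalizer (Zp M : Set G), MulAut.conj x • cv (S : Subgroup G) P = cv (S : Subgroup G) P

theorem nsF_of (h3 : NormDF.{u}) : RTreeA.NsF.{u} := by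
  intro G _ _ S P H F _ _ _ h M hS hx
  have q : Sit F S P 1 := sit_of h
  obtain ⟨g, hg⟩ := exists_isG (M := M.toNatK) q
  have L : Four M.toNatK g :=
    Four.of h.data q hg (exists_ne q hg hS) (h3 G S P H F h M.toNatK hS hx q g hg)
  exact InstF.false_of L (hypM_of h) (inf_ne h hS)

/-- **`NsF`**: `V_P` natural `SL₂(F)`, not split, `|Z/C_Z(P)| < |F|`. -/
theorem nsF : RTreeA.NsF.{u} :=
  nsF_of fun _ _ _ _ _ _ _ _ _ _ h _ _ hx q _ hg => NsF.norm_D q hg (hypM_of h) hx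

end Cfsg.Agent.Omega.NOThreeL.RF
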