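import Cfsg.Agent.Mrg.Omega.NOThreeL.RF.Lvl
import Cfsg.Agent.Mrg.Omega.NOThreeL.RA.NsOne
import Cfsg.Agent.Mrg.Omega.IId.Ns.Pair


/-!
# NO-3L, `R ∩ (A)`, `NsF`: `V_P` does not split, so `g` is not trivial

* `sit_of`, `hypM_of`, `inf_ne` : the frames from `RTreeA.BigA S P H F 1`;
* `sup_of_trivial` : if `g = 0`, then `[V, x] ≤ R R^w` for every `x ∈ P` acting as an element of `SL₂(F)`;
* **`exists_ne`** : if `V_P` does not split over `C_V(O²(P))`, then `g x ≠ 1` for some `x`.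
-/

set_option autoImplicit false
set_option linter.unusedSectionVars false

namespace Cfsg.Agent.Omega.NOThreeL.RF

open Subgroup Cfsg Cfsg.Agent.Omega.MinPar
open Cfsg.Agent.ZN (zc zl o2)
open Cfsg.Agent.Omega.Frame Cfsg.Agent.Omega.FrameNOFF
open Cfsg.Agent.Omega.Node.NO3L Cfsg.Agent.Omega.NOThreeL.Basic
open Cfsg.Agent.Omega.NoFF.Basic (conj_conj mem_conj conj_le_iff conj_le_centralizer comm_symm comm_mono)
open Cfsg.Agent.MinSimple.VModule (zl_le zc_le_zl le_normalizer_zl zc_le o2_isPGroup le_normalizer_o2 le_o2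
  normalizer_le_normalizer_zc mem_zc)
open Cfsg.Agent.Omega.NOThreeL (mem_normalizer_of_conj_eq le_normalizer_of mem_sup_of_comm)
open Cfsg.Agent.Omega.NOThreeL.RTools (cm cm_def conj_mem_of_mem)
open Cfsg.Agent.Omega.NOThreeL.RTreeA (BigA Splits SplitBy)
open Cfsg.Agent.Omega.FFThm (NatK ActsSL)
open Cfsg.Agent.Omega.FrameFF (cv)
open Cfsg.Agent.Omega.HOne (cv_le conj_mem_zl conj_mem_cv)
open Cfsg.Agent.Omega.HOne.Main (vx SplitPar)
open Cfsg.Agent.Omega.IId.Ns (Al Mv Fc Nc Uc one1 one1_same one1_ne exists_omega exists_of_Fc)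
open Cfsg.Agent.Omega.IId.ThmCQ.Nsp
open Cfsg.Agent.Lib.SL2Mat
open Cfsg.Agent.Omega.NatPair (ap ap_mul ap_one ap_inv_ap)
open scoped Pointwise

universe u

variable {G : Type u} [Group G] [Finite G] {F : Type} [Field F] [Finite F] [CharP F 2] {S : Sylow 2 G} {P : Subgroup G}

/-- `|F| ≥ 4` -/
theorem four_le_of_two_lt (h : 2 < Nat.card F) : 4 ≤ Nat.card F := by
  have : Fintype F := Fintype.ofFinite F
  have : Fact (Nat.Prime 2) := ⟨Nat.prime_two⟩
  obtain ⟨n, -, h1⟩ := FiniteField.card F 2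
  rw [Nat.card_eq_fintype_card, h1] at h ⊢
  have h2 : 1 < (n : ℕ) := by
    by_contra hcon
    have h3 : (n : ℕ) = 1 := by have := n.pos; omega
    rw [h3] at h
    omega
  calc 4 = 2 ^ 2 := rfl
    _ ≤ 2 ^ (n : ℕ) := Nat.pow_le_pow_right (by norm_num) h2

theorem sit_of {H : Subgroup G} (h : BigA S P H F 1) : Sit F S P 1 :=
  ⟨h.ctx.char2, h.pair.par, one_pos, four_le_of_two_lt h.big⟩

theorem hypM_of {H : Subgroup G} (h : BigA S P H F 1) : HypM S P H :=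
  ⟨h.ctx.char2, h.data, h.pair.par, h.pair.long, h.pair.ne, h.min⟩

theorem inf_ne {H : Subgroup G} (h : BigA S P H F 1) (hs : ¬ Splits (S : Subgroup G) P (cv (S : Subgroup G) P)) :
    zc (S : Subgroup G) ⊓ centralizer (P : Set G) ≠ ⊥ :=
  fun h0 => hs (RA.splits_of_inf_eq_bot h.ctx.char2 h.pair.par h0)

section main

variable {M : NatK F (S : Subgroup G) P (zl (S : Subgroup G) P) (cv (S : Subgroup G) P) 1} (q : Sit F S P 1)
  {g : F → G} (hg : IsG M g) (h0 : ∀ x, g x = 1)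
include q hg h0

/-- `[v, x] ∈ R` if `x` acts as `up b` -/
theorem cm_up {x v : G} (hx : x ∈ P) {b : F}
    (hA : ActsSL M.e (zl (S : Subgroup G) P) (cv (S : Subgroup G) P) x fun _ => up b)
    (hv : v ∈ zl (S : Subgroup G) P) : cm v x ∈ Rt M := by
  obtain ⟨s, hs, hb⟩ := bet_surj (M := M) q b
  have hs' := bet_LS q hs
  rw [hb] at hs'
  rw [cm_congr (M := M) q hv hv hx (q.h.le hs.1) rfl hA hs']
  exact (eps_eq_one q (e_cm q hv hs).1).1 (by rw [hg.br v hv s hs]; exact h0 _)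

/-- `[v, x] ∈ R^w` if `x` acts as `lo b` -/
theorem cm_lo {w : G} (hw : w ∈ P)
    (hwA : ActsSL M.e (zl (S : Subgroup G) P) (cv (S : Subgroup G) P) w fun _ => wm 1 one_ne_zero) {x v : G} (hx : x ∈ P)
    {b : F} (hA : ActsSL M.e (zl (S : Subgroup G) P) (cv (S : Subgroup G) P) x fun _ => lo b)
    (hv : v ∈ zl (S : Subgroup G) P) : cm v x ∈ MulAut.conj w • Rt M := by
  have h1 : ActsSL M.e (zl (S : Subgroup G) P) (cv (S : Subgroup G) P) (w⁻¹ * x * w) fun _ => up (-b) := by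
    have h2 := IId.Ns.acts_mul M (mul_mem (inv_mem hw) hx) hw
      (IId.Ns.acts_mul M (inv_mem hw) hx (IId.Ns.acts_inv M hw hwA) hA) hwA
    have h3 : (fun _ : Fin 1 => (wm 1 one_ne_zero)⁻¹ * lo b * wm 1 one_ne_zero) =
        fun _ : Fin 1 => (up (-b) : Matrix.SpecialLinearGroup (Fin 2) F) := by
      funext _
      have h4 := wm_up (1 : F) (-b) one_ne_zero
      rw [one_pow, div_one, neg_neg] at h4
      rw [mul_assoc, ← h4, inv_mul_cancel_left]
    rwa [h3] at h2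
  rw [mem_conj]
  have h2 := cm_up q hg h0 (mul_mem (mul_mem (inv_mem hw) hx) hw) h1 (conj_mem_zl (inv_mem hw) hv)
  rw [inv_inv] at h2
  have e : w⁻¹ * cm v x * w = cm (w⁻¹ * v * w) (w⁻¹ * x * w) := by simp only [cm_def]; group
  rwa [e]

/-- **`[V, x] ≤ R R^w`** -/
theorem cm_mem_supw {w : G} (hw : w ∈ P)
    (hwA : ActsSL M.e (zl (S : Subgroup G) P) (cv (S : Subgroup G) P) w fun _ => wm 1 one_ne_zero) {x v : G} (hx : x ∈ P)
    {A : Matrix.SpecialLinearGroup (Fin 2) F}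
    (hA : ActsSL M.e (zl (S : Subgroup G) P) (cv (S : Subgroup G) P) x fun _ => A)
    (hv : v ∈ zl (S : Subgroup G) P) : cm v x ∈ Rt M ⊔ MulAut.conj w • Rt M := by
  set W := Rt M ⊔ MulAut.conj w • Rt M with hW
  have hWV : W ≤ zl (S : Subgroup G) P := by
    refine sup_le (R_le_V q) fun y hy => ?_
    rw [mem_conj] at hy
    have h1 := conj_mem_zl hw (R_le_V q hy)
    have e : w * (w⁻¹ * y * w) * w⁻¹ = y := by group
    rwa [e] at h1
  -- products
  have hmul : ∀ a ∈ P, ∀ b ∈ P, (∀ v ∈ zl (S : Subgroup G) P, cm v a ∈ W) → (∀ v ∈ zl (S : Subgroup G) P, cm v b ∈ W) →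
      ∀ v ∈ zl (S : Subgroup G) P, cm v (a * b) ∈ W := by
    intro a _ b _ h1 h2 v hv
    have e : cm v (a * b) = cm v a * ((cm (cm v b) a)⁻¹ * cm v b) := by simp only [cm_def]; group
    rw [e]
    exact mul_mem (h1 v hv) (mul_mem (inv_mem (h1 _ (hWV (h2 v hv)))) (h2 v hv))
  obtain ⟨a, b, c, d, hAe⟩ := exists_up_lo A
  obtain ⟨xa, hxa, hXa⟩ := M.lift fun _ => up a
  obtain ⟨xb, hxb, hXb⟩ := M.lift fun _ => lo b
  obtain ⟨xc, hxc, hXc⟩ := M.lift fun _ => up c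
  obtain ⟨xd, hxd, hXd⟩ := M.lift fun _ => lo d
  have ha : ∀ v ∈ zl (S : Subgroup G) P, cm v xa ∈ W := fun v hv => mem_sup_left (cm_up q hg h0 hxa hXa hv)
  have hb : ∀ v ∈ zl (S : Subgroup G) P, cm v xb ∈ W := fun v hv => mem_sup_right (cm_lo q hg h0 hw hwA hxb hXb hv)
  have hc : ∀ v ∈ zl (S : Subgroup G) P, cm v xc ∈ W := fun v hv => mem_sup_left (cm_up q hg h0 hxc hXc hv)
  have hd : ∀ v ∈ zl (S : Subgroup G) P, cm v xd ∈ W := fun v hv => mem_sup_right (cm_lo q hg h0 hw hwA hxd hXd hv)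
  have h1 := hmul _ (mul_mem (mul_mem hxa hxb) hxc) _ hxd
    (hmul _ (mul_mem hxa hxb) _ hxc (hmul _ hxa _ hxb ha hb) hc) hd v hv
  have h2 : ActsSL M.e (zl (S : Subgroup G) P) (cv (S : Subgroup G) P) (xa * xb * xc * xd) fun _ => A := by
    have h3 := IId.Ns.acts_mul M (mul_mem (mul_mem hxa hxb) hxc) hxd
      (IId.Ns.acts_mul M (mul_mem hxa hxb) hxc (IId.Ns.acts_mul M hxa hxb hXa hXb) hXc) hXd
    rwa [← hAe] at h3
  have h3 := IId.Ns.same_V q.hG S q.h q.hk M hx (mul_mem (mul_mem (mul_mem hxa hxb) hxc) hxd) hA h2 _ (inv_mem hv)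
  have e : cm v x = cm v (xa * xb * xc * xd) := by
    have e1 : cm v x = v * (x * v⁻¹ * x⁻¹) := by rw [cm_def]; group
    rw [e1, h3, cm_def]
    group
  rwa [e]

/-- `g = 0` implies `U_0 = 1` -/
theorem Uc_eq_bot : Uc M 0 = ⊥ := by
  obtain ⟨w, hw, hwA⟩ := M.lift fun _ => wm 1 one_ne_zero
  rw [eq_bot_iff]
  intro n hn
  have h1 : Nc M 0 ≤ Rt M ⊔ MulAut.conj w • Rt M := by
    rw [Nc, closure_le]
    rintro y ⟨x, hx, v, hv, rfl⟩
    obtain ⟨B, hB⟩ := exists_of_Fc hx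
    obtain ⟨hxP, hxB⟩ := Al_iff.1 hB
    have e : x * v * x⁻¹ * v⁻¹ = (cm v x)⁻¹ := by rw [cm_def]; group
    rw [e]
    exact inv_mem (cm_mem_supw q hg h0 hw hwA hxP hxB hv)
  have h2 : Rt M ≤ centralizer ((MulAut.conj w • Rt M : Subgroup G) : Set G) := by
    intro r hr
    rw [mem_centralizer_iff]
    intro y hy
    have hy' := mem_conj.1 hy
    have h1 := conj_mem_zl hw (R_le_V q hy')
    have e : w * (w⁻¹ * y * w) * w⁻¹ = y := by group
    rw [e] at h1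
    exact V_comm q h1 (R_le_V q hr)
  obtain ⟨r, hr, y, hy, rfl⟩ := mem_sup_of_comm h2 (h1 hn.1)
  have hy' := mem_conj.1 hy
  have hrV := R_le_V q hr
  have hyV' := R_le_V q hy'
  have ey : y = w * (w⁻¹ * y * w) * w⁻¹ := by group
  have hyV : y ∈ zl (S : Subgroup G) P := by rw [ey]; exact conj_mem_zl hw hyV'
  obtain ⟨hD0, hD1⟩ := (mem_D (M := M) (mul_mem hrV hyV)).1 hn.2
  rw [e_add hrV hyV] at hD0 hD1
  -- the coordinates of `y`
  have hye : ∀ i, M.e y 0 i = ap (wm (1 : F) one_ne_zero) (M.e (w⁻¹ * y * w) 0) i := by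
    intro i
    have h3 := hwA.1 _ hyV' 0
    rw [← ey] at h3
    rw [h3]
  have hline : M.e (w⁻¹ * y * w) 0 1 = 0 := (R_le_Zp q hy').2
  have hy0 : M.e y 0 0 = 0 := by
    rw [hye, NatPair.ap_zero', wm_00, wm_01, hline]
    ring
  have hr0 : M.e r 0 0 = 0 := by rwa [hy0, add_zero] at hD0
  have hr1 : r = 1 := R_eq_one q hr hr0
  have hy1 : M.e y 0 1 = 0 := by
    have h3 : M.e r 0 1 = 0 := (R_le_Zp q hr).2
    rwa [h3, zero_add] at hD1
  have hz0 : M.e (w⁻¹ * y * w) 0 0 = 0 := by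
    rw [hye, NatPair.ap_one', wm_10, wm_11, hline] at hy1
    simpa using hy1
  have hz : w⁻¹ * y * w = 1 := R_eq_one q hy' hz0
  rw [mem_bot, hr1, one_mul, ey, hz]
  group

end main

/-- **`V_P` not split implies `g ≠ 0`.** -/
theorem exists_ne {M : NatK F (S : Subgroup G) P (zl (S : Subgroup G) P) (cv (S : Subgroup G) P) 1} (q : Sit F S P 1)
    {g : F → G} (hg : IsG M g) (hs : ¬ Splits (S : Subgroup G) P (cv (S : Subgroup G) P)) : ∃ x, g x ≠ 1 := by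
  by_contra hcon
  push Not at hcon
  have h1 : SplitPar (S : Subgroup G) P := IId.Ns.splitPar_of_Uc q.hG S q.h (Uc_eq_bot q hg hcon)
  exact hs ⟨vx (S : Subgroup G) P, HOne.vx_le _ _, HOne.le_normalizer_vx _ _, h1, (IId.Cv.sup_eq M).ge⟩

end Cfsg.Agent.Omega.NOThreeL.RF
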